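import Mathlib

/-!
# Short annihilating polynomials of matrices of finite order
-/

set_option autoImplicit false
set_option linter.style.haveILetI false

namespace CfsgLib.KpThree

open Polynomial

/-- An endomorphism killed by `X ^ R - 1` is killed by a short product of linear factors. -/
theorem exists_roots_list {V : Type*} [AddCommGroup V] [Module ℂ V] [FiniteDimensional ℂ V] {R : ℕ}
    [NeZero R] {ζ : ℂ} (hζ : IsPrimitiveRoot ζ R) (g : Module.End ℂ V)
    (hg : aeval g (X ^ R - 1 : ℂ[X]) = 0) : ∃ s : List ℕ, s.length ≤ Module.finrank ℂ V ∧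
      aeval g ((s.map fun k => X - C (ζ ^ k)).prod) = 0 := by
  classical
  have hmon : (minpoly ℂ g).Monic := minpoly.monic (Algebra.IsIntegral.isIntegral g)
  have hspl : (minpoly ℂ g).Splits := IsAlgClosed.splits _
  have hroot : ∀ μ ∈ (minpoly ℂ g).roots, ∃ k, ζ ^ k = μ := by
    intro μ hμ
    obtain ⟨q, hq⟩ := minpoly.dvd ℂ g hg
    have h0 : (minpoly ℂ g).eval μ = 0 := (Polynomial.mem_roots hmon.ne_zero).mp hμ
    have h : (X ^ R - 1 : ℂ[X]).eval μ = 0 := by rw [hq, eval_mul, h0, zero_mul]
    simp only [eval_sub, eval_pow, eval_X, eval_one, sub_eq_zero] at h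
    obtain ⟨k, -, hk⟩ := hζ.eq_pow_of_pow_eq_one h
    exact ⟨k, hk⟩
  choose! kf hkf using hroot
  refine ⟨(minpoly ℂ g).roots.toList.map kf, ?_, ?_⟩
  · rw [List.length_map, Multiset.length_toList]
    refine (Polynomial.card_roots' _).trans ?_
    rw [← LinearMap.charpoly_natDegree g]
    exact natDegree_le_of_dvd (LinearMap.minpoly_dvd_charpoly g) g.charpoly_monic.ne_zero
  · have hlist : (((minpoly ℂ g).roots.toList.map kf).map fun k => X - C (ζ ^ k)).prod = minpoly ℂ g := by
      rw [List.map_map, ← Multiset.prod_coe, ← Multiset.map_coe, Multiset.coe_toList]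
      refine Eq.trans (congrArg Multiset.prod (Multiset.map_congr rfl fun μ hμ => ?_))
        (hspl.eq_prod_roots_of_monic hmon).symm
      show X - C (ζ ^ kf μ) = X - C μ
      rw [hkf μ hμ]
    rw [hlist, minpoly.aeval]

theorem exists_annihilator {n R : ℕ} (hR : 0 < R) (A : Matrix (Fin n) (Fin n) ℂ) (hA : A ^ R = 1)
    {ζ : ℂ} (hζ : IsPrimitiveRoot ζ R) : ∃ s : List ℕ,
      s.length ≤ n - Module.finrank ℂ (LinearMap.ker (Matrix.toLin' (A - 1))) + 1 ∧
      Polynomial.aeval A ((s.map fun k => Polynomial.X - Polynomial.C (ζ ^ k)).prod) = 0 := by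
  classical
  haveI : NeZero R := ⟨hR.ne'⟩
  let e : Matrix (Fin n) (Fin n) ℂ ≃ₐ[ℂ] Module.End ℂ (Fin n → ℂ) := Matrix.toLinAlgEquiv'
  let f : Module.End ℂ (Fin n → ℂ) := e A
  let d : Module.End ℂ (Fin n → ℂ) := e (A - 1)
  have hdk : Module.finrank ℂ (LinearMap.range d) +
      Module.finrank ℂ (LinearMap.ker (Matrix.toLin' (A - 1))) = n := by
    have h := LinearMap.finrank_range_add_finrank_ker d
    rw [Module.finrank_fin_fun] at h
    exact h
  have hinv : ∀ u ∈ LinearMap.range d, f u ∈ LinearMap.range d := by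
    rintro _ ⟨x, rfl⟩
    refine ⟨f x, ?_⟩
    have h : f * d = d * f := by
      show e A * e (A - 1) = e (A - 1) * e A
      rw [← map_mul, ← map_mul, mul_sub, sub_mul, one_mul, mul_one]
    exact (LinearMap.congr_fun h x).symm
  let g : Module.End ℂ (LinearMap.range d) := f.restrict hinv
  have hres : ∀ (q : ℂ[X]) (u : LinearMap.range d),
      ((aeval g q u : LinearMap.range d) : Fin n → ℂ) = aeval f q (u : Fin n → ℂ) := by
    intro q
    induction q using Polynomial.induction_on' with
    | add a b ha hb => intro u; simp [ha u, hb u]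
    | monomial k c =>
      intro u
      simp only [aeval_monomial, Module.End.mul_apply, Module.algebraMap_end_apply, SetLike.val_smul]
      congr 1
      induction k generalizing u with
      | zero => rfl
      | succ k ih => rw [pow_succ, pow_succ, Module.End.mul_apply, Module.End.mul_apply, ih]; rfl
  have hgR : aeval g (X ^ R - 1 : ℂ[X]) = 0 := by
    refine LinearMap.ext fun u => Subtype.ext ?_
    rw [hres]
    have h : aeval f (X ^ R - 1 : ℂ[X]) = 0 := by
      show aeval (e A) (X ^ R - 1 : ℂ[X]) = 0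
      rw [Polynomial.aeval_algHom_apply, show aeval A (X ^ R - 1 : ℂ[X]) = 0 by simp [hA], map_zero]
    simp [h]
  obtain ⟨s, hs, hs0⟩ := exists_roots_list hζ g hgR
  refine ⟨s ++ [0], ?_, ?_⟩
  · rw [List.length_append, List.length_singleton]
    omega
  · rw [List.map_append, List.prod_append, List.map_singleton, List.prod_singleton, pow_zero, map_one]
    apply e.injective
    rw [map_zero, ← Polynomial.aeval_algHom_apply]
    refine LinearMap.ext fun x => ?_
    show aeval f ((s.map fun k => X - C (ζ ^ k)).prod * (X - 1)) x = 0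
    rw [map_mul, map_sub, aeval_X, map_one]
    show aeval f _ ((f - 1) x) = 0
    have hd : (f - 1) x = d x := by
      show (e A - 1) x = e (A - 1) x
      rw [map_sub, map_one]
    rw [hd, ← hres _ ⟨d x, LinearMap.mem_range_self d x⟩, hs0]
    rfl

theorem mul_sub_one_eq_zero {n : ℕ} (A B : Matrix (Fin n) (Fin n) ℂ) (hAB : A * B = B * A)
    (hd : LinearMap.ker (Matrix.toLin' (A - 1)) ⊓ LinearMap.ker (Matrix.toLin' (B - 1)) = ⊥)
    (hdim : Module.finrank ℂ (LinearMap.ker (Matrix.toLin' (A - 1))) +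
      Module.finrank ℂ (LinearMap.ker (Matrix.toLin' (B - 1))) = n) : (A - 1) * (B - 1) = 0 := by
  have hsup : LinearMap.ker (Matrix.toLin' (A - 1)) ⊔ LinearMap.ker (Matrix.toLin' (B - 1)) = ⊤ := by
    apply Submodule.eq_top_of_finrank_eq
    have h := Submodule.finrank_sup_add_finrank_inf_eq (LinearMap.ker (Matrix.toLin' (A - 1)))
      (LinearMap.ker (Matrix.toLin' (B - 1)))
    rw [hd, finrank_bot, add_zero, hdim] at h
    rw [h, Module.finrank_fin_fun]
  have hc : (A - 1) * (B - 1) = (B - 1) * (A - 1) := by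
    simp only [mul_sub, sub_mul, one_mul, mul_one, hAB]
    abel
  apply Matrix.toLin'.injective
  rw [map_zero]
  refine LinearMap.ker_eq_top.mp (top_le_iff.mp (hsup ▸ sup_le ?_ ?_))
  · intro v hv
    rw [LinearMap.mem_ker] at hv ⊢
    rw [hc, Matrix.toLin'_mul, LinearMap.comp_apply, hv, map_zero]
  · intro v hv
    rw [LinearMap.mem_ker] at hv ⊢
    rw [Matrix.toLin'_mul, LinearMap.comp_apply, hv, map_zero]

end CfsgLib.KpThree
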