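import Cfsg.Agent.Lib.KpThree.Defs
import Cfsg.Agent.Lib.KpRegular.Arith

/-!
Small primitive parts of `p ^ m - 1`: the arithmetic behind the two-orbit bound.
-/

set_option autoImplicit false

namespace CfsgLib.KpThree

open CfsgLib.Zsigmondy

theorem isPrim_of_dvd {p m r : ℕ} (hp : 0 < p) (hm : 0 < m) (hr : r.Prime)
    (h : r ∣ cyclotomicValue p m) (hrm : ¬ r ∣ m) : IsPrim p m r ∧ m ∣ r - 1 := by
  have := Fact.mk hr
  obtain ⟨k, n, hkn, -, hord, hdvd⟩ := orderOf_of_dvd hm h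
  rcases k with _ | k
  · obtain rfl : m = n := by simpa using hkn
    exact ⟨⟨hr, primitive_of_orderOf hp hord⟩, hdvd⟩
  · exact absurd (hkn ▸ (dvd_pow_self r (Nat.succ_ne_zero k)).mul_right n) hrm

/-- What the prime `j m + 1` may contribute to `Φ_m(p)`. -/
def capFactor (p m j : ℕ) : ℕ :=
  if (j * m + 1).Prime then
    (if j ≤ 2 then (j * m + 1) ^ Nat.log (j * m + 1) (2 * m ^ 2 * p) else j * m + 1)
  else 1

def capProd (p m : ℕ) : ℕ :=
  m * (capFactor p m 1 * (capFactor p m 2 * (capFactor p m 3 * capFactor p m 4)))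

/-- The coefficient of the bound on `capFactor`. -/
def capConst (m j : ℕ) : ℕ :=
  if (j * m + 1).Prime then (if j ≤ 2 then 2 * m ^ 2 else j * m + 1) else 1

def capCoeff (m : ℕ) : ℕ := m * (capConst m 1 * (capConst m 2 * (capConst m 3 * capConst m 4)))

def capDeg (m : ℕ) : ℕ :=
  (if (m + 1).Prime then 1 else 0) + (if (2 * m + 1).Prime then 1 else 0)

theorem cyclotomicValue_dvd_capProd {p m : ℕ} (hp : 1 < p) (hm : 3 ≤ m)
    (h1 : ∀ r, IsPrim p m r → r ≤ 4 * m + 1 ∧ (2 * m + 1 < r → ¬ r ^ 2 ∣ p ^ m - 1))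
    (h2 : ∀ r j, IsPrim p m r → r ^ j ∣ p ^ m - 1 → r ^ j ≤ 2 * m ^ 2 * p) :
    cyclotomicValue p m ∣ capProd p m := by
  rw [Nat.dvd_iff_prime_pow_dvd_dvd]
  intro r k hr hrk
  have := Fact.mk hr
  rcases Nat.eq_zero_or_pos k with rfl | hk
  · simp
  have hrE : r ∣ cyclotomicValue p m := (dvd_pow_self r hk.ne').trans hrk
  by_cases hrm : r ∣ m
  · rcases (show k = 1 ∨ 2 ≤ k by omega) with rfl | hk2
    · rw [pow_one]; exact hrm.mul_right _
    · exact absurd ((pow_dvd_pow r hk2).trans hrk) (sq_not_dvd hp (by omega) hrm hrE)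
  obtain ⟨hprim, j, hj⟩ := isPrim_of_dvd (by omega) (by omega) hr hrE hrm
  have hpm : r ^ k ∣ p ^ m - 1 := hrk.trans (cyclotomicValue_dvd_pow_sub_one (by omega) m)
  obtain ⟨hr4, hsq⟩ := h1 r hprim
  have hr2 := hr.two_le
  have hrj : r = j * m + 1 := by rw [mul_comm]; omega
  have hle : j ≤ 4 := by
    by_contra hlt
    have : 5 * m ≤ j * m := Nat.mul_le_mul_right m (by omega)
    omega
  have key : r ^ k ∣ capFactor p m j := by
    rw [capFactor, ← hrj, if_pos hr]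
    split_ifs with hj2
    · exact pow_dvd_pow r (Nat.le_log_of_pow_le hr.one_lt (h2 r k hprim hpm))
    · rcases (show k = 1 ∨ 2 ≤ k by omega) with rfl | hk2
      · rw [pow_one]
      · have : 3 * m ≤ j * m := Nat.mul_le_mul_right m (by omega)
        exact absurd ((pow_dvd_pow r hk2).trans hpm) (hsq (by omega))
  unfold capProd
  interval_cases j
  · omega
  · exact (key.mul_right _).mul_left _
  · exact ((key.mul_right _).mul_left _).mul_left _
  · exact (((key.mul_right _).mul_left _).mul_left _).mul_left _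
  · exact (((key.mul_left _).mul_left _).mul_left _).mul_left _

theorem capFactor_le {p m j : ℕ} (hp : 0 < p) (hm : 0 < m) :
    capFactor p m j ≤ capConst m j * p ^ (if (j * m + 1).Prime ∧ j ≤ 2 then 1 else 0) := by
  unfold capFactor capConst
  split_ifs with h1 h2 h3 h4 h5 <;> simp_all
  exact Nat.pow_log_le_self _ (by positivity)

theorem capProd_le {p m : ℕ} (hp : 0 < p) (hm : 0 < m) :
    capProd p m ≤ capCoeff m * p ^ capDeg m := by
  have a := capFactor_le (p := p) (m := m) (j := 1) hp hm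
  have b := capFactor_le (p := p) (m := m) (j := 2) hp hm
  have c := capFactor_le (p := p) (m := m) (j := 3) hp hm
  have d := capFactor_le (p := p) (m := m) (j := 4) hp hm
  have h := Nat.mul_le_mul_left m (Nat.mul_le_mul a (Nat.mul_le_mul b (Nat.mul_le_mul c d)))
  refine h.trans (le_of_eq ?_)
  simp only [capCoeff, capDeg, one_mul, le_refl, and_true, show (1 : ℕ) ≤ 2 by norm_num,
    show ¬ (3 : ℕ) ≤ 2 by norm_num, show ¬ (4 : ℕ) ≤ 2 by norm_num, and_false, if_false, pow_zero, pow_add]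
  ring

theorem capCoeff_le {m : ℕ} (hm : 0 < m) :
    capCoeff m ≤ m * ((2 * m ^ 2) * ((2 * m ^ 2) * ((3 * m + 1) * (4 * m + 1)))) := by
  have h : ∀ j c, 1 ≤ c → (j ≤ 2 → 2 * m ^ 2 ≤ c) → (2 < j → j * m + 1 ≤ c) → capConst m j ≤ c := by
    intro j c h0 ha hb
    unfold capConst
    split_ifs with h1 h2
    · exact ha h2
    · exact hb (by omega)
    · exact h0
  have h2m : 0 < 2 * m ^ 2 := by positivity
  exact Nat.mul_le_mul_left m (Nat.mul_le_mul (h 1 _ h2m (fun _ => le_rfl) (by omega))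
    (Nat.mul_le_mul (h 2 _ h2m (fun _ => le_rfl) (by omega))
      (Nat.mul_le_mul (h 3 _ (by omega) (by omega) (fun _ => le_rfl))
        (h 4 _ (by omega) (by omega) (fun _ => le_rfl)))))

theorem pow_sub_capDeg_le {p m : ℕ} (hp : 1 < p) (hm : 0 < m)
    (h : cyclotomicValue p m ∣ capProd p m) : p ^ (m.totient - capDeg m) ≤ 4 * capCoeff m := by
  have hpos : 0 < capProd p m := by
    have hf : ∀ j, 0 < capFactor p m j := by
      intro j
      unfold capFactor
      split_ifs <;> positivity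
    exact Nat.mul_pos hm (Nat.mul_pos (hf 1) (Nat.mul_pos (hf 2) (Nat.mul_pos (hf 3) (hf 4))))
  have h1 : p ^ m.totient ≤ 4 * (capCoeff m * p ^ capDeg m) :=
    (FGStruct.PrimitivePart.pow_totient_le hp hm).trans
      (Nat.mul_le_mul_left 4 ((Nat.le_of_dvd hpos h).trans (capProd_le (by omega) hm)))
  rcases le_total (capDeg m) m.totient with h2 | h2
  · refine Nat.le_of_mul_le_mul_right ?_ (show 0 < p ^ capDeg m by positivity)
    rw [← pow_add, Nat.sub_add_cancel h2, mul_assoc]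
    exact h1
  · rw [Nat.sub_eq_zero_of_le h2, pow_zero]
    have : 0 < capCoeff m := by
      have hf : ∀ j, 0 < capConst m j := by
        intro j
        unfold capConst
        split_ifs <;> positivity
      exact Nat.mul_pos hm (Nat.mul_pos (hf 1) (Nat.mul_pos (hf 2) (Nat.mul_pos (hf 3) (hf 4))))
    omega

/-- Integer square roots by structural recursion, so that the kernel evaluates them. -/
def isqrtGo : ℕ → ℕ → ℕ → ℕ
  | 0, _, s => s
  | f + 1, n, s => if (s + 2 ^ f) * (s + 2 ^ f) ≤ n then isqrtGo f n (s + 2 ^ f) else isqrtGo f n s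

theorem isqrtGo_spec : ∀ f n s, s * s ≤ n → n < (s + 2 ^ f) * (s + 2 ^ f) →
    isqrtGo f n s * isqrtGo f n s ≤ n ∧ n < (isqrtGo f n s + 1) * (isqrtGo f n s + 1) := by
  intro f
  induction f with
  | zero => intro n s h1 h2; exact ⟨h1, h2⟩
  | succ f ih =>
    intro n s h1 h2
    rw [isqrtGo]
    split_ifs with h
    · refine ih n _ h ?_
      rwa [add_assoc, ← two_mul, ← pow_succ']
    · exact ih n s h1 (Nat.lt_of_not_le h)

def isqrt (n : ℕ) : ℕ := isqrtGo 20 n 0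

theorem isqrt_eq {n s : ℕ} (hn : n < 4 ^ 20) (h1 : s * s ≤ n) (h2 : n < (s + 1) * (s + 1)) :
    isqrt n = s := by
  obtain ⟨h3, h4⟩ := isqrtGo_spec 20 n 0 (Nat.zero_le _) (by norm_num at hn ⊢; omega)
  have h5 := Nat.mul_self_lt_mul_self_iff.1 (h3.trans_lt h2)
  have h6 := Nat.mul_self_lt_mul_self_iff.1 (h1.trans_lt h4)
  unfold isqrt
  omega

theorem pow_fourteen_lt_five_pow : ∀ t, 42 ≤ t → 4 * (98 * 64 * t ^ 14) < 5 ^ (t - 2) := by
  intro t ht
  induction t, ht using Nat.le_induction with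
  | base => decide +kernel
  | succ t ht ih =>
    have h1 : (t + 1) ^ 14 * 42 ^ 14 ≤ t ^ 14 * 43 ^ 14 := by
      rw [← mul_pow, ← mul_pow]; exact Nat.pow_le_pow_left (by omega) 14
    have h2 : 43 ^ 14 ≤ 5 * 42 ^ 14 := by decide +kernel
    have h3 : (t + 1) ^ 14 * 42 ^ 14 ≤ 5 * t ^ 14 * 42 ^ 14 :=
      h1.trans ((Nat.mul_le_mul_left _ h2).trans (le_of_eq (by ring)))
    have h4 : (t + 1) ^ 14 ≤ 5 * t ^ 14 := Nat.le_of_mul_le_mul_right h3 (Nat.pow_pos (by norm_num))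
    rw [show t + 1 - 2 = (t - 2) + 1 by omega, pow_succ (5 : ℕ)]
    omega

def smallPrimes : List ℕ :=
  [2, 3, 5, 7, 11, 13, 17, 19, 23, 29, 31, 37, 41, 43, 47, 53, 59, 61, 67, 71, 73, 79, 83, 89, 97,
    101, 103, 107, 109, 113, 127, 131, 137, 139, 149, 151, 157, 163, 167, 173, 179, 181, 191, 193,
    197, 199, 211]

set_option maxRecDepth 100000 in
theorem smallPrimes_count : ∀ m ∈ List.range 3151,
    42 ≤ (smallPrimes.filter fun l => (m + 212) % l != 0).length := by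
  decide +kernel

theorem le_totient_of_large {m : ℕ} (h1 : 212 ≤ m) (h2 : m < 3363) : 42 ≤ m.totient := by
  have hp : ∀ l ∈ smallPrimes, l.Prime ∧ l < 212 := by decide +kernel
  have hnd : smallPrimes.Nodup := by decide +kernel
  have h := smallPrimes_count (m - 212) (List.mem_range.2 (by omega))
  rw [show m - 212 + 212 = m by omega] at h
  refine h.trans ?_
  rw [← List.toFinset_card_of_nodup (hnd.filter _), Nat.totient_eq_card_coprime]
  refine Finset.card_le_card fun l hl => ?_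
  rw [List.mem_toFinset, List.mem_filter] at hl
  obtain ⟨hl, hlm⟩ := hl
  have := hp l hl
  rw [Finset.mem_filter, Finset.mem_range]
  refine ⟨by omega, Nat.Coprime.symm ((this.1.coprime_iff_not_dvd).2 fun hd => ?_)⟩
  simp [Nat.mod_eq_zero_of_dvd hd] at hlm

def rowList : List (ℕ × ℕ) :=
  [(3, 2809), (5, 11), (8, 17), (9, 12), (10, 217), (12, 80), (14, 16), (15, 8), (18, 217), (20, 9),
    (22, 10), (24, 6), (30, 28), (36, 13), (42, 6), (60, 6)]

set_option maxRecDepth 20000 in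
theorem rowList_complete : ∀ m ∈ List.range 212, 3 ≤ m →
    4 * capCoeff m < 5 ^ (m.totient - capDeg m) ∨ m ∈ rowList.map Prod.fst ∨ m = 4 ∨ m = 6 := by
  decide +kernel

theorem rowList_bound : ∀ x ∈ rowList, 4 * capCoeff x.1 < x.2 ^ (x.1.totient - capDeg x.1) := by
  decide +kernel

set_option maxRecDepth 100000 in
theorem rowList_none : ∀ x ∈ rowList, ∀ p ∈ List.range x.2, 5 ≤ p → p % 2 = 1 → p ≠ 9 →
    ¬ p ^ x.1 - 1 ∣ capProd p x.1 * ∏ d ∈ x.1.properDivisors, (p ^ d - 1) := by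
  decide +kernel

theorem degree_cases {p m : ℕ} (hp : p.Prime) (hp5 : 5 ≤ p) (hm : 3 ≤ m)
    (h : cyclotomicValue p m ∣ capProd p m) : m = 4 ∨ m = 6 := by
  have hbound := pow_sub_capDeg_le hp.one_lt (by omega) h
  set t := m.totient with ht
  have h5 : 5 ^ (t - capDeg m) ≤ 4 * capCoeff m := le_trans (Nat.pow_le_pow_left hp5 _) hbound
  have hsq : m ≤ 2 * t ^ 2 := (FGStruct.PrimitivePart.le_two_mul_totient_sq m).1
  have ht41 : t < 42 := by
    by_contra hlt
    push Not at hlt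
    have hdeg : capDeg m ≤ 2 := by unfold capDeg; split_ifs <;> omega
    have h5' : 5 ^ (t - 2) ≤ 4 * capCoeff m :=
      le_trans (Nat.pow_le_pow_right (by norm_num) (by omega)) h5
    have h34 : (3 * (2 * t ^ 2) + 1) * (4 * (2 * t ^ 2) + 1) ≤ 49 * t ^ 4 := by
      have : 42 ^ 2 ≤ t ^ 2 := Nat.pow_le_pow_left hlt 2
      nlinarith
    have hc : capCoeff m ≤ 98 * 64 * t ^ 14 := by
      refine (capCoeff_le (by omega)).trans ?_
      refine (Nat.mul_le_mul hsq (Nat.mul_le_mul (Nat.mul_le_mul_left 2 (Nat.pow_le_pow_left hsq 2))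
        (Nat.mul_le_mul (Nat.mul_le_mul_left 2 (Nat.pow_le_pow_left hsq 2))
          ((Nat.mul_le_mul (show 3 * m + 1 ≤ 3 * (2 * t ^ 2) + 1 by omega)
            (show 4 * m + 1 ≤ 4 * (2 * t ^ 2) + 1 by omega)).trans h34)))).trans (le_of_eq ?_)
      ring
    have := pow_fourteen_lt_five_pow t hlt
    omega
  have hm212 : m < 212 := by
    by_contra hlt
    have h2 : t ^ 2 ≤ 41 ^ 2 := Nat.pow_le_pow_left (by omega) 2
    have := le_totient_of_large (m := m) (by omega) (by omega)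
    omega
  rcases rowList_complete m (List.mem_range.2 hm212) hm with h4 | h4 | h4
  · rw [← ht] at h4; omega
  · obtain ⟨⟨a, B⟩, hx, hxm⟩ := List.mem_map.1 h4
    obtain rfl : a = m := hxm
    exfalso
    have hpB : p < B := by
      by_contra hlt
      have := rowList_bound _ hx
      have h6 := Nat.pow_le_pow_left (Nat.le_of_not_lt hlt) (t - capDeg a)
      rw [ht] at h6 hbound
      simp only at this
      omega
    refine rowList_none _ hx p (List.mem_range.2 hpB) hp5 ?_ ?_ (KpRegular.pow_sub_one_dvd hp.pos (by omega) h)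
    · exact hp.eq_two_or_odd.resolve_left (by omega)
    · rintro rfl; norm_num at hp
  · exact h4

theorem cyclotomicValue_four (a : ℕ) : cyclotomicValue a 4 = a * a + 1 := by
  rw [show (4 : ℕ) = 2 * 2 from rfl, cyclotomicValue_mul_of_dvd a Nat.prime_two dvd_rfl, cyclotomicValue,
    Polynomial.cyclotomic_two]
  simp only [Polynomial.eval_add, Polynomial.eval_X, Polynomial.eval_one]
  rw [show ((a ^ 2 : ℕ) : ℤ) + 1 = ((a * a + 1 : ℕ) : ℤ) by push_cast; ring, Int.natAbs_natCast]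

theorem cyclotomicValue_three (a : ℕ) : cyclotomicValue a 3 = a * a + a + 1 := by
  rw [cyclotomicValue, Polynomial.cyclotomic_three]
  simp only [Polynomial.eval_add, Polynomial.eval_pow, Polynomial.eval_X, Polynomial.eval_one]
  rw [show (a : ℤ) ^ 2 + (a : ℤ) + 1 = ((a * a + a + 1 : ℕ) : ℤ) by push_cast; ring, Int.natAbs_natCast]

theorem cyclotomicValue_six {a : ℕ} (ha : 0 < a) : cyclotomicValue a 6 = a * a + 1 - a := by
  obtain ⟨b, rfl⟩ : ∃ b, a = b + 1 := ⟨a - 1, by omega⟩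
  have h := cyclotomicValue_mul_of_not_dvd (b + 1) (m := 3) Nat.prime_two (by norm_num)
  rw [cyclotomicValue_three, cyclotomicValue_three, show 3 * 2 = 6 from rfl] at h
  rw [show (b + 1) * (b + 1) + 1 - (b + 1) = b * b + b + 1 from Nat.sub_eq_of_eq_add (by ring)]
  refine Nat.eq_of_mul_eq_mul_right (Nat.succ_pos ((b + 1) * (b + 1) + (b + 1))) (h.trans ?_)
  rw [Nat.succ_eq_add_one]
  ring

set_option maxRecDepth 20000 in
theorem four_finite : ∀ d ∈ Nat.divisors 884, ∀ i ∈ List.range 9,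
    isqrt (d * 5 ^ i - 1) * isqrt (d * 5 ^ i - 1) + 1 = d * 5 ^ i → 5 ≤ isqrt (d * 5 ^ i - 1) →
    isqrt (d * 5 ^ i - 1) % 2 = 1 → isqrt (d * 5 ^ i - 1) % 3 ≠ 0 →
    d * 5 ^ i ∣ capProd (isqrt (d * 5 ^ i - 1)) 4 →
    isqrt (d * 5 ^ i - 1) ∈ [5, 7, 13, 47] := by
  decide +kernel

theorem four_values {p : ℕ} (hp : p.Prime) (hp5 : 5 ≤ p) (h : cyclotomicValue p 4 ∣ capProd p 4) :
    p = 5 ∨ p = 7 ∨ p = 13 ∨ p = 47 := by
  rw [cyclotomicValue_four] at h
  set N := p * p + 1 with hN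
  set a := Nat.log 5 (32 * p) with ha
  have hK : capProd p 4 = 884 * 5 ^ a := by
    simp only [capProd, capFactor, ha]
    norm_num
    ring
  have ha' : 5 ^ a ≤ 32 * p := Nat.pow_log_le_self 5 (by omega)
  have hle : N ≤ 884 * (32 * p) :=
    (Nat.le_of_dvd (by positivity) (hK ▸ h)).trans (Nat.mul_le_mul_left _ ha')
  have hp' : p ≤ 28288 := Nat.le_of_mul_le_mul_right (show p * p ≤ 28288 * p by omega) (by omega)
  have ha9 : a < 9 := (Nat.pow_lt_pow_iff_right (by norm_num : 1 < 5)).1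
    (show 5 ^ a < 5 ^ 9 by norm_num; omega)
  obtain ⟨d, e, hd, he, hde⟩ := Nat.dvd_mul.1 (h.trans (hK ▸ dvd_rfl : capProd p 4 ∣ 884 * 5 ^ a))
  obtain ⟨i, hi, rfl⟩ := (Nat.dvd_prime_pow Nat.prime_five).1 he
  have hs : isqrt (d * 5 ^ i - 1) = p := by
    rw [hde, hN, Nat.add_sub_cancel]
    exact isqrt_eq (by omega) le_rfl (by nlinarith)
  have := four_finite d (Nat.mem_divisors.2 ⟨hd, by norm_num⟩) i (List.mem_range.2 (by omega))
  rw [hs, hde] at this
  have h3 : p % 3 ≠ 0 := fun h0 => by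
    have := (Nat.prime_dvd_prime_iff_eq Nat.prime_three hp).1 (Nat.dvd_of_mod_eq_zero h0)
    omega
  simpa using this hN.symm hp5 (hp.eq_two_or_odd.resolve_left (by omega)) h3 h

/-- The prime powers in `p ^ 2 + p + 1` under the cap at `m = 6`. -/
theorem three_part {p r k : ℕ} (hp : 1 < p) (hr : r.Prime) (hk : 0 < k) (h : r ^ k ∣ p * p + p + 1)
    (h3 : ∀ r j, IsPrim p 3 r → r ^ j ∣ p ^ 3 - 1 → r ≤ 25 ∧ r ^ j ≤ 10368 * p) :
    (r = 3 ∧ k = 1) ∨ ((r = 7 ∨ r = 13 ∨ r = 19) ∧ r ^ k ≤ 10368 * p) := by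
  have := Fact.mk hr
  rw [← cyclotomicValue_three] at h
  have hd : r ∣ cyclotomicValue p 3 := (dvd_pow_self r hk.ne').trans h
  by_cases h3r : r ∣ 3
  · obtain rfl : r = 3 := (Nat.prime_dvd_prime_iff_eq hr Nat.prime_three).1 h3r
    refine Or.inl ⟨rfl, ?_⟩
    by_contra hne
    exact sq_not_dvd hp (by norm_num) dvd_rfl hd ((pow_dvd_pow 3 (by omega)).trans h)
  · obtain ⟨hprim, hdvd⟩ := isPrim_of_dvd (by omega) (by norm_num) hr hd h3r
    obtain ⟨h25, hbd⟩ := h3 r k hprim (h.trans (cyclotomicValue_dvd_pow_sub_one (by omega) 3))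
    refine Or.inr ⟨?_, hbd⟩
    exact (by decide +kernel : ∀ r ∈ List.range 26, r.Prime → 3 ∣ r - 1 → r = 7 ∨ r = 13 ∨ r = 19)
      r (List.mem_range.2 (by omega)) hr hdvd

theorem isqrt_sq_add_one_sub {p : ℕ} (hp : 2 ≤ p) (hn : p * p + 1 - p < 4 ^ 20) :
    isqrt (p * p + 1 - p) + 1 = p := by
  obtain ⟨b, rfl⟩ : ∃ b, p = b + 1 := ⟨p - 1, by omega⟩
  rw [show (b + 1) * (b + 1) + 1 - (b + 1) = b * b + (b + 1) from Nat.sub_eq_of_eq_add (by ring)] at hn ⊢
  rw [isqrt_eq hn (Nat.le_add_right _ _) (by nlinarith)]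

set_option maxRecDepth 20000 in
theorem six_seven : ∀ d ∈ Nat.divisors 57, ∀ i ∈ List.range 7,
    5 ≤ isqrt (d * 7 ^ i) + 1 →
    (isqrt (d * 7 ^ i) + 1) * (isqrt (d * 7 ^ i) + 1) + 1 - (isqrt (d * 7 ^ i) + 1) = d * 7 ^ i →
    ¬ (isqrt (d * 7 ^ i) + 1) * (isqrt (d * 7 ^ i) + 1) + (isqrt (d * 7 ^ i) + 1) + 1 ∣ 5187 ^ 30 := by
  decide +kernel

set_option maxRecDepth 20000 in
theorem six_thirteen : ∀ d ∈ Nat.divisors 57, ∀ i ∈ List.range 5,
    5 ≤ isqrt (d * 13 ^ i) + 1 →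
    (isqrt (d * 13 ^ i) + 1) * (isqrt (d * 13 ^ i) + 1) + 1 - (isqrt (d * 13 ^ i) + 1) = d * 13 ^ i →
    ¬ (isqrt (d * 13 ^ i) + 1) * (isqrt (d * 13 ^ i) + 1) + (isqrt (d * 13 ^ i) + 1) + 1 ∣ 5187 ^ 30 := by
  decide +kernel

set_option maxRecDepth 20000 in
theorem six_both : ∀ d ∈ Nat.divisors 3, ∀ i ∈ List.range 7,
    5 ≤ isqrt (d * 19 ^ i) →
    isqrt (d * 19 ^ i) * isqrt (d * 19 ^ i) + isqrt (d * 19 ^ i) + 1 = d * 19 ^ i →
    ¬ 91 ∣ isqrt (d * 19 ^ i) * isqrt (d * 19 ^ i) + 1 - isqrt (d * 19 ^ i) := by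
  decide +kernel

theorem six_empty {p : ℕ} (hp : p.Prime) (hp5 : 5 ≤ p) (h : cyclotomicValue p 6 ∣ capProd p 6)
    (h3 : ∀ r j, IsPrim p 3 r → r ^ j ∣ p ^ 3 - 1 → r ≤ 25 ∧ r ^ j ≤ 10368 * p) : False := by
  rw [cyclotomicValue_six hp.pos] at h
  set N := p * p + 1 - p with hN
  set M := p * p + p + 1 with hM
  have hpp : p ≤ p * p := Nat.le_mul_self p
  have hNp : N + p = p * p + 1 := by omega
  set a := Nat.log 7 (72 * p) with ha
  set b := Nat.log 13 (72 * p) with hb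
  have hK : capProd p 6 = 2 * (3 * 19 * (7 ^ a * 13 ^ b)) := by
    simp only [capProd, capFactor, ha, hb]
    norm_num
    ring
  have ha' : 7 ^ a ≤ 72 * p := Nat.pow_log_le_self 7 (by omega)
  have hb' : 13 ^ b ≤ 72 * p := Nat.pow_log_le_self 13 (by omega)
  have hodd : Nat.Coprime N 2 := by
    rw [Nat.coprime_comm, Nat.prime_two.coprime_iff_not_dvd]
    intro h2
    have : 2 ∣ p * p + p := by
      rcases Nat.even_or_odd p with hp2 | hp2
      · exact dvd_add (hp2.two_dvd.mul_right p) hp2.two_dvd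
      · rw [← Nat.mul_add_one]
        exact (Odd.add_one hp2).two_dvd.mul_left p
    omega
  have hK' : N ∣ 57 * (7 ^ a * 13 ^ b) := by
    rw [hK] at h
    exact hodd.dvd_of_dvd_mul_left h
  have hcop : ∀ r : ℕ, r.Prime → 7 ≤ r → r ∣ N → ¬ r ∣ M := by
    intro r hr hr7 hrN hrM
    have h2p : r ∣ 2 * p := by
      have := Nat.dvd_sub hrM hrN
      rwa [show M - N = 2 * p by omega] at this
    rcases hr.dvd_mul.1 h2p with h2 | h2
    · have := Nat.le_of_dvd (by norm_num) h2; omega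
    · have h1 : r ∣ 1 := by
        have h4 : r ∣ p * p + p := dvd_add (h2.mul_right p) h2
        have := Nat.dvd_sub hrM h4
        rwa [show M - (p * p + p) = 1 by omega] at this
      exact hr.not_dvd_one h1
  by_cases hboth : 7 ∣ N ∧ 13 ∣ N
  · set c := Nat.log 19 (10368 * p) with hc
    have hMd : M ∣ 3 * 19 ^ c := by
      rw [Nat.dvd_iff_prime_pow_dvd_dvd]
      intro r k hr hrk
      rcases Nat.eq_zero_or_pos k with rfl | hk
      · simp
      have hrM : r ∣ M := (dvd_pow_self r hk.ne').trans hrk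
      rcases three_part hp.one_lt hr hk hrk h3 with ⟨rfl, rfl⟩ | ⟨h7 | h13 | rfl, hbd⟩
      · exact Dvd.intro _ rfl
      · subst h7; exact absurd hrM (hcop 7 hr le_rfl hboth.1)
      · subst h13; exact absurd hrM (hcop 13 hr (by norm_num) hboth.2)
      · exact (pow_dvd_pow 19 (Nat.le_log_of_pow_le (by norm_num) hbd)).mul_left 3
    have hc' : 19 ^ c ≤ 10368 * p := Nat.pow_log_le_self 19 (by omega)
    have hle : M ≤ 3 * (10368 * p) :=
      (Nat.le_of_dvd (by positivity) hMd).trans (Nat.mul_le_mul_left _ hc')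
    have hp' : p ≤ 31104 := Nat.le_of_mul_le_mul_right (show p * p ≤ 31104 * p by omega) (by omega)
    have hc7 : c < 7 := (Nat.pow_lt_pow_iff_right (by norm_num : 1 < 19)).1
      (show 19 ^ c < 19 ^ 7 by norm_num; omega)
    obtain ⟨d, e, hd, he, hde⟩ := Nat.dvd_mul.1 hMd
    obtain ⟨i, hi, rfl⟩ := (Nat.dvd_prime_pow (by norm_num : Nat.Prime 19)).1 he
    have hs : isqrt (d * 19 ^ i) = p := by
      rw [hde, hM]
      exact isqrt_eq (by omega) (by omega) (by nlinarith)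
    have := six_both d (Nat.mem_divisors.2 ⟨hd, by norm_num⟩) i (List.mem_range.2 (by omega))
    rw [hs, hde] at this
    exact this hp5 hM.symm (Nat.Coprime.mul_dvd_of_dvd_of_dvd (by norm_num : Nat.Coprime 7 13) hboth.1 hboth.2)
  have hM30 : p ≤ 4105 → M ∣ 5187 ^ 30 := by
    intro hp'
    rw [Nat.dvd_iff_prime_pow_dvd_dvd]
    intro r k hr hrk
    rcases Nat.eq_zero_or_pos k with rfl | hk
    · simp
    have hk30 : k ≤ 30 := by
      by_contra hlt
      have h1 : 2 ^ 31 ≤ r ^ k :=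
        (Nat.pow_le_pow_left hr.two_le 31).trans (Nat.pow_le_pow_right hr.pos (by omega))
      have h2 : r ^ k ≤ M := Nat.le_of_dvd (by omega) hrk
      have : p * p ≤ 4105 * 4105 := Nat.mul_le_mul hp' hp'
      omega
    refine (pow_dvd_pow r hk30).trans (pow_dvd_pow_of_dvd ?_ 30)
    rcases three_part hp.one_lt hr hk hrk h3 with ⟨rfl, -⟩ | ⟨rfl | rfl | rfl, -⟩ <;> norm_num
  rcases not_and_or.1 hboth with h7 | h13
  · have hd13 : N ∣ 57 * 13 ^ b := by
      refine (Nat.Coprime.pow_right a ((Nat.coprime_comm).1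
        ((by norm_num : Nat.Prime 7).coprime_iff_not_dvd.2 h7))).dvd_of_dvd_mul_left
          (n := 57 * 13 ^ b) ?_
      rwa [show 7 ^ a * (57 * 13 ^ b) = 57 * (7 ^ a * 13 ^ b) by ring]
    have hle : N ≤ 57 * (72 * p) :=
      (Nat.le_of_dvd (by positivity) hd13).trans (Nat.mul_le_mul_left _ hb')
    have hp' : p ≤ 4105 := Nat.le_of_mul_le_mul_right (show p * p ≤ 4105 * p by omega) (by omega)
    have hb5 : b < 5 := (Nat.pow_lt_pow_iff_right (by norm_num : 1 < 13)).1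
      (show 13 ^ b < 13 ^ 5 by norm_num; omega)
    obtain ⟨d, e, hd, he, hde⟩ := Nat.dvd_mul.1 hd13
    obtain ⟨i, hi, rfl⟩ := (Nat.dvd_prime_pow (by norm_num : Nat.Prime 13)).1 he
    have hs : isqrt (d * 13 ^ i) + 1 = p := by rw [hde, hN, isqrt_sq_add_one_sub hp.two_le (by omega)]
    have := six_thirteen d (Nat.mem_divisors.2 ⟨hd, by norm_num⟩) i (List.mem_range.2 (by omega))
    rw [hs, hde] at this
    exact this hp5 hN.symm (hM30 hp')
  · have hd7 : N ∣ 57 * 7 ^ a := by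
      refine (Nat.Coprime.pow_right b ((Nat.coprime_comm).1
        ((by norm_num : Nat.Prime 13).coprime_iff_not_dvd.2 h13))).dvd_of_dvd_mul_left
          (n := 57 * 7 ^ a) ?_
      rwa [show 13 ^ b * (57 * 7 ^ a) = 57 * (7 ^ a * 13 ^ b) by ring]
    have hle : N ≤ 57 * (72 * p) :=
      (Nat.le_of_dvd (by positivity) hd7).trans (Nat.mul_le_mul_left _ ha')
    have hp' : p ≤ 4105 := Nat.le_of_mul_le_mul_right (show p * p ≤ 4105 * p by omega) (by omega)
    have ha7 : a < 7 := (Nat.pow_lt_pow_iff_right (by norm_num : 1 < 7)).1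
      (show 7 ^ a < 7 ^ 7 by norm_num; omega)
    obtain ⟨d, e, hd, he, hde⟩ := Nat.dvd_mul.1 hd7
    obtain ⟨i, hi, rfl⟩ := (Nat.dvd_prime_pow (by norm_num : Nat.Prime 7)).1 he
    have hs : isqrt (d * 7 ^ i) + 1 = p := by rw [hde, hN, isqrt_sq_add_one_sub hp.two_le (by omega)]
    have := six_seven d (Nat.mem_divisors.2 ⟨hd, by norm_num⟩) i (List.mem_range.2 (by omega))
    rw [hs, hde] at this
    exact this hp5 hN.symm (hM30 hp')

/-- Small primitive parts: only `m = 4` and four primes. -/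
theorem small_minus {p m : ℕ} (hp : p.Prime) (hp5 : 5 ≤ p) (hm : 3 ≤ m)
    (h1 : ∀ r, IsPrim p m r → r ≤ 4 * m + 1 ∧ (2 * m + 1 < r → ¬ r ^ 2 ∣ p ^ m - 1))
    (h2 : ∀ r j, IsPrim p m r → r ^ j ∣ p ^ m - 1 → r ^ j ≤ 2 * m ^ 2 * p)
    (h3 : m = 6 → ∀ r j, IsPrim p 3 r → r ^ j ∣ p ^ 3 - 1 → r ≤ 25 ∧ r ^ j ≤ 10368 * p) :
    m = 4 ∧ (p = 5 ∨ p = 7 ∨ p = 13 ∨ p = 47) := by
  have h := cyclotomicValue_dvd_capProd hp.one_lt hm h1 h2
  rcases degree_cases hp hp5 hm h with rfl | rfl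
  · exact ⟨rfl, four_values hp hp5 h⟩
  · exact (six_empty hp hp5 h (h3 rfl)).elim

end CfsgLib.KpThree
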