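import Cfsg.Agent.Lib.KpRegular.Orbit
import Cfsg.Agent.Lib.KpRegular.Semilinear

/-!
# Classes of elements of prime order, several primes at once
-/

set_option autoImplicit false

namespace CfsgLib.KpThree

variable {D : Type*} [Group D] [Finite D]

/-- The classes of elements of order `s`. -/
def orderClasses (D : Type*) [Group D] (s : ℕ) : Set (ConjClasses D) :=
  {c | ∃ g : D, ConjClasses.mk g = c ∧ orderOf g = s}

theorem orderClasses_disjoint {s t : ℕ} (h : s ≠ t) :
    Disjoint (orderClasses D s) (orderClasses D t) := by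
  rw [Set.disjoint_left]
  rintro c ⟨g, rfl, hg⟩ ⟨g', hg', hg''⟩
  obtain ⟨u, hu⟩ := isConj_iff.mp (ConjClasses.mk_eq_mk_iff_isConj.mp hg')
  exact h (by rw [← hg, ← hu, ← hg'']; exact (MulAut.conj u).orderOf_eq g')

/-- Distinct orders give distinct classes. -/
theorem one_add_sum_le (S : Finset ℕ) (f : ℕ → ℕ) (hS : ∀ s ∈ S, s ≠ 1)
    (hf : ∀ s ∈ S, f s ≤ (orderClasses D s).ncard) :
    1 + ∑ s ∈ S, f s ≤ Nat.card (ConjClasses D) := by
  classical
  suffices h : ∀ T : Finset ℕ, T ⊆ S →
      1 + ∑ s ∈ T, f s ≤ ({ConjClasses.mk (1 : D)} ∪ ⋃ s ∈ T, orderClasses D s).ncard by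
    exact (h S subset_rfl).trans ((Set.ncard_le_ncard (Set.subset_univ _) (Set.toFinite _)).trans
      (Set.ncard_univ _).le)
  intro T hT
  induction T using Finset.induction with
  | empty => simp
  | @insert t T ht ih =>
    rw [Finset.insert_subset_iff] at hT
    rw [Finset.sum_insert ht, Finset.set_biUnion_insert, ← Set.union_assoc,
      Set.union_comm {ConjClasses.mk (1 : D)}, Set.union_assoc,
      Set.ncard_union_eq ?_ (Set.toFinite _) (Set.toFinite _)]
    · have := hf t hT.1
      have := ih hT.2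
      omega
    · rw [Set.disjoint_union_right, Set.disjoint_singleton_right, Set.disjoint_iUnion₂_right]
      refine ⟨?_, fun s hs => orderClasses_disjoint fun e => ht (e ▸ hs)⟩
      rintro ⟨g, hg, hgt⟩
      rw [ConjClasses.mk_eq_mk_iff_isConj, isConj_one_left] at hg
      exact hS t hT.1 (by rw [← hgt, hg, orderOf_one])

theorem orderClasses_pos {s : ℕ} [Fact s.Prime] (h : s ∣ Nat.card D) :
    0 < (orderClasses D s).ncard := by
  obtain ⟨g, hg⟩ := exists_prime_orderOf_dvd_card' s h
  exact (Set.ncard_pos (Set.toFinite _)).mpr ⟨ConjClasses.mk g, g, rfl, hg⟩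

variable {V : Type*} [AddCommGroup V] {p : ℕ} [hp : Fact p.Prime] [Module (ZMod p) V]
  [Module.Finite (ZMod p) V]

theorem sub_one_le_mul_orderClasses (ψ : D →* Module.End (ZMod p) V) (hψ : Function.Injective ψ)
    {s : ℕ} [hs : Fact s.Prime] (hsp : s ≠ p) (hdiv : s ∣ Nat.card D) :
    s - 1 ≤ Module.finrank (ZMod p) V * (orderClasses D s).ncard := by
  classical
  obtain ⟨x, hx⟩ := exists_prime_orderOf_dvd_card' s hdiv
  have := Fintype.ofFinite D
  set S : Finset D := Finset.univ.filter fun y => y ∈ Subgroup.zpowers x ∧ y ≠ 1 with hS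
  have hord : ∀ y ∈ Subgroup.zpowers x, y ≠ 1 → orderOf y = s := fun y hy hy1 => by
    rcases hs.out.eq_one_or_self_of_dvd _ (hx ▸ orderOf_dvd_of_mem_zpowers hy) with h | h
    · exact absurd (orderOf_eq_one_iff.mp h) hy1
    · exact h
  have hcard : S.card = s - 1 := by
    have h1 : S = (Finset.univ.filter fun y => y ∈ Subgroup.zpowers x).erase 1 := by
      ext y; simp [S, and_comm]
    rw [h1, Finset.card_erase_of_mem (by simp), ← Fintype.card_subtype,
      ← Nat.card_eq_fintype_card]
    exact congrArg (· - 1) ((Nat.card_zpowers x).trans hx)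
  have : Fintype (orderClasses D s) := Fintype.ofFinite _
  rw [← hcard, Set.ncard_eq_toFinset_card']
  refine Finset.card_le_mul_card_image_of_maps_to (f := ConjClasses.mk) (fun y hy => ?_)
    (Module.finrank (ZMod p) V) (fun c hc => ?_)
  · simp only [S, Finset.mem_filter, Finset.mem_univ, true_and] at hy
    rw [Set.mem_toFinset]
    exact ⟨y, rfl, hord y hy.1 hy.2⟩
  · by_cases hne : (S.filter fun y => ConjClasses.mk y = c).Nonempty
    · obtain ⟨y₀, hy₀⟩ := hne
      simp only [S, Finset.mem_filter, Finset.mem_univ, true_and] at hy₀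
      obtain ⟨⟨hy₀x, hy₀1⟩, hy₀c⟩ := hy₀
      have hz : Subgroup.zpowers y₀ = Subgroup.zpowers x :=
        Subgroup.eq_of_le_of_card_ge (Subgroup.zpowers_le.mpr hy₀x)
          (by rw [Nat.card_zpowers, Nat.card_zpowers, hord y₀ hy₀x hy₀1, hx])
      refine le_trans ?_ (KpRegular.ncard_conj_zpowers_le ψ hψ hsp (hord y₀ hy₀x hy₀1))
      rw [← Set.ncard_coe_finset]
      refine Set.ncard_le_ncard (fun y hy => ?_) (Set.toFinite _)
      simp only [S, Finset.coe_filter, Finset.mem_filter, Finset.mem_univ, true_and, Set.mem_ofPred_eq] at hy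
      exact ⟨hz ▸ hy.1.1, ConjClasses.mk_eq_mk_iff_isConj.mp (hy₀c.trans hy.2.symm)⟩
    · rw [Finset.not_nonempty_iff_eq_empty.mp hne]; simp

end CfsgLib.KpThree
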