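import Cfsg.Agent.Lib.KpRegular.Basic

/-!
# Linear groups with two orbits on the nonzero vectors

Shared definitions for the bound on the number of classes of a coprime linear group with two
orbits on the nonzero vectors.
-/

set_option autoImplicit false

namespace CfsgLib.KpThree

/-- Exactly two orbits on the nonzero vectors. -/
def TwoOrbits (D E : Type*) [Group D] [AddCommGroup E] [DistribMulAction D E] : Prop :=
  ∃ a b : E, a ≠ 0 ∧ b ≠ 0 ∧ b ∉ MulAction.orbit D a ∧
    ∀ e : E, e ≠ 0 → e ∈ MulAction.orbit D a ∨ e ∈ MulAction.orbit D b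

/-- Every orbit is closed under the scalars from the prime field. -/
def ScalarClosed (p : ℕ) (D E : Type*) [Group D] [AddCommGroup E] [DistribMulAction D E] : Prop :=
  ∀ (a : E) (c : ℕ), ¬ p ∣ c → c • a ∈ MulAction.orbit D a

/-- `r` is a primitive prime divisor of `p ^ d - 1`. -/
def IsPrim (p d r : ℕ) : Prop :=
  r.Prime ∧ r ∣ p ^ d - 1 ∧ ∀ i, 0 < i → i < d → ¬ r ∣ p ^ i - 1

end CfsgLib.KpThree
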