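import Cfsg.Agent.Lib.KpThree.Defs
import Mathlib

/-!
# Sylow subgroups for a primitive prime divisor meet each class in few elements

For a primitive prime divisor `r` of `p ^ d - 1` and a space of dimension `l d` with `l < r` the Sylow
`r`-subgroup of the general linear group lies in the multiplicative group of `l` copies of the field with
`p ^ d` elements. So an element of a Sylow `r`-subgroup is given by `l` eigenvalues, and each conjugacy class
meets the subgroup in at most `n ^ l` elements.
-/

set_option autoImplicit false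
set_option linter.style.haveILetI false

open Polynomial

namespace CfsgLib.KpThree

/-- The product of the numbers `p ^ (j + 1) - 1` contains `r` only as often as `(p ^ d - 1) ^ (N / d)`. -/
theorem prod_pow_sub_one {p d r l : ℕ} [Fact r.Prime] (hp : 1 < p) (hr : IsPrim p d r) (hd : 0 < d)
    (hl : l < r) : ∀ N, N ≤ l * d → ∃ c, ¬ r ∣ c ∧
      ∏ j ∈ Finset.range N, (p ^ (j + 1) - 1) = c * (p ^ d - 1) ^ (N / d) := by
  intro N
  induction N with
  | zero => exact fun _ => ⟨1, (Fact.out : r.Prime).not_dvd_one, by simp⟩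
  | succ N ih =>
    intro hN
    obtain ⟨c, hc, hprod⟩ := ih (by omega)
    have hpd : (p : ZMod r) ^ d = 1 := by
      have h1 : ((p ^ d - 1 : ℕ) : ZMod r) = 0 := (ZMod.natCast_eq_zero_iff _ _).2 hr.2.1
      rw [Nat.cast_sub (Nat.one_le_pow _ _ (by omega)), Nat.cast_pow, Nat.cast_one, sub_eq_zero] at h1
      exact h1
    rw [Finset.prod_range_succ, hprod, Nat.succ_div]
    by_cases hdN : d ∣ N + 1
    · rw [if_pos hdN]
      obtain ⟨j, hj⟩ := hdN
      have hjl : j ≤ l := by
        by_contra hlt
        have : d * (l + 1) ≤ d * j := Nat.mul_le_mul_left d (by omega)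
        rw [← hj, mul_add, mul_comm d l] at this
        omega
      have hj0 : 0 < j := Nat.pos_of_ne_zero (by rintro rfl; simp at hj)
      set x := p ^ d with hx
      have hx1 : 1 ≤ x := Nat.one_le_pow _ _ (by omega)
      have hgeom : p ^ (N + 1) - 1 = (∑ i ∈ Finset.range j, x ^ i) * (x - 1) := by
        rw [hj, pow_mul, ← hx]
        have h := geom_sum_mul_of_one_le hx1 j
        exact h.symm
      refine ⟨c * ∑ i ∈ Finset.range j, x ^ i, fun h => ?_, by rw [hgeom, pow_succ]; ring⟩
      rcases (Fact.out : r.Prime).dvd_mul.1 h with h | h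
      · exact hc h
      · have h0 := (ZMod.natCast_eq_zero_iff _ r).2 h
        rw [Nat.cast_sum] at h0
        simp only [hx, Nat.cast_pow, hpd, one_pow, Finset.sum_const, Finset.card_range, nsmul_one] at h0
        have := Nat.le_of_dvd hj0 ((ZMod.natCast_eq_zero_iff _ r).1 h0)
        omega
    · rw [if_neg hdN, add_zero]
      refine ⟨c * (p ^ (N + 1) - 1), fun h => ?_, by ring⟩
      rcases (Fact.out : r.Prime).dvd_mul.1 h with h | h
      · exact hc h
      · have h0 := (ZMod.natCast_eq_zero_iff _ r).2 h
        rw [Nat.cast_sub (Nat.one_le_pow _ _ (by omega)), Nat.cast_pow, Nat.cast_one, sub_eq_zero,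
          ← Nat.mod_add_div (N + 1) d, pow_add, pow_mul, hpd, one_pow, mul_one] at h0
        refine hr.2.2 ((N + 1) % d) (Nat.pos_of_ne_zero fun e => hdN (Nat.dvd_of_mod_eq_zero e))
          (Nat.mod_lt _ hd) ((ZMod.natCast_eq_zero_iff _ r).1 ?_)
        rw [Nat.cast_sub (Nat.one_le_pow _ _ (by omega)), Nat.cast_pow, Nat.cast_one, h0, sub_self]

/-- An `r`-subgroup is conjugate into a subgroup of index prime to `r`. -/
theorem exists_conj_mem {G : Type*} [Group G] [Finite G] {r : ℕ} [Fact r.Prime] (A : Subgroup G)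
    (hA : ¬ r ∣ A.index) {Q : Subgroup G} (hQ : IsPGroup r Q) :
    ∃ g : G, ∀ x ∈ Q, g * x * g⁻¹ ∈ A := by
  obtain ⟨S⟩ := (inferInstance : Nonempty (Sylow r A))
  have hcard : Nat.card ((S : Subgroup A).map A.subtype) = r ^ (Nat.card G).factorization r := by
    rw [Subgroup.card_map_of_injective A.subtype_injective, S.card_eq_multiplicity, ← A.card_mul_index,
      Nat.factorization_mul Nat.card_pos.ne' Subgroup.index_ne_zero_of_finite, Finsupp.add_apply,
      Nat.factorization_eq_zero_of_not_dvd hA, add_zero]
  obtain ⟨R, hR⟩ := hQ.exists_le_sylow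
  obtain ⟨g, hg⟩ := MulAction.exists_smul_eq G R (Sylow.ofCard _ hcard)
  refine ⟨g, fun x hx => ?_⟩
  have h1 : g * x * g⁻¹ ∈ ((g • R : Sylow r G) : Subgroup G) := by
    rw [Sylow.coe_subgroup_smul]
    exact ⟨x, hR hx, rfl⟩
  rw [hg, Sylow.coe_ofCard] at h1
  obtain ⟨y, -, hy⟩ := h1
  rw [← hy]
  exact y.2

variable {D E : Type*} [Group D] [Finite D] [AddCommGroup E] [Finite E] [DistribMulAction D E]
  [FaithfulSMul D E] {p : ℕ} [Fact p.Prime] {n : ℕ}

/-- A Sylow subgroup for a primitive prime divisor has at most `n ^ l` times as many elements as the group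
has classes. -/
theorem sylow_le_mul_classes (hE : ∀ e : E, p • e = 0) (hcard : Nat.card E = p ^ n) {r d l : ℕ}
    [Fact r.Prime] (hr : IsPrim p d r) (hd : 3 ≤ d) (hn : n = l * d) (hl : l < r) (P : Sylow r D) :
    Nat.card (P : Subgroup D) ≤ n ^ l * Nat.card (ConjClasses D) := by
  classical
  have hp : p.Prime := Fact.out
  letI : Module (ZMod p) E := AddCommGroup.zmodModule (n := p) hE
  haveI : Module.Finite (ZMod p) E := Module.Finite.of_finite
  haveI : Module.Finite (ZMod p) (GaloisField p d) := Module.Finite.of_finite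
  have hfinV : Module.finrank (ZMod p) (Fin l → GaloisField p d) = n := by
    show Module.finrank (ZMod p) (Fin l → (GaloisField p d)) = n
    rw [Module.finrank_pi_fintype, Finset.sum_const, GaloisField.finrank p (by omega), Finset.card_univ,
      Fintype.card_fin, smul_eq_mul, hn]
  have hfinE : Module.finrank (ZMod p) E = n := by
    have h1 : Nat.card E = Nat.card (ZMod p) ^ Module.finrank (ZMod p) E := by
      rw [Nat.card_congr (Module.finBasis (ZMod p) E).equivFun.toEquiv, Nat.card_fun, Nat.card_fin]
    rw [hcard, Nat.card_zmod] at h1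
    exact (Nat.pow_right_injective hp.two_le h1).symm
  let eEV : E ≃ₗ[(ZMod p)] (Fin l → GaloisField p d) := LinearEquiv.ofFinrankEq E (Fin l → GaloisField p d) (hfinE.trans hfinV.symm)
  let ψ : D →* Module.End (ZMod p) (Fin l → GaloisField p d) :=
    { toFun := fun g => eEV.conj ((DistribSMul.toAddMonoidHom E g).toZModLinearMap p)
      map_one' := LinearMap.ext fun v => by
        change eEV ((1 : D) • eEV.symm v) = v
        simp
      map_mul' := fun g g' => LinearMap.ext fun v => by
        change eEV ((g * g') • eEV.symm v) = eEV (g • eEV.symm (eEV (g' • eEV.symm v)))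
        simp [mul_smul] }
  have hψ : Function.Injective ψ := fun g g' hg => FaithfulSMul.eq_of_smul_eq_smul fun e => by
    have h1 := DFunLike.congr_fun hg (eEV e)
    change eEV (g • eEV.symm (eEV e)) = eEV (g' • eEV.symm (eEV e)) at h1
    simpa using h1
  let φ : D →* (Module.End (ZMod p) (Fin l → GaloisField p d))ˣ := ψ.toHomUnits
  have hφ : Function.Injective φ := fun g g' hg => hψ (congrArg Units.val hg)
  let δ : (Fin l → GaloisField p d) →ₐ[(ZMod p)] Module.End (ZMod p) (Fin l → GaloisField p d) := Algebra.lmul (ZMod p) (Fin l → GaloisField p d)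
  have hδ : Function.Injective δ := Algebra.lmul_injective
  let T : (Fin l → GaloisField p d)ˣ →* (Module.End (ZMod p) (Fin l → GaloisField p d))ˣ := Units.map (δ : (Fin l → GaloisField p d) →* Module.End (ZMod p) (Fin l → GaloisField p d))
  have hT : Function.Injective T := Units.map_injective hδ
  haveI : Finite (Module.End (ZMod p) (Fin l → GaloisField p d)) := Module.finite_of_finite (ZMod p)
  haveI : Finite (Module.End (ZMod p) (Fin l → GaloisField p d))ˣ := inferInstance
  have hidx : ¬ r ∣ T.range.index := by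
    have hG : Nat.card (Module.End (ZMod p) (Fin l → GaloisField p d))ˣ = ∏ i : Fin n, (p ^ n - p ^ (i : ℕ)) := by
      rw [Nat.card_congr (Units.mapEquiv
        ((algEquivMatrix (Module.finBasisOfFinrankEq (ZMod p) (Fin l → GaloisField p d) hfinV)).toMulEquiv)).toEquiv,
        Matrix.card_GL_field, ZMod.card]
    have hA : Nat.card T.range = (p ^ d - 1) ^ l := by
      rw [← Nat.card_congr (MonoidHom.ofInjective hT).toEquiv,
        Nat.card_congr (MulEquiv.piUnits (M := fun _ : Fin l => (GaloisField p d))).toEquiv, Nat.card_pi,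
        Finset.prod_const, Finset.card_univ, Fintype.card_fin, Nat.card_units, GaloisField.card p d (by omega)]
    obtain ⟨c, hc, hprod⟩ := prod_pow_sub_one (l := l) hp.one_lt hr (by omega) hl n hn.le
    have hprod' : (∏ i : Fin n, (p ^ n - p ^ (i : ℕ))) =
        (∏ i ∈ Finset.range n, p ^ i) * (c * (p ^ d - 1) ^ l) := by
      rw [Fin.prod_univ_eq_prod_range (fun i => p ^ n - p ^ i) n,
        show l = n / d by rw [hn, Nat.mul_div_cancel _ (by omega)], ← hprod,
        ← Finset.prod_range_reflect (fun j => p ^ (j + 1) - 1) n, ← Finset.prod_mul_distrib]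
      refine Finset.prod_congr rfl fun i hi => ?_
      rw [Finset.mem_range] at hi
      rw [Nat.mul_sub, mul_one, ← pow_add, show i + (n - 1 - i + 1) = n by omega]
    have hrp : ¬ r ∣ p := fun h => by
      have h1 : r ∣ p ^ d := dvd_pow h (by omega)
      have h2 := Nat.dvd_sub h1 hr.2.1
      rw [Nat.sub_sub_self (Nat.one_le_pow _ _ hp.pos)] at h2
      exact hr.1.not_dvd_one h2
    have hmul := T.range.card_mul_index
    rw [hA, hG, hprod'] at hmul
    have hpos : 0 < (p ^ d - 1) ^ l := hA ▸ Nat.card_pos
    have : T.range.index = (∏ i ∈ Finset.range n, p ^ i) * c :=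
      Nat.eq_of_mul_eq_mul_left hpos (by rw [hmul]; ring)
    rw [this, hr.1.dvd_mul, Prime.dvd_finsetProd_iff hr.1.prime]
    rintro (⟨i, -, hi⟩ | h)
    · exact hrp (hr.1.dvd_of_dvd_pow hi)
    · exact hc h
  obtain ⟨γ, hγ⟩ := exists_conj_mem T.range hidx (P.isPGroup'.map φ)
  have htor : ∀ y : ↥(P : Subgroup D), ∃ t : (Fin l → GaloisField p d)ˣ, T t = γ * φ y * γ⁻¹ := fun y =>
    hγ _ (Subgroup.mem_map_of_mem φ y.2)
  choose ι hι using htor
  -- each coordinate of an element of a class is an eigenvalue
  let roots : D → Finset (GaloisField p d) := fun x => ((minpoly (ZMod p) (ψ x)).map (algebraMap (ZMod p) (GaloisField p d))).roots.toFinset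
  have hroots : ∀ x, (roots x).card ≤ n := fun x => by
    refine (Multiset.toFinset_card_le _).trans ((card_roots' _).trans ?_)
    rw [natDegree_map, ← hfinV, ← LinearMap.charpoly_natDegree (ψ x)]
    exact natDegree_le_of_dvd (LinearMap.minpoly_dvd_charpoly _) (LinearMap.charpoly_monic _).ne_zero
  have hmem : ∀ (x : D) (y : ↥(P : Subgroup D)), IsConj x (y : D) → ∀ i, (ι y : (Fin l → GaloisField p d)) i ∈ roots x := by
    intro x y hxy i
    obtain ⟨g, hg⟩ := isConj_iff.1 hxy
    have hconj : T (ι y) = (γ * φ g) * φ x * (γ * φ g)⁻¹ := by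
      rw [hι, ← hg, map_mul, map_mul, map_inv]; group
    set u := γ * φ g with hu
    let c : Module.End (ZMod p) (Fin l → GaloisField p d) →ₐ[(ZMod p)] Module.End (ZMod p) (Fin l → GaloisField p d) := (MulSemiringAction.toAlgHom (ZMod p) (Module.End (ZMod p) (Fin l → GaloisField p d))
      (ConjAct.toConjAct u))
    have h1 : δ (ι y : (Fin l → GaloisField p d)) = c (ψ x) := by
      have h2 := congrArg Units.val hconj
      rw [Units.val_mul, Units.val_mul] at h2
      exact h2
    have h3 : aeval (ι y : (Fin l → GaloisField p d)) (minpoly (ZMod p) (ψ x)) = 0 := by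
      apply hδ
      rw [← aeval_algHom_apply, h1, aeval_algHom_apply, minpoly.aeval, map_zero, map_zero]
    have h4 : aeval ((ι y : (Fin l → GaloisField p d)) i) (minpoly (ZMod p) (ψ x)) = 0 := by
      have := congrArg (Pi.evalAlgHom (ZMod p) (fun _ : Fin l => (GaloisField p d)) i) h3
      rwa [← aeval_algHom_apply, map_zero] at this
    simp only [roots, Multiset.mem_toFinset, mem_roots', IsRoot.def, eval_map, ← aeval_def]
    exact ⟨Polynomial.map_ne_zero (minpoly.ne_zero (Algebra.IsIntegral.isIntegral _)), h4⟩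
  have hιinj : Function.Injective ι := fun y y' e => Subtype.ext (hφ (mul_left_cancel
    (mul_right_cancel ((hι y).symm.trans ((congrArg T e).trans (hι y'))))))
  haveI := Fintype.ofFinite ↥(P : Subgroup D)
  haveI := Fintype.ofFinite (ConjClasses D)
  rw [Nat.card_eq_fintype_card, Nat.card_eq_fintype_card, ← Finset.card_univ]
  refine (Finset.card_le_mul_card_image (f := fun y : ↥(P : Subgroup D) => ConjClasses.mk (y : D))
    Finset.univ (n ^ l) fun cl _ => ?_).trans (Nat.mul_le_mul_left _ (Finset.card_le_univ _))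
  obtain ⟨x, rfl⟩ := ConjClasses.mk_surjective cl
  refine le_trans (Finset.card_le_card_of_injOn (t := Fintype.piFinset fun _ : Fin l => roots x)
    (fun y => (ι y : (Fin l → GaloisField p d))) (fun y hy => ?_) (fun y _ y' _ e => hιinj (Units.ext e))) ?_
  · have hy' : IsConj x (y : D) :=
      (ConjClasses.mk_eq_mk_iff_isConj.1 (Finset.mem_filter.1 hy).2).symm
    exact Fintype.mem_piFinset.2 (hmem x y hy')
  · rw [Fintype.card_piFinset, Finset.prod_const, Finset.card_univ, Fintype.card_fin]
    exact Nat.pow_le_pow_left (hroots x) l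

end CfsgLib.KpThree
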