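import Cfsg.Agent.Lib.KpThree.Defs
import Cfsg.Agent.Lib.KpRegular.Linear
import Mathlib.RingTheory.IntegralDomain
import Mathlib.LinearAlgebra.LinearIndependent.Defs

/-!
# A normal abelian subgroup of exponent dividing `p - 1`

With two orbits it is scalar, or there are two weight spaces and many classes.
-/

set_option autoImplicit false

open scoped Pointwise

namespace CfsgLib.KpThree

variable {D E : Type*} [Group D] [Finite D] [AddCommGroup E] [Finite E] [DistribMulAction D E]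
  [FaithfulSMul D E] {p : ℕ} [hp : Fact p.Prime]

/-- At most two classes of a subgroup of index two fuse. -/
theorem classes_index_two {G : Type*} [Group G] [Finite G] (N : Subgroup G) (hN : N.index = 2) :
    Nat.card (ConjClasses N) + 2 ≤ 2 * Nat.card (ConjClasses G) := by
  classical
  haveI : N.Normal := Subgroup.normal_of_index_eq_two hN
  obtain ⟨t, ht⟩ : ∃ t, t ∉ N := by
    by_contra h
    push Not at h
    rw [Subgroup.eq_top_iff' N |>.mpr h, Subgroup.index_top] at hN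
    omega
  have := Fintype.ofFinite (ConjClasses N)
  have := Fintype.ofFinite (ConjClasses G)
  let φ : ConjClasses N → ConjClasses G := ConjClasses.map N.subtype
  have himg : ∀ c ∈ (Finset.univ : Finset (ConjClasses N)), φ c ∈ Finset.univ.erase (ConjClasses.mk t) := by
    intro c _
    rw [Finset.mem_erase]
    refine ⟨?_, Finset.mem_univ _⟩
    obtain ⟨x, rfl⟩ := ConjClasses.mk_surjective c
    intro h
    obtain ⟨g, hg⟩ := isConj_iff.mp (ConjClasses.mk_eq_mk_iff_isConj.mp h)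
    exact ht (hg ▸ Subgroup.Normal.conj_mem inferInstance _ x.2 g)
  have hle := Finset.card_le_mul_card_image_of_maps_to himg 2 fun c _ => by
    by_cases hne : (Finset.univ.filter fun a => φ a = c).Nonempty
    · obtain ⟨a₀, ha₀⟩ := hne
      rw [Finset.mem_filter] at ha₀
      obtain ⟨x, rfl⟩ := ConjClasses.mk_surjective a₀
      let y : N := ⟨t * x * t⁻¹, Subgroup.Normal.conj_mem inferInstance _ x.2 t⟩
      refine (Finset.card_le_card (t := {ConjClasses.mk x, ConjClasses.mk y}) fun a ha => ?_).trans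
        Finset.card_le_two
      rw [Finset.mem_filter] at ha
      obtain ⟨z, rfl⟩ := ConjClasses.mk_surjective a
      obtain ⟨g, hg⟩ := isConj_iff.mp (ConjClasses.mk_eq_mk_iff_isConj.mp (ha₀.2.trans ha.2.symm))
      rw [Finset.mem_insert, Finset.mem_singleton]
      by_cases hgN : g ∈ N
      · exact Or.inl (ConjClasses.mk_eq_mk_iff_isConj.mpr (isConj_iff.mpr ⟨⟨g, hgN⟩, Subtype.ext hg⟩).symm)
      · have h2 : g * t⁻¹ ∈ N := by
          rw [Subgroup.mul_mem_iff_of_index_two hN]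
          exact ⟨fun h => absurd h hgN, fun h => absurd (by simpa using N.inv_mem h) ht⟩
        refine Or.inr (ConjClasses.mk_eq_mk_iff_isConj.mpr (isConj_iff.mpr ⟨⟨g * t⁻¹, h2⟩, Subtype.ext ?_⟩).symm)
        show g * t⁻¹ * (t * (x : G) * t⁻¹) * (g * t⁻¹)⁻¹ = (z : G)
        refine Eq.trans ?_ hg
        rw [Subgroup.subtype_apply]
        group
    · rw [Finset.not_nonempty_iff_eq_empty.mp hne]; simp
  rw [Finset.card_univ, Finset.card_erase_of_mem (Finset.mem_univ _), Finset.card_univ] at hle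
  rw [Nat.card_eq_fintype_card, Nat.card_eq_fintype_card]
  have : 0 < Fintype.card (ConjClasses G) := Fintype.card_pos
  omega

variable (A : Subgroup D) [hAn : A.Normal]

omit [Finite D] [Finite E] [FaithfulSMul D E] hAn in
/-- Vectors of distinct weights are independent. -/
theorem weight_indep [Module (ZMod p) E] (T : Finset (A →* ZMod p)) (f : (A →* ZMod p) → E)
    (hf : ∀ χ ∈ T, ∀ x : A, (x : D) • f χ = χ x • f χ) (hsum : ∑ χ ∈ T, f χ = 0) :
    ∀ χ ∈ T, f χ = 0 := by
  classical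
  intro χ hχ
  by_contra hne
  obtain ⟨φ, hφ⟩ : ∃ φ : Module.Dual (ZMod p) E, φ (f χ) ≠ 0 := by
    by_contra h
    push Not at h
    exact hne ((Module.forall_dual_apply_eq_zero_iff (ZMod p) _).mp h)
  have hli := linearIndependent_monoidHom A (ZMod p)
  have h0 : ∑ ψ ∈ T, φ (f ψ) • (ψ : A → ZMod p) = 0 := by
    funext x
    have h1 : ((x : D) • ∑ ψ ∈ T, f ψ) = 0 := by rw [hsum, smul_zero]
    rw [Finset.smul_sum, Finset.sum_congr rfl (fun ψ hψ => hf ψ hψ x)] at h1
    have h2 := congrArg φ h1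
    rw [map_sum, map_zero] at h2
    rw [Finset.sum_apply, Pi.zero_apply, ← h2]
    exact Finset.sum_congr rfl fun ψ _ => by
      rw [Pi.smul_apply, map_smul, smul_eq_mul, smul_eq_mul, mul_comm]
  exact hφ (linearIndependent_iff'.mp hli T _ h0 χ hχ)

/-- A normal abelian subgroup of exponent dividing `p - 1` is scalar, or there are many classes. -/
theorem scalar_or_bound (hE : ∀ e : E, p • e = 0) (h2 : TwoOrbits D E) (hp5 : 5 ≤ p)
    (hD : ¬ p ∣ Nat.card D)
    (hA : ∀ x ∈ A, x ^ (p - 1) = 1) (hAc : ∀ x ∈ A, ∀ y ∈ A, x * y = y * x) :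
    (∀ x ∈ A, ∃ c : ℕ, ∀ e : E, x • e = c • e) ∨ p ≤ 2 * Nat.card (ConjClasses D) := by
  classical
  let : Module (ZMod p) E := AddCommGroup.zmodModule (n := p) hE
  have hlin : ∀ (g : D) (c : ZMod p) (v : E), g • (c • v) = c • (g • v) := fun g c v =>
    ((DistribSMul.toAddMonoidHom E g).toZModLinearMap p).map_smul c v
  have hnat : ∀ (c : ZMod p) (v : E), c • v = c.val • v := fun c v => by
    rw [← Nat.cast_smul_eq_nsmul (ZMod p), ZMod.natCast_zmod_val]
  let IsW : E → Prop := fun v => ∀ x ∈ A, ∃ c : ZMod p, x • v = c • v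
  have hWg : ∀ (g : D) (v : E), IsW v → IsW (g • v) := by
    intro g v hv x hx
    obtain ⟨c, hc⟩ := hv (g⁻¹ * x * g) (by simpa using hAn.conj_mem x hx g⁻¹)
    exact ⟨c, by rw [← hlin, ← hc, ← mul_smul, ← mul_smul]; congr 1; group⟩
  -- a common eigenvector
  obtain ⟨u₀, hu₀, hu₀W⟩ : ∃ u : E, u ≠ 0 ∧ IsW u := by
    obtain ⟨a₀, b₀, ha₀, -⟩ := id h2
    suffices h : ∀ S : Finset D, (∀ x ∈ S, x ∈ A) → ∃ u : E, u ≠ 0 ∧ ∀ x ∈ S, ∃ c : ZMod p, x • u = c • u by
      have := Fintype.ofFinite D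
      obtain ⟨u, hu, hux⟩ := h (Finset.univ.filter (· ∈ A)) (fun x hx => by simpa using hx)
      exact ⟨u, hu, fun x hx => hux x (by simpa using hx)⟩
    intro S
    induction S using Finset.induction with
    | empty => exact fun _ => ⟨a₀, ha₀, by simp⟩
    | @insert y S hy ih =>
      intro hS
      obtain ⟨u, hu, hux⟩ := ih fun x hx => hS x (Finset.mem_insert_of_mem hx)
      have hyA := hS y (Finset.mem_insert_self _ _)
      let w : (ZMod p)ˣ → E := fun c => ∑ i ∈ Finset.range (p - 1), ((c⁻¹ : (ZMod p)ˣ) : ZMod p) ^ i • (y ^ i • u)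
      have hyw : ∀ c : (ZMod p)ˣ, y • w c = (c : ZMod p) • w c := by
        intro c
        simp only [w, Finset.smul_sum, hlin, smul_smul, ← mul_smul y]
        let F : ℕ → E := fun i => ((c : ZMod p) * ((c⁻¹ : (ZMod p)ˣ) : ZMod p) ^ i) • (y ^ i • u)
        have hF : F (p - 1) = F 0 := by
          simp only [F, hA y hyA, pow_zero, ← Units.val_pow_eq_pow_val, ZMod.units_pow_card_sub_one_eq_one,
            Units.val_one]
        have hshift : ∀ i, ((c⁻¹ : (ZMod p)ˣ) : ZMod p) ^ i • ((y * y ^ i) • u) = F (i + 1) := by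
          intro i
          simp only [F, pow_succ' y, pow_succ' (((c⁻¹ : (ZMod p)ˣ) : ZMod p))]
          rw [← mul_assoc, Units.mul_inv, one_mul]
        rw [Finset.sum_congr rfl fun i _ => hshift i]
        show ∑ i ∈ Finset.range (p - 1), F (i + 1) = ∑ i ∈ Finset.range (p - 1), F i
        have h1 := Finset.sum_range_succ F (p - 1)
        have h2' := Finset.sum_range_succ' F (p - 1)
        rw [h1, hF] at h2'
        exact (add_right_cancel h2').symm
      have hwx : ∀ c : (ZMod p)ˣ, ∀ x ∈ S, ∃ d : ZMod p, x • w c = d • w c := by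
        intro c x hx
        obtain ⟨d, hd⟩ := hux x hx
        refine ⟨d, ?_⟩
        simp only [w, Finset.smul_sum, hlin]
        refine Finset.sum_congr rfl fun i _ => ?_
        rw [← mul_smul, hAc x (hS x (Finset.mem_insert_of_mem hx)) _ (A.pow_mem hyA i), mul_smul, hd, hlin,
          smul_comm]
      obtain ⟨c, hc⟩ : ∃ c, w c ≠ 0 := by
        by_contra h
        push Not at h
        have hsum : ∑ c : (ZMod p)ˣ, w c = ((p - 1 : ℕ) : ZMod p) • u := by
          simp only [w]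
          rw [Finset.sum_comm, Finset.sum_eq_single_of_mem 0 (by simp; omega) fun i hi hi0 => ?_]
          · simp only [pow_zero, one_smul, Finset.sum_const, Finset.card_univ]
            rw [ZMod.card_units, Nat.cast_smul_eq_nsmul]
          · rw [← Finset.sum_smul]
            have hz : ∑ x : (ZMod p)ˣ, ((x⁻¹ : (ZMod p)ˣ) : ZMod p) ^ i = 0 := by
              rw [Fintype.sum_equiv (Equiv.inv (ZMod p)ˣ) (fun x => ((x⁻¹ : (ZMod p)ˣ) : ZMod p) ^ i)
                (fun x => (x : ZMod p) ^ i) (fun x => rfl), FiniteField.sum_pow_units, if_neg]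
              rw [ZMod.card]
              intro hdvd
              have := Nat.le_of_dvd (Nat.pos_of_ne_zero hi0) hdvd
              rw [Finset.mem_range] at hi
              omega
            rw [hz, zero_smul]
        rw [Finset.sum_eq_zero fun c _ => h c] at hsum
        rcases smul_eq_zero.mp hsum.symm with h0 | h0
        · rw [ZMod.natCast_eq_zero_iff] at h0
          have := Nat.le_of_dvd (by omega) h0
          omega
        · exact hu h0
      refine ⟨w c, hc, fun x hx => ?_⟩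
      rcases Finset.mem_insert.mp hx with rfl | hx
      · exact ⟨_, hyw c⟩
      · exact hwx c x hx
  by_cases hall : ∀ v : E, IsW v
  · left
    intro x hx
    obtain ⟨c, hc⟩ := hall u₀ x hx
    refine ⟨c.val, fun v => ?_⟩
    rw [← hnat]
    by_cases hv : ∃ d : ZMod p, v = d • u₀
    · obtain ⟨d, rfl⟩ := hv
      rw [hlin, hc, smul_comm]
    · push Not at hv
      obtain ⟨c₁, hc₁⟩ := hall v x hx
      obtain ⟨c₂, hc₂⟩ := hall (u₀ + v) x hx
      rw [smul_add, hc, hc₁, smul_add] at hc₂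
      have e : (c₁ - c₂) • v = (c₂ - c) • u₀ := by
        rw [sub_smul, sub_smul, sub_eq_sub_iff_add_eq_add, add_comm, hc₂, add_comm]
      by_cases h12 : c₁ - c₂ = 0
      · rw [h12, zero_smul, eq_comm, smul_eq_zero, or_iff_left hu₀, sub_eq_zero] at e
        rw [hc₁, sub_eq_zero.mp h12, e]
      · exact absurd (by rw [mul_smul, ← e, smul_smul, inv_mul_cancel₀ h12, one_smul] : v = ((c₁ - c₂)⁻¹ * (c₂ - c)) • u₀)
          (hv _)
  right
  push Not at hall
  obtain ⟨v₀, hv₀⟩ := hall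
  obtain ⟨a, b, ha, hb, hab, hcover⟩ := id h2
  -- any two nonzero weight vectors are conjugate, and so are any two others
  have horb : ∀ v w : E, v ≠ 0 → w ≠ 0 → (IsW v ↔ IsW w) → ∃ g : D, g • v = w := by
    have hmem : ∀ {u v : E}, v ∈ MulAction.orbit D u → (IsW v ↔ IsW u) := by
      rintro u v ⟨g, rfl⟩
      exact ⟨fun h => by simpa using hWg g⁻¹ _ h, hWg g u⟩
    have hv₀0 : v₀ ≠ 0 := fun h => hv₀ fun x _ => ⟨1, by rw [h, smul_zero, one_smul]⟩
    intro v w hv hw hiff
    rcases hcover v hv with h | h <;> rcases hcover w hw with h' | h'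
    · obtain ⟨g, rfl⟩ := h
      obtain ⟨g', rfl⟩ := h'
      exact ⟨g' * g⁻¹, by simp [mul_smul]⟩
    · exfalso
      rw [hmem h, hmem h'] at hiff
      rcases hcover u₀ hu₀ with q | q <;> rcases hcover v₀ hv₀0 with q' | q'
      all_goals first
        | exact hv₀ ((hmem q').mpr ((hmem q).mp hu₀W))
        | exact hv₀ ((hmem q').mpr (hiff.mp ((hmem q).mp hu₀W)))
        | exact hv₀ ((hmem q').mpr (hiff.mpr ((hmem q).mp hu₀W)))
    · exfalso
      rw [hmem h, hmem h'] at hiff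
      rcases hcover u₀ hu₀ with q | q <;> rcases hcover v₀ hv₀0 with q' | q'
      all_goals first
        | exact hv₀ ((hmem q').mpr ((hmem q).mp hu₀W))
        | exact hv₀ ((hmem q').mpr (hiff.mp ((hmem q).mp hu₀W)))
        | exact hv₀ ((hmem q').mpr (hiff.mpr ((hmem q).mp hu₀W)))
    · obtain ⟨g, rfl⟩ := h
      obtain ⟨g', rfl⟩ := h'
      exact ⟨g' * g⁻¹, by simp [mul_smul]⟩
  -- weights
  have hwt : ∀ v : E, IsW v → v ≠ 0 → ∃ χ : A →* ZMod p, ∀ x : A, (x : D) • v = χ x • v := by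
    intro v hv hv0
    choose c hc using fun x : A => hv x x.2
    refine ⟨{ toFun := c, map_one' := ?_, map_mul' := fun x y => ?_ }, hc⟩
    · exact smul_left_injective (ZMod p) hv0 (show c 1 • v = (1 : ZMod p) • v by
        rw [← hc 1, Subgroup.coe_one, one_smul, one_smul])
    · exact smul_left_injective (ZMod p) hv0 (show c (x * y) • v = (c x * c y) • v by
        rw [← hc (x * y), Subgroup.coe_mul, mul_smul, hc y, hlin, hc x, smul_smul, mul_comm])
  obtain ⟨χ₀, hχ₀⟩ := hwt u₀ hu₀W hu₀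
  let U : AddSubgroup E :=
    { carrier := {v | ∀ x : A, (x : D) • v = χ₀ x • v}
      zero_mem' := fun x => by rw [smul_zero, smul_zero]
      add_mem' := fun hu hv x => by rw [smul_add, hu x, hv x, smul_add]
      neg_mem' := fun hu x => by rw [smul_neg, hu x, smul_neg] }
  have huniq : ∀ {v : E}, v ≠ 0 → ∀ {χ ψ : A →* ZMod p}, (∀ x : A, (x : D) • v = χ x • v) →
      (∀ x : A, (x : D) • v = ψ x • v) → χ = ψ := fun {v} hv {χ ψ} h h' =>
    MonoidHom.ext fun x => smul_left_injective (ZMod p) hv (show χ x • v = ψ x • v by rw [← h x, h' x])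
  let D₀ : Subgroup D := MulAction.stabilizer D U
  have hD₀ : ∀ g : D, ∀ u ∈ U, u ≠ 0 → g • u ∈ U → g ∈ D₀ := by
    intro g u hu hu0 hgu
    rw [MulAction.mem_stabilizer_iff]
    let cg : A →* A :=
      { toFun := fun x => ⟨g⁻¹ * x * g, by simpa using hAn.conj_mem (x : D) x.2 g⁻¹⟩
        map_one' := Subtype.ext (by simp)
        map_mul' := fun x y => Subtype.ext (by simp [mul_assoc]) }
    have hcg : ∀ v ∈ U, ∀ x : A, (x : D) • (g • v) = (χ₀.comp cg) x • (g • v) := fun v hv x => by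
      rw [← hlin, MonoidHom.comp_apply, ← hv (cg x), ← mul_smul, ← mul_smul]
      congr 1
      show (x : D) * g = g * (g⁻¹ * x * g)
      group
    have hgu0 : g • u ≠ 0 := fun h => hu0 ((smul_eq_zero_iff_eq g).mp h)
    have he : χ₀.comp cg = χ₀ := huniq hgu0 (hcg u hu) hgu
    refine SetLike.coe_injective (Set.Subset.antisymm ?_ ?_)
    · rintro _ ⟨v, hv, rfl⟩
      intro x
      have := hcg v hv x
      rw [he] at this
      exact this
    · intro v hv
      refine ⟨g⁻¹ • v, ?_, smul_inv_smul g v⟩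
      intro x
      have hx : (cg ⟨g * x * g⁻¹, hAn.conj_mem x x.2 g⟩) = x := Subtype.ext (by simp [cg, mul_assoc])
      have h3 : χ₀ x = χ₀ ⟨g * x * g⁻¹, hAn.conj_mem x x.2 g⟩ := by
        conv_lhs => rw [← hx, ← MonoidHom.comp_apply, he]
      rw [h3, ← hlin, ← hv ⟨g * x * g⁻¹, hAn.conj_mem x x.2 g⟩, ← mul_smul, ← mul_smul]
      congr 1
      show (x : D) * g⁻¹ = g⁻¹ * (g * x * g⁻¹)
      group
  have hu₀U : u₀ ∈ U := hχ₀
  have hUW : ∀ v ∈ U, IsW v := fun v hv x hx => ⟨_, hv ⟨x, hx⟩⟩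
  -- the index is at most two
  have hidx : D₀.index ≤ 2 := by
    by_contra hlt
    push Not at hlt
    obtain ⟨g₁, g₂, hg₁, hg₂, hg₁₂⟩ : ∃ g₁ g₂ : D, g₁ ∉ D₀ ∧ g₂ ∉ D₀ ∧ g₁⁻¹ * g₂ ∉ D₀ := by
      rw [Subgroup.index_eq_card] at hlt
      obtain ⟨q₁, q₂, h1, h2', h3⟩ : ∃ q₁ q₂ : D ⧸ D₀, q₁ ≠ QuotientGroup.mk 1 ∧ q₂ ≠ QuotientGroup.mk 1 ∧ q₁ ≠ q₂ := by
        have := Fintype.ofFinite (D ⧸ D₀)
        rw [Nat.card_eq_fintype_card, Fintype.two_lt_card_iff] at hlt
        obtain ⟨x, y, z, hxy, hxz, hyz⟩ := hlt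
        by_cases hx : x = QuotientGroup.mk 1
        · exact ⟨y, z, hx ▸ hxy.symm, hx ▸ hxz.symm, hyz⟩
        by_cases hy : y = QuotientGroup.mk 1
        · exact ⟨x, z, hx, hy ▸ hyz.symm, hxz⟩
        exact ⟨x, y, hx, hy, hxy⟩
      obtain ⟨g₁, rfl⟩ := QuotientGroup.mk_surjective q₁
      obtain ⟨g₂, rfl⟩ := QuotientGroup.mk_surjective q₂
      refine ⟨g₁, g₂, fun h => h1 (QuotientGroup.eq.mpr (by simpa using D₀.inv_mem h)),
        fun h => h2' (QuotientGroup.eq.mpr (by simpa using D₀.inv_mem h)), fun h => h3 (QuotientGroup.eq.mpr h)⟩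
    have hw : ∀ g : D, ∃ χ : A →* ZMod p, ∀ x : A, (x : D) • (g • u₀) = χ x • (g • u₀) := fun g =>
      hwt _ (hWg g u₀ hu₀W) (fun h => hu₀ ((smul_eq_zero_iff_eq g).mp h))
    obtain ⟨χ₁, hχ₁⟩ := hw g₁
    obtain ⟨χ₂, hχ₂⟩ := hw g₂
    have hn1 : g₁ • u₀ ≠ 0 := fun h => hu₀ ((smul_eq_zero_iff_eq g₁).mp h)
    have hn2 : g₂ • u₀ ≠ 0 := fun h => hu₀ ((smul_eq_zero_iff_eq g₂).mp h)
    have h01 : χ₀ ≠ χ₁ := fun h => hg₁ (hD₀ g₁ u₀ hu₀U hu₀ fun x => h ▸ hχ₁ x)
    have h02 : χ₀ ≠ χ₂ := fun h => hg₂ (hD₀ g₂ u₀ hu₀U hu₀ fun x => h ▸ hχ₂ x)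
    have h12 : χ₁ ≠ χ₂ := by
      intro h
      refine hg₁₂ (hD₀ _ u₀ hu₀U hu₀ fun x => ?_)
      have hconj : g₁ * x * g₁⁻¹ ∈ A := hAn.conj_mem x x.2 g₁
      have e1 := hχ₁ ⟨_, hconj⟩
      rw [← hlin, ← mul_smul, show g₁ * (x : D) * g₁⁻¹ * g₁ = g₁ * (x : D) by group, mul_smul] at e1
      have e2 := hχ₂ ⟨_, hconj⟩
      rw [← h] at e2
      have e3 : (χ₁ ⟨_, hconj⟩) = χ₀ x := smul_left_injective (ZMod p) hu₀
        (show χ₁ ⟨_, hconj⟩ • u₀ = χ₀ x • u₀ by rw [← hχ₀ x, smul_left_cancel g₁ e1])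
      rw [e3] at e2
      rw [mul_smul]
      refine smul_left_cancel g₁ ?_
      rw [hlin g₁, smul_inv_smul, ← e2, ← mul_smul, ← mul_smul, ← mul_smul]
    let mk3 : E := u₀ + g₁ • u₀ + g₂ • u₀
    have hsplit : ∀ v : E, ¬ IsW v → ∃ (ψ₁ ψ₂ : A →* ZMod p) (y₁ y₂ : E), (∀ x : A, (x : D) • y₁ = ψ₁ x • y₁) ∧
        (∀ x : A, (x : D) • y₂ = ψ₂ x • y₂) ∧ v = y₁ + y₂ := by
      intro v hv
      have hs : ¬ IsW (u₀ + g₁ • u₀) := by
        intro hs
        by_cases hz : u₀ + g₁ • u₀ = 0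
        · have := eq_neg_of_add_eq_zero_right hz
          exact hg₁ (hD₀ g₁ u₀ hu₀U hu₀ (this ▸ U.neg_mem hu₀U))
        obtain ⟨ψ, hψ⟩ := hwt _ hs hz
        have hT := weight_indep A {χ₀, χ₁, ψ} (fun χ => (if χ = χ₀ then u₀ else 0) + (if χ = χ₁ then g₁ • u₀ else 0)
          - (if χ = ψ then u₀ + g₁ • u₀ else 0)) (fun χ _ x => by
            rw [smul_sub, smul_add, smul_sub, smul_add]
            congr 1; congr 1
            all_goals (split_ifs with h <;> first | (subst h; first | exact hχ₀ x | exact hχ₁ x | exact hψ x) | simp))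
          (by rw [Finset.sum_sub_distrib, Finset.sum_add_distrib]; simp)
        have e0 := hT χ₀ (by simp)
        have e1 := hT χ₁ (by simp)
        rw [if_pos rfl, if_neg h01, add_zero] at e0
        rw [if_neg h01.symm, if_pos rfl, zero_add] at e1
        by_cases h0 : χ₀ = ψ
        · rw [if_neg (h0 ▸ h01.symm), sub_zero] at e1
          exact hn1 e1
        · rw [if_neg h0, sub_zero] at e0
          exact hu₀ e0
      have hs0 : u₀ + g₁ • u₀ ≠ 0 := fun h => hs fun x _ => ⟨1, by rw [h, smul_zero, one_smul]⟩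
      have hv0 : v ≠ 0 := fun h => hv fun x _ => ⟨1, by rw [h, smul_zero, one_smul]⟩
      obtain ⟨g, rfl⟩ := horb _ v hs0 hv0 ⟨fun h => absurd h hs, fun h => absurd h hv⟩
      have hy : ∀ u : E, IsW u → u ≠ 0 → ∃ ψ : A →* ZMod p, ∀ x : A, (x : D) • (g • u) = ψ x • (g • u) :=
        fun u hu hu0 => hwt _ (hWg g u hu) fun h => hu0 ((smul_eq_zero_iff_eq g).mp h)
      obtain ⟨ψ₁, hψ₁⟩ := hy u₀ hu₀W hu₀
      obtain ⟨ψ₂, hψ₂⟩ := hy (g₁ • u₀) (hWg g₁ u₀ hu₀W) hn1
      exact ⟨ψ₁, ψ₂, _, _, hψ₁, hψ₂, smul_add g _ _⟩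
    have key : ∀ (ψ₁ ψ₂ : A →* ZMod p) (y₁ y₂ : E), (∀ x : A, (x : D) • y₁ = ψ₁ x • y₁) →
        (∀ x : A, (x : D) • y₂ = ψ₂ x • y₂) → mk3 ≠ y₁ + y₂ := by
      intro ψ₁ ψ₂ y₁ y₂ hy₁ hy₂ heq
      have hT := weight_indep A {χ₀, χ₁, χ₂, ψ₁, ψ₂} (fun χ => (if χ = χ₀ then u₀ else 0) +
        (if χ = χ₁ then g₁ • u₀ else 0) + (if χ = χ₂ then g₂ • u₀ else 0) -
          ((if χ = ψ₁ then y₁ else 0) + (if χ = ψ₂ then y₂ else 0))) (fun χ _ x => by
          simp only [smul_sub, smul_add]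
          congr 1; congr 1
          all_goals first | congr 1 | skip
          all_goals (split_ifs with h <;> first | (subst h; first | exact hχ₀ x | exact hχ₁ x | exact hχ₂ x | exact hy₁ x | exact hy₂ x) | simp))
        (by rw [Finset.sum_sub_distrib, Finset.sum_add_distrib, Finset.sum_add_distrib, Finset.sum_add_distrib]
            simp only [Finset.sum_ite_eq', Finset.mem_insert, Finset.mem_singleton, true_or, or_true, if_true]
            exact sub_eq_zero.mpr heq)
      have hone : ∀ χ ∈ ({χ₀, χ₁, χ₂} : Finset (A →* ZMod p)), χ = ψ₁ ∨ χ = ψ₂ := by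
        intro χ hχ
        by_contra hne
        push Not at hne
        have e := hT χ (by simp at hχ ⊢; tauto)
        rw [if_neg hne.1, if_neg hne.2, add_zero, sub_zero] at e
        simp only [Finset.mem_insert, Finset.mem_singleton] at hχ
        rcases hχ with rfl | rfl | rfl
        · simp [h01, h02, hu₀] at e
        · simp [h01.symm, h12, hn1] at e
        · simp [h02.symm, h12.symm, hn2] at e
      rcases hone χ₀ (by simp) with a0 | a0 <;> rcases hone χ₁ (by simp) with a1 | a1 <;>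
        rcases hone χ₂ (by simp) with a2 | a2 <;>
        first | exact h01 (a0.trans a1.symm) | exact h02 (a0.trans a2.symm) | exact h12 (a1.trans a2.symm)
    by_cases hW3 : IsW mk3
    · by_cases hz : mk3 = 0
      · exact key χ₀ χ₀ 0 0 (fun x => by simp) (fun x => by simp) (by rw [hz, add_zero])
      · obtain ⟨ψ, hψ⟩ := hwt _ hW3 hz
        exact key ψ ψ mk3 0 hψ (fun x => by simp) (add_zero _).symm
    · obtain ⟨ψ₁, ψ₂, y₁, y₂, h1, h2', h3⟩ := hsplit mk3 hW3
      exact key ψ₁ ψ₂ y₁ y₂ h1 h2' h3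
  -- the action of the stabilizer on the weight space
  let f₀ : D₀ →* AddMonoid.End U :=
    { toFun := fun g =>
        { toFun := fun u => ⟨(g : D) • (u : E), by
            have hg : (g : D) • U = U := g.2
            exact (congrArg (fun W : AddSubgroup E => (g : D) • (u : E) ∈ W) hg).mp ⟨u, u.2, rfl⟩⟩
          map_zero' := Subtype.ext (smul_zero _)
          map_add' := fun u v => Subtype.ext (smul_add _ _ _) }
      map_one' := AddMonoidHom.ext fun u => Subtype.ext (one_smul D (u : E))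
      map_mul' := fun g h => AddMonoidHom.ext fun u => Subtype.ext (mul_smul (g : D) h (u : E)) }
  let f := f₀.toHomUnits
  have hfin : Finite f.range := Finite.of_surjective f.rangeRestrict f.rangeRestrict_surjective
  obtain ⟨e, he⟩ := KpRegular.exists_card_eq_pow hE U
  haveI : Nontrivial U := ⟨⟨⟨u₀, hu₀U⟩, 0, fun h => hu₀ (congrArg Subtype.val h)⟩⟩
  have he0 : 0 < e := by
    rcases Nat.eq_zero_or_pos e with rfl | h
    · rw [pow_zero] at he
      exact absurd he (Finite.one_lt_card (α := U)).ne'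
    · exact h
  have hDU : ¬ p ∣ Nat.card f.range := fun h => hD (h.trans
    ((Subgroup.card_range_dvd f).trans (Subgroup.card_subgroup_dvd_card D₀)))
  have htr : ∀ s t : U, s ≠ 0 → t ≠ 0 → ∃ g : f.range, g • s = t := by
    intro s t hs ht
    have hs0 : (s : E) ≠ 0 := fun h => hs (Subtype.ext h)
    have ht0 : (t : E) ≠ 0 := fun h => ht (Subtype.ext h)
    obtain ⟨g, hg⟩ := horb s t hs0 ht0 ⟨fun _ => hUW t t.2, fun _ => hUW s s.2⟩
    exact ⟨⟨f ⟨g, hD₀ g s s.2 hs0 (hg.symm ▸ t.2)⟩, ⟨_, rfl⟩⟩, Subtype.ext hg⟩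
  have hle : Nat.card (ConjClasses f.range) ≤ Nat.card (ConjClasses D₀) :=
    KpRegular.card_conjClasses_le_of_surjective f.rangeRestrict f.rangeRestrict_surjective
  have hk : p - 1 ≤ Nat.card (ConjClasses f.range) ∨
      (p = 11 ∧ Nat.card (ConjClasses f.range) = 9) := by
    rcases KpRegular.linear_bound (D := f.range) (E := U) p he0 (fun u => Subtype.ext (hE u)) he hDU htr with
      h | ⟨-, -, h⟩ | ⟨h, -, -, h', -⟩
    · exact Or.inl (by omega)
    · exact Or.inl h.ge
    · exact Or.inr ⟨h, h'⟩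
  rcases (show D₀.index = 1 ∨ D₀.index = 2 by
    have := D₀.index_ne_zero_of_finite; omega) with h1 | h1
  · rw [Subgroup.index_eq_one] at h1
    have e2 : Nat.card (ConjClasses D₀) ≤ Nat.card (ConjClasses D) :=
      KpRegular.card_conjClasses_le_of_surjective
        ((MulEquiv.subgroupCongr h1).trans Subgroup.topEquiv).symm.toMonoidHom
        ((MulEquiv.subgroupCongr h1).trans Subgroup.topEquiv).symm.surjective
    omega
  · have := classes_index_two D₀ h1
    omega

end CfsgLib.KpThree
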