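import Cfsg.Agent.Lib.KpThree.Defs
import Cfsg.Agent.Lib.KpThree.Count
import Cfsg.Agent.Lib.KpThree.Weights

/-!
# The small cases in eight dimensions
-/

set_option autoImplicit false

namespace CfsgLib.KpThree

variable {D E : Type*} [Group D] [Finite D] [AddCommGroup E] [Finite E] [DistribMulAction D E]
  [FaithfulSMul D E]

/-- Seven and thirteen: elements of prime order already give enough classes. -/
theorem small_seven {p : ℕ} [Fact p.Prime] (hp : p = 7) (hdvd : p ^ 4 - 1 ∣ Nat.card D) :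
    p ≤ 2 * Nat.card (ConjClasses D) := by
  subst hp
  have h : ∀ s ∈ ({2, 3, 5} : Finset ℕ), 1 ≤ (orderClasses D s).ncard := by
    intro s hs
    simp only [Finset.mem_insert, Finset.mem_singleton] at hs
    rcases hs with rfl | rfl | rfl <;>
      exact @orderClasses_pos D _ _ _ ⟨by norm_num⟩ (dvd_trans (by norm_num) hdvd)
  have h1 : 1 + ∑ s ∈ ({2, 3, 5} : Finset ℕ), 1 ≤ Nat.card (ConjClasses D) :=
    one_add_sum_le {2, 3, 5} (fun _ => 1) (by decide) h
  rw [show (∑ s ∈ ({2, 3, 5} : Finset ℕ), 1) = 3 by decide] at h1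
  omega

theorem small_thirteen {p : ℕ} [Fact p.Prime] (hp : p = 13) (hE : ∀ e : E, p • e = 0)
    (hcard : Nat.card E = p ^ 8) (hdvd : p ^ 4 - 1 ∣ Nat.card D) :
    p ≤ 2 * Nat.card (ConjClasses D) := by
  subst hp
  let : Module (ZMod 13) E := AddCommGroup.zmodModule (n := 13) hE
  haveI hfd : Module.Finite (ZMod 13) E := Module.Finite.of_finite
  obtain ⟨ψ, hψ⟩ := KpRegular.exists_linear (D := D) (E := E) (p := 13)
  haveI := Fact.mk (show Nat.Prime 17 by norm_num)
  have h17 := sub_one_le_mul_orderClasses ψ hψ (s := 17) (by norm_num) (dvd_trans (by norm_num) hdvd)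
  rw [KpRegular.finrank_eq (p := 13) (E := E) hcard] at h17
  have h : ∀ s ∈ ({2, 3, 5, 7, 17} : Finset ℕ), (if s = 17 then 2 else 1) ≤ (orderClasses D s).ncard := by
    intro s hs
    simp only [Finset.mem_insert, Finset.mem_singleton] at hs
    rcases hs with rfl | rfl | rfl | rfl | rfl
    all_goals first
      | (simp only [if_true]; omega)
      | (simp only [show ¬ (2 : ℕ) = 17 by decide, show ¬ (3 : ℕ) = 17 by decide,
            show ¬ (5 : ℕ) = 17 by decide, show ¬ (7 : ℕ) = 17 by decide, if_false]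
         exact @orderClasses_pos D _ _ _ ⟨by norm_num⟩ (dvd_trans (by norm_num) hdvd))
  have h1 : 1 + ∑ s ∈ ({2, 3, 5, 7, 17} : Finset ℕ), (if s = 17 then 2 else 1) ≤ Nat.card (ConjClasses D) :=
    one_add_sum_le {2, 3, 5, 7, 17} (fun s => if s = 17 then 2 else 1) (by decide) h
  rw [show (∑ s ∈ ({2, 3, 5, 7, 17} : Finset ℕ), (if s = 17 then 2 else 1)) = 6 by decide] at h1
  omega

/-- Forty-seven: a scalar of order `23` gives `22` classes. -/
theorem small_fortyseven {p : ℕ} [Fact p.Prime] (hp : p = 47) (hE : ∀ e : E, p • e = 0)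
    (h2 : TwoOrbits D E) (hD : ¬ p ∣ Nat.card D) (hdvd : p ^ 4 - 1 ∣ Nat.card D)
    (hsyl : ∀ P : Sylow 23 D, (P : Subgroup D).Normal ∧
      ∀ x ∈ (P : Subgroup D), ∀ y ∈ (P : Subgroup D), x * y = y * x) :
    p ≤ 2 * Nat.card (ConjClasses D) := by
  classical
  subst hp
  haveI := Fact.mk (show Nat.Prime 23 by norm_num)
  obtain ⟨P⟩ : Nonempty (Sylow 23 D) := inferInstance
  obtain ⟨hPn, hPc⟩ := hsyl P
  let A : Subgroup D :=
    { carrier := {x | x ∈ (P : Subgroup D) ∧ x ^ (47 - 1) = 1}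
      one_mem' := ⟨one_mem _, one_pow _⟩
      mul_mem' := fun {x y} hx hy => ⟨mul_mem hx.1 hy.1, by
        rw [(show Commute x y from hPc x hx.1 y hy.1).mul_pow, hx.2, hy.2, one_mul]⟩
      inv_mem' := fun {x} hx => ⟨inv_mem hx.1, by rw [inv_pow, hx.2, inv_one]⟩ }
  have hAn : A.Normal := ⟨fun x hx g => ⟨hPn.conj_mem x hx.1 g, by rw [conj_pow, hx.2, mul_one, mul_inv_cancel]⟩⟩
  have h23 : 23 ∣ Nat.card D := dvd_trans (by norm_num) hdvd
  have h23P : 23 ∣ Nat.card (P : Subgroup D) := by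
    simpa using P.pow_dvd_card_of_pow_dvd_card (n := 1) (by simpa using h23)
  obtain ⟨z, hz⟩ := exists_prime_orderOf_dvd_card' (G := (P : Subgroup D)) 23 h23P
  have hz' : orderOf (z : D) = 23 := by rw [Subgroup.orderOf_coe, hz]
  have hzA : (z : D) ∈ A := ⟨z.2, orderOf_dvd_iff_pow_eq_one.mp (by rw [hz']; norm_num)⟩
  rcases scalar_or_bound A hE h2 (by norm_num) hD (fun x hx => hx.2) (fun x hx y hy => hPc x hx.1 y hy.1) with
    hsc | h
  swap
  · exact h
  obtain ⟨c, hc⟩ := hsc z hzA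
  have hcen : ∀ g : D, g * (z : D) = z * g := fun g =>
    FaithfulSMul.eq_of_smul_eq_smul fun e : E => by
      rw [mul_smul, mul_smul, hc, hc]
      exact map_nsmul (DistribSMul.toAddMonoidHom E g) c e
  have h22 : 22 ≤ (orderClasses D 23).ncard := by
    have h1 : ((fun i : ℕ => ConjClasses.mk ((z : D) ^ i)) '' (Finset.Ico 1 23 : Set ℕ)).ncard = 22 := by
      rw [Set.ncard_image_of_injOn, Set.ncard_coe_finset, Nat.card_Ico]
      intro i hi j hj hij
      obtain ⟨g, hg⟩ := isConj_iff.mp (ConjClasses.mk_eq_mk_iff_isConj.mp hij)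
      rw [((show Commute g (z : D) from hcen g).pow_right i).eq, mul_inv_cancel_right] at hg
      simp only [Finset.coe_Ico, Set.mem_Ico] at hi hj
      exact pow_injOn_Iio_orderOf (Set.mem_Iio.mpr (by omega)) (Set.mem_Iio.mpr (by omega)) hg
    rw [← h1]
    refine Set.ncard_le_ncard ?_ (Set.toFinite _)
    rintro _ ⟨i, hi, rfl⟩
    simp only [Finset.coe_Ico, Set.mem_Ico] at hi
    refine ⟨_, rfl, ?_⟩
    rw [Nat.Coprime.orderOf_pow, hz']
    rw [hz']
    exact ((Nat.Prime.coprime_iff_not_dvd (by norm_num)).mpr fun h => by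
      have := Nat.le_of_dvd (by omega) h
      omega)
  have h : ∀ s ∈ ({2, 3, 23} : Finset ℕ), (if s = 23 then 22 else 1) ≤ (orderClasses D s).ncard := by
    intro s hs
    simp only [Finset.mem_insert, Finset.mem_singleton] at hs
    rcases hs with rfl | rfl | rfl
    all_goals first
      | (simp only [if_true]; omega)
      | (simp only [show ¬ (2 : ℕ) = 23 by decide, show ¬ (3 : ℕ) = 23 by decide, if_false]
         exact @orderClasses_pos D _ _ _ ⟨by norm_num⟩ (dvd_trans (by norm_num) hdvd))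
  have h1 : 1 + ∑ s ∈ ({2, 3, 23} : Finset ℕ), (if s = 23 then 22 else 1) ≤ Nat.card (ConjClasses D) :=
    one_add_sum_le {2, 3, 23} (fun s => if s = 23 then 22 else 1) (by decide) h
  rw [show (∑ s ∈ ({2, 3, 23} : Finset ℕ), (if s = 23 then 22 else 1)) = 24 by decide] at h1
  omega

end CfsgLib.KpThree
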