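import Cfsg.Agent.Lib.KpThree.Defs
import Cfsg.Agent.Lib.KpRegular.Lift
import Cfsg.Agent.Lib.KgvTrans.SylowDegree
import Cfsg.Agent.S0185

/-!
# A complex representation matching the fixed-point dimensions of a coprime linear group

The `p`-adic lift of a `p'`-group in `GL_n(p)` has, for every subgroup, invariants of the same
dimension as the fixed vectors modulo `p`: the averaging idempotent keeps its rank.
-/

set_option autoImplicit false

open Matrix

namespace CfsgLib.KpThree

section Rank

variable {m n : ℕ}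

/-- Some minor as large as the rank is invertible. -/
theorem exists_minor {F : Type*} [Field F] (A : Matrix (Fin n) (Fin n) F) :
    ∃ (P : Matrix (Fin A.rank) (Fin n) F) (Q : Matrix (Fin n) (Fin A.rank) F), P * A * Q = 1 := by
  classical
  let b : Module.Basis (Fin A.rank) F (LinearMap.range A.mulVecLin) := Module.finBasis F _
  have hpre : ∀ i, ∃ v, A.mulVecLin v = (b i : Fin n → F) := fun i => LinearMap.mem_range.mp (b i).2
  choose v hv using hpre
  let f : (Fin A.rank → F) →ₗ[F] (Fin n → F) :=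
    (LinearMap.range A.mulVecLin).subtype.comp b.equivFun.symm.toLinearMap
  have hker : LinearMap.ker f = ⊥ := LinearMap.ker_eq_bot.mpr
    (Subtype.val_injective.comp b.equivFun.symm.injective)
  obtain ⟨g, hg⟩ := f.exists_leftInverse_of_injective hker
  refine ⟨LinearMap.toMatrix' g, Matrix.of fun i j => v j i, ?_⟩
  have hAQ : A * Matrix.of (fun i j => v j i) = LinearMap.toMatrix' f := by
    ext i j
    rw [LinearMap.toMatrix'_apply]
    have h1 : f (Pi.single j 1) = A.mulVecLin (v j) := by
      rw [hv]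
      simp [f]
    rw [h1, Matrix.mulVecLin_apply]
    rfl
  rw [Matrix.mul_assoc, hAQ, ← LinearMap.toMatrix'_comp, hg, LinearMap.toMatrix'_id]

/-- The rank can only grow on lifting to the `p`-adic integers. -/
theorem rank_reduction_le {p : ℕ} [Fact p.Prime] (A : Matrix (Fin n) (Fin n) ℤ_[p]) :
    (A.map PadicInt.toZMod).rank ≤ (A.map (CfsgLib.KpRegular.padicEmb p)).rank := by
  classical
  obtain ⟨P, Q, h⟩ := exists_minor (A.map PadicInt.toZMod)
  have hsurj : Function.Surjective (PadicInt.toZMod : ℤ_[p] →+* ZMod p) := fun x =>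
    ⟨((x.val : ℕ) : ℤ_[p]), by rw [map_natCast, ZMod.natCast_zmod_val]⟩
  choose s hs using hsurj
  set B : Matrix (Fin (A.map PadicInt.toZMod).rank) (Fin (A.map PadicInt.toZMod).rank) ℤ_[p] := P.map s * A * Q.map s with hB
  have hdet : PadicInt.toZMod B.det = 1 := by
    rw [RingHom.map_det, RingHom.mapMatrix_apply, hB, Matrix.map_mul, Matrix.map_mul, Matrix.map_map,
      Matrix.map_map, show (PadicInt.toZMod : ℤ_[p] →+* ZMod p) ∘ s = id from funext hs, Matrix.map_id,
      Matrix.map_id, h, Matrix.det_one]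
  have hne : (B.map (CfsgLib.KpRegular.padicEmb p)).det ≠ 0 := by
    rw [show (B.map (CfsgLib.KpRegular.padicEmb p)).det = CfsgLib.KpRegular.padicEmb p B.det from
      (RingHom.map_det (CfsgLib.KpRegular.padicEmb p) B).symm]
    intro h0
    rw [CfsgLib.KpRegular.padicEmb_injective p (h0.trans (map_zero _).symm), map_zero] at hdet
    exact zero_ne_one hdet
  calc (A.map PadicInt.toZMod).rank = (B.map (CfsgLib.KpRegular.padicEmb p)).rank := by
        rw [Matrix.rank_of_isUnit _ ((Matrix.isUnit_iff_isUnit_det _).mpr (Ne.isUnit hne)),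
          Fintype.card_fin]
    _ ≤ (A.map (CfsgLib.KpRegular.padicEmb p)).rank := by
        rw [hB, Matrix.map_mul, Matrix.map_mul]
        exact (Matrix.rank_mul_le_left _ _).trans (Matrix.rank_mul_le_right _ _)

theorem le_rank_add_rank_one_sub {F : Type*} [Field F] (A : Matrix (Fin n) (Fin n) F) :
    n ≤ A.rank + (1 - A).rank := by
  unfold Matrix.rank
  have htop : LinearMap.range A.mulVecLin ⊔ LinearMap.range (1 - A).mulVecLin = ⊤ :=
    eq_top_iff.mpr fun x _ => Submodule.mem_sup.mpr ⟨A *ᵥ x, ⟨x, rfl⟩, (1 - A) *ᵥ x, ⟨x, rfl⟩, by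
      rw [← Matrix.add_mulVec, add_sub_cancel, Matrix.one_mulVec]⟩
  have h := Submodule.finrank_add_le_finrank_add_finrank (LinearMap.range A.mulVecLin)
    (LinearMap.range (1 - A).mulVecLin)
  rw [htop, finrank_top, Module.finrank_fin_fun] at h
  exact h

theorem rank_add_rank_one_sub_le {F : Type*} [Field F] (A : Matrix (Fin n) (Fin n) F)
    (hA : A * A = A) : A.rank + (1 - A).rank ≤ n := by
  unfold Matrix.rank
  have hbot : LinearMap.range A.mulVecLin ⊓ LinearMap.range (1 - A).mulVecLin = ⊥ := by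
    rw [Submodule.eq_bot_iff]
    rintro x ⟨⟨a, rfl⟩, ⟨b, hb⟩⟩
    simp only [Matrix.mulVecLin_apply] at hb ⊢
    calc A *ᵥ a = A *ᵥ (A *ᵥ a) := by rw [Matrix.mulVec_mulVec, hA]
      _ = A *ᵥ ((1 - A) *ᵥ b) := by rw [hb]
      _ = 0 := by rw [Matrix.mulVec_mulVec, mul_sub, mul_one, hA, sub_self, Matrix.zero_mulVec]
  have h := Submodule.finrank_sup_add_finrank_inf_eq (LinearMap.range A.mulVecLin)
    (LinearMap.range (1 - A).mulVecLin)
  rw [hbot, finrank_bot, add_zero] at h
  rw [← h]
  exact (Submodule.finrank_le _).trans (Module.finrank_fin_fun F).le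

/-- An idempotent over the `p`-adic integers keeps its rank. -/
theorem rank_eq_reduction {p : ℕ} [Fact p.Prime] (A : Matrix (Fin n) (Fin n) ℤ_[p]) (hA : A * A = A) :
    (A.map (CfsgLib.KpRegular.padicEmb p)).rank = (A.map PadicInt.toZMod).rank := by
  have h1 : ∀ {R : Type} [CommRing R] (φ : ℤ_[p] →+* R), (1 - A).map φ = 1 - A.map φ := fun φ => by
    rw [Matrix.map_sub _ (map_sub φ), Matrix.map_one _ (map_zero φ) (map_one φ)]
  have h2 := rank_reduction_le (1 - A)
  rw [h1, h1] at h2
  have h3 := le_rank_add_rank_one_sub (A.map (PadicInt.toZMod : ℤ_[p] →+* ZMod p))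
  have h4 := rank_add_rank_one_sub_le (A.map (CfsgLib.KpRegular.padicEmb p))
    (by rw [← Matrix.map_mul, hA])
  have h5 := rank_reduction_le A
  omega

end Rank

variable {D E : Type*} [Group D] [Finite D] [AddCommGroup E] [Finite E] [DistribMulAction D E]
  [FaithfulSMul D E] {p : ℕ} [Fact p.Prime] {n : ℕ}

omit [Finite D] in
theorem exists_matrices [Module (ZMod p) E] (hcard : Nat.card E = p ^ n) :
    ∃ (M : D →* Matrix (Fin n) (Fin n) (ZMod p)) (f : E ≃ (Fin n → ZMod p)),
      Function.Injective M ∧ ∀ (g : D) (e : E), M g *ᵥ f e = f (g • e) := by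
  classical
  haveI hfd : Module.Finite (ZMod p) E := Module.Finite.of_finite
  have hrank : Module.finrank (ZMod p) E = n := by
    have h := Module.natCard_eq_pow_finrank (K := ZMod p) (V := E)
    rw [hcard, Nat.card_zmod] at h
    exact (Nat.pow_right_injective (Fact.out : p.Prime).two_le h).symm
  let b : Module.Basis (Fin n) (ZMod p) E := (Module.finBasis (ZMod p) E).reindex (finCongr hrank)
  let lin : D → (E →ₗ[ZMod p] E) := fun g => AddMonoidHom.toZModLinearMap p (DistribSMul.toAddMonoidHom E g)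
  have hlin : ∀ g e, lin g e = g • e := fun g e => rfl
  let M : D →* Matrix (Fin n) (Fin n) (ZMod p) :=
    { toFun := fun g => LinearMap.toMatrix b b (lin g)
      map_one' := by
        rw [show lin 1 = LinearMap.id from LinearMap.ext fun e => (hlin 1 e).trans (one_smul D e),
          LinearMap.toMatrix_id]
      map_mul' := fun g h => by
        rw [← LinearMap.toMatrix_comp b b b]
        exact congrArg _ (LinearMap.ext fun e => mul_smul g h e) }
  have hM : ∀ (g : D) (e : E), M g *ᵥ b.equivFun e = b.equivFun (g • e) := fun g e => by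
    simp [M, LinearMap.toMatrix_mulVec_repr, hlin]
  have hMi : Function.Injective M := fun g g' hgg => FaithfulSMul.eq_of_smul_eq_smul fun e : E =>
    b.equivFun.injective (by rw [← hM, ← hM, hgg])
  exact ⟨M, b.equivFun.toEquiv, hMi, hM⟩

/-- A faithful complex representation with the invariants of every subgroup of the right size. -/
theorem exists_lift (hE : ∀ e : E, p • e = 0) (hcard : Nat.card E = p ^ n) (hD : ¬ p ∣ Nat.card D) :
    ∃ ρ : Representation ℂ D (Fin n → ℂ), Function.Injective ρ ∧ ∀ H : Subgroup D,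
      p ^ Module.finrank ℂ (Representation.invariants
          (ρ.comp H.subtype : Representation ℂ H (Fin n → ℂ)))
        = Nat.card {e : E // ∀ h ∈ H, h • e = e} := by
  classical
  letI : Module (ZMod p) E := AddCommGroup.zmodModule hE
  obtain ⟨M, f, hMi, hM⟩ := exists_matrices (D := D) (p := p) hcard
  obtain ⟨L, hL⟩ := CfsgLib.KpRegular.exists_padic_lift hD M
  let ρ : Representation ℂ D (Fin n → ℂ) :=
    (((Matrix.toLinAlgEquiv' : Matrix (Fin n) (Fin n) ℂ ≃ₐ[ℂ] _).toMulEquiv.toMonoidHom).comp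
      ((CfsgLib.KpRegular.padicEmb p).mapMatrix (m := Fin n)).toMonoidHom).comp L
  have hρ : ∀ g v, ρ g v = (L g).map (CfsgLib.KpRegular.padicEmb p) *ᵥ v := fun g v => by
    simp [ρ, Matrix.toLinAlgEquiv'_apply]
  have hρi : Function.Injective ρ := fun g g' hgg => hMi (by
    have h1 : (L g).map (CfsgLib.KpRegular.padicEmb p) = (L g').map (CfsgLib.KpRegular.padicEmb p) :=
      Matrix.ext_of_mulVec_single fun i => by rw [← hρ, ← hρ, hgg]
    rw [← hL, ← hL, Matrix.map_injective (CfsgLib.KpRegular.padicEmb_injective p) h1])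
  refine ⟨ρ, hρi, fun H => ?_⟩
  let : Fintype H := Fintype.ofFinite H
  have hm : ¬ p ∣ Fintype.card H := fun h =>
    hD (h.trans (Nat.card_eq_fintype_card (α := H) ▸ H.card_subgroup_dvd_card))
  have hunit : IsUnit ((Fintype.card H : ℕ) : ℤ_[p]) := by
    rw [PadicInt.isUnit_iff]
    refine le_antisymm (PadicInt.norm_le_one _) (not_lt.mp fun h => hm ?_)
    exact_mod_cast (PadicInt.norm_int_lt_one_iff_dvd (Fintype.card H : ℤ)).mp (by exact_mod_cast h)
  obtain ⟨u, hu⟩ := hunit.exists_left_inv
  set A : Matrix (Fin n) (Fin n) ℤ_[p] := u • ∑ h : H, L h with hA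
  have hLA : ∀ h : H, L h * A = A := fun h => by
    rw [hA, Matrix.mul_smul, Finset.mul_sum]
    refine congrArg _ (Fintype.sum_equiv (Equiv.mulLeft h) _ _ fun k => ?_)
    simp [map_mul]
  have hAA : A * A = A := by
    conv_lhs => arg 1; rw [hA]
    rw [Matrix.smul_mul, Finset.sum_mul, Finset.sum_congr rfl fun h _ => hLA h, Finset.sum_const,
      Finset.card_univ, ← Nat.cast_smul_eq_nsmul ℤ_[p], smul_smul, hu, one_smul]
  -- vectors fixed by the subgroup form the range of the idempotent
  have key : ∀ {R : Type} [Field R] (φ : ℤ_[p] →+* R) (x : Fin n → R),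
      x ∈ LinearMap.range (A.map φ).mulVecLin ↔ ∀ h : H, (L h).map φ *ᵥ x = x := by
    intro R _ φ x
    constructor
    · rintro ⟨y, rfl⟩ h
      rw [Matrix.mulVecLin_apply, Matrix.mulVec_mulVec, ← Matrix.map_mul, hLA]
    · intro hx
      refine ⟨x, ?_⟩
      have hAφ : A.map φ = φ u • ∑ h : H, (L h).map φ := by
        ext i j
        simp [hA, Matrix.sum_apply, map_sum, Finset.mul_sum]
      rw [Matrix.mulVecLin_apply, hAφ,
        Matrix.smul_mulVec, Matrix.sum_mulVec, Finset.sum_congr rfl fun h _ => hx h, Finset.sum_const,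
        Finset.card_univ, ← Nat.cast_smul_eq_nsmul R, smul_smul, ← map_natCast φ, ← map_mul, hu,
        map_one, one_smul]
  have hinv : Representation.invariants (ρ.comp H.subtype : Representation ℂ H (Fin n → ℂ))
      = LinearMap.range (A.map (CfsgLib.KpRegular.padicEmb p)).mulVecLin := by
    ext x
    rw [key, Representation.mem_invariants]
    exact forall_congr' fun h => by rw [← hρ]; rfl
  have hfix : ∀ e : E, (∀ h ∈ H, h • e = e) ↔
      f e ∈ LinearMap.range (A.map (PadicInt.toZMod : ℤ_[p] →+* ZMod p)).mulVecLin := fun e => by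
    rw [key, Subtype.forall]
    exact forall₂_congr fun h _ => by rw [hL, hM, EmbeddingLike.apply_eq_iff_eq]
  rw [hinv, ← Matrix.rank, rank_eq_reduction A hAA, Nat.card_congr (Equiv.subtypeEquiv f hfix)]
  refine Eq.symm ?_
  rw [Matrix.rank]
  exact (Module.natCard_eq_pow_finrank (K := ZMod p)).trans (by rw [Nat.card_zmod])

/-- Sylow subgroups for primes above `2n + 1` are normal and abelian. -/
theorem large_sylow_normal (hE : ∀ e : E, p • e = 0) (hcard : Nat.card E = p ^ n)
    (hD : ¬ p ∣ Nat.card D) {r : ℕ} [Fact r.Prime] (hr : 2 * n + 1 < r) (P : Sylow r D) :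
    (P : Subgroup D).Normal ∧ ∀ x ∈ (P : Subgroup D), ∀ y ∈ (P : Subgroup D), x * y = y * x := by
  obtain ⟨ρ, hρ, -⟩ := exists_lift hE hcard hD
  refine ⟨CfsgLib.KgvTrans.sylow_normal_of_degree ρ hρ (Or.inl hr) P, fun x hx y hy => ?_⟩
  let σ : Representation ℂ (P : Subgroup D) (Fin n → ℂ) := MonoidHom.comp ρ (P : Subgroup D).subtype
  have hσ : Function.Injective σ := hρ.comp (P : Subgroup D).subtype_injective
  refine congrArg Subtype.val (Cfsg.Agent.S0185.result σ hσ (fun q hq hdvd => ?_) ⟨x, hx⟩ ⟨y, hy⟩)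
  obtain ⟨k, hk⟩ := IsPGroup.iff_card.mp P.isPGroup'
  rw [Module.finrank_fin_fun, (Nat.prime_dvd_prime_iff_eq hq Fact.out).mp (hq.dvd_of_dvd_pow (hk ▸ hdvd))]
  omega

end CfsgLib.KpThree
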