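import Cfsg.Agent.Lib.KpThree.Slots
import Cfsg.Agent.Lib.KpThree.Lift
import Cfsg.Agent.Lib.KpThree.Annihilator

/-!
# A trivial intersection Sylow subgroup of a small linear group is normal

Vectors of the double endomorphism representation fixed by the normalizer are fixed by the
group, so the commutant of the Sylow subgroup is invariant and the Sylow subgroup is normal.
-/

set_option autoImplicit false

open scoped IsMulCommutative

namespace CfsgLib.KpThree

open Slots

section Core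

variable {G : Type*} [Group G] [Finite G] {n r : ℕ} [hr : Fact r.Prime]

theorem coe_prod_sub (R : G →* Matrix (Fin n) (Fin n) ℂ) (ζ : ℂ) (H : Subgroup G)
    (u z : Subring.closure (genSet R ζ H)) (hz : (z : Module.End ℂ (Module.End ℂ
      (Matrix (Fin n) (Fin n) ℂ))) = ζ • 1) (s : List ℕ)
    [IsMulCommutative (Subring.closure (genSet R ζ H))] :
    ((((s.map fun k => u - z ^ k).prod : Subring.closure (genSet R ζ H))) : Module.End ℂ
      (Module.End ℂ (Matrix (Fin n) (Fin n) ℂ))) =
      Polynomial.aeval (u : Module.End ℂ (Module.End ℂ (Matrix (Fin n) (Fin n) ℂ)))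
        ((s.map fun k => Polynomial.X - Polynomial.C (ζ ^ k)).prod) := by
  induction s with
  | nil => simp
  | cons k s ih =>
    simp only [List.map_cons, List.prod_cons, map_mul, Subring.coe_mul, ih, map_sub,
      Polynomial.aeval_X, Polynomial.aeval_C]
    congr 1
    simp [hz, smul_pow, Algebra.algebraMap_eq_smul_one]

set_option maxHeartbeats 1600000 in
/-- The criterion in terms of a nilpotency computation. -/
theorem normal_of_nilp (R : G →* Matrix (Fin n) (Fin n) ℂ) (hR : Function.Injective R)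
    (P : Sylow r G) (hab : ∀ x ∈ (P : Subgroup G), ∀ y ∈ (P : Subgroup G), x * y = y * x)
    (hti : ∀ g : G, g ∉ Subgroup.normalizer ((P : Subgroup G) : Set G) →
      (P : Subgroup G) ⊓ (P : Subgroup G).map (MulAut.conj g).toMonoidHom = ⊥)
    (H : Subgroup G) (hH : H ≤ (P : Subgroup G)) [Fintype H] {e d : ℕ} (he : 0 < e) {ζ : ℂ}
    (hζ : IsPrimitiveRoot ζ (r ^ e))
    (hkey : ∀ (Q : Type) [CommRing Q], (r : Q) = 0 → ∀ u : Fin 4 → (H →* Q),
      (∀ (i : Fin 4) (h : H), Small d ζ (R (h : G)) → Small d ζ (R ((h : G)⁻¹)) →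
        (u i h - 1) ^ d = 0) →
      (∀ (i : Fin 4) (g h : H), (R (g : G) - 1) * (R (h : G) - 1) = 0 →
        (u i g - 1) * (u i h - 1) = 0) →
      ∑ h : H, ∏ i, u i h = 0) :
    (P : Subgroup G).Normal := by
  classical
  cases nonempty_fintype G
  have hHab : ∀ a ∈ H, ∀ b ∈ H, a * b = b * a := fun a ha b hb => hab a (hH ha) b (hH hb)
  haveI : IsMulCommutative (Subring.closure (genSet R ζ H)) :=
    Subring.isMulCommutative_closure (genSet_comm R ζ hHab)
  have hNpos : 0 < r ^ e := pow_pos hr.out.pos _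
  obtain ⟨L, hLfg, hLspan, hLstab, hLC⟩ := exists_lattice R hNpos hζ.pow_eq_one H
  let C := Subring.closure (genSet R ζ H)
  let z : C := ⟨ζ • 1, Subring.subset_closure (Or.inl rfl)⟩
  let uC : Fin 4 → (H →* C) := fun i =>
    { toFun := fun h => ⟨slot R i (h : G), Subring.subset_closure (Or.inr ⟨i, h, rfl⟩)⟩
      map_one' := Subtype.ext (map_one (slot R i))
      map_mul' := fun a b => Subtype.ext (map_mul (slot R i) (a : G) (b : G)) }
  let q : C →+* C ⧸ Ideal.span {(1 : C) - z} := Ideal.Quotient.mk _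
  have hqz : q z = 1 := by
    have h : q ((1 : C) - z) = 0 :=
      Ideal.Quotient.eq_zero_iff_mem.2 (Ideal.mem_span_singleton_self _)
    rw [map_sub, map_one, sub_eq_zero] at h
    exact h.symm
  have hqr : (r : C ⧸ Ideal.span {(1 : C) - z}) = 0 := by
    have h0 : ∑ i ∈ Finset.range r, (z ^ r ^ (e - 1)) ^ i = 0 := by
      have h1 : IsPrimitiveRoot (ζ ^ r ^ (e - 1)) r :=
        hζ.pow hNpos (by rw [← pow_succ, Nat.sub_add_cancel he])
      refine Subtype.ext ?_
      simp [z, smul_pow, ← Finset.sum_smul, h1.geom_sum_eq_zero hr.out.one_lt]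
    have := congrArg q h0
    simpa [hqz] using this
  -- divisibility of `r` by a power of `1 - ζ`
  obtain ⟨v, hv⟩ : (r : C) ∣ ((1 : C) - z) ^ r ^ e := by
    rw [← Ideal.mem_span_singleton, ← Ideal.Quotient.eq_zero_iff_mem, map_pow, map_sub, map_one,
      Nilp.sub_pow_eq (Ideal.Quotient.eq_zero_iff_mem.2 (Ideal.mem_span_singleton_self _) :
        Ideal.Quotient.mk (Ideal.span {(r : C)}) (r : C) = 0) e, ← map_pow]
    have : z ^ r ^ e = 1 := Subtype.ext (by simp [z, smul_pow, hζ.pow_eq_one])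
    rw [this, map_one, sub_self]
  have hS : q (∑ h : H, ∏ i, uC i h) = 0 := by
    rw [map_sum]
    simp only [map_prod]
    refine hkey _ hqr (fun i => (q : C →* _).comp (uC i)) (fun i h h1 h2 => ?_) (fun i g h hgh => ?_)
    · obtain ⟨s, hs, hs0⟩ := slot_small R h1 h2 i
      have h0 : (s.map fun k => uC i h - z ^ k).prod = 0 :=
        Subtype.ext ((coe_prod_sub R ζ H (uC i h) z rfl s).trans hs0)
      have h3 := congrArg q h0
      rw [map_zero, map_list_prod, List.map_map] at h3
      have h4 : (s.map (q ∘ fun k => uC i h - z ^ k)) = List.replicate s.length (q (uC i h) - 1) := by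
        rw [List.eq_replicate_iff]
        refine ⟨by simp, fun x hx => ?_⟩
        obtain ⟨k, -, rfl⟩ := List.mem_map.1 hx
        simp [hqz]
      rw [h4, List.prod_replicate] at h3
      exact pow_eq_zero_of_le hs h3
    · have h0 : (uC i g - 1) * (uC i h - 1) = 0 :=
        Subtype.ext (slot_mul_eq_zero R (hHab g g.2 h h.2) hgh i)
      have h3 := congrArg q h0
      simpa using h3
  obtain ⟨u, hu⟩ := Ideal.mem_span_singleton.1 (Ideal.Quotient.eq_zero_iff_mem.1 hS)
  -- every endomorphism fixed by the normalizer is fixed by the group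
  set M := Subgroup.normalizer ((P : Subgroup G) : Set G) with hM
  have hone : ∀ {a : G}, a ∈ M → (∃ k, a ^ r ^ k = 1) → a ∈ (P : Subgroup G) := by
    intro a ha ⟨k, hk⟩
    have hp : IsPGroup r (Subgroup.zpowers a) := by
      intro b
      refine ⟨k, Subtype.ext ?_⟩
      obtain ⟨j, hj⟩ := b.2
      rw [SubmonoidClass.coe_pow, OneMemClass.coe_one, ← hj]
      show (a ^ j) ^ r ^ k = 1
      rw [← zpow_natCast, ← zpow_mul, mul_comm, zpow_mul, zpow_natCast, hk, one_zpow]
    have hsup : IsPGroup r ((Subgroup.zpowers a) ⊔ (P : Subgroup G) : Subgroup G) :=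
      hp.to_sup_of_normal_right' P.2 (Subgroup.zpowers_le.2 ha)
    exact (P.3 hsup le_sup_right).le (Subgroup.mem_sup_left (Subgroup.mem_zpowers a))
  have hpow : ∀ x ∈ (P : Subgroup G), ∃ k, x ^ r ^ k = 1 := fun x hx => by
    obtain ⟨k, hk⟩ := P.2 ⟨x, hx⟩
    exact ⟨k, congrArg Subtype.val hk⟩
  have hfree : ∀ g, g ∉ M → ∀ h ∈ H, h ≠ 1 → g⁻¹ * h * g ∉ M := by
    intro g hg h hh h1 hmem
    obtain ⟨k, hk⟩ := hpow h (hH hh)
    have hP : g⁻¹ * h * g ∈ (P : Subgroup G) := hone hmem ⟨k, by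
      have e1 : (g⁻¹ * h * g) ^ r ^ k = g⁻¹ * h ^ r ^ k * g := by
        simpa using conj_pow (a := g⁻¹) (b := h) (i := r ^ k)
      rw [e1, hk, mul_one, inv_mul_cancel]⟩
    have : h ∈ (P : Subgroup G) ⊓ (P : Subgroup G).map (MulAut.conj g).toMonoidHom :=
      ⟨hH hh, ⟨_, hP, by simp [mul_assoc]⟩⟩
    rw [hti g hg, Subgroup.mem_bot] at this
    exact h1 this
  have hζ1 : (1 : ℂ) - ζ ≠ 0 := sub_ne_zero.2 fun h =>
    absurd (hζ.unique (h ▸ IsPrimitiveRoot.one)) (Nat.one_lt_pow (by omega) hr.out.one_lt).ne'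
  have hc : ∀ v : Module.End ℂ (Matrix (Fin n) (Fin n) ℂ),
      (((1 : C) - z : C) : Module.End ℂ (Module.End ℂ (Matrix (Fin n) (Fin n) ℂ))) v =
        ((1 : ℂ) - ζ) • v := fun v => by
    simp [z]
    refine LinearMap.ext fun w => ?_
    simp [sub_smul]
  have hfixall : ∀ T : Module.End ℂ (Matrix (Fin n) (Fin n) ℂ),
      (∀ m ∈ M, act R m T = T) → ∀ g, act R g T = T := by
    intro T hT
    refine Trace.fixed_of_fixed (act R) M H (hH.trans Subgroup.le_normalizer) hfree L hLfg hLspan
      hLstab (1 - ζ) hζ1 (fun w hw => hc w ▸ hLC _ (SetLike.coe_mem _) w hw) (r := r) (N := r ^ e)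
      hr.out.one_lt (fun w hw => ⟨(v : Module.End ℂ _) w, hLC _ v.2 w hw, ?_⟩)
      (fun w hw => ⟨(u : Module.End ℂ _) w, hLC _ u.2 w hw, ?_⟩) hT
    · have h1 := congrArg (fun a : C => (a : Module.End ℂ (Module.End ℂ
        (Matrix (Fin n) (Fin n) ℂ))) w) hv
      simp only [Subring.coe_pow, Subring.coe_mul] at h1
      have h2 : (((1 : C) - z : C) : Module.End ℂ (Module.End ℂ (Matrix (Fin n) (Fin n) ℂ))) =
          ((1 : ℂ) - ζ) • 1 := LinearMap.ext fun v => by rw [hc]; rfl
      rw [h2, smul_pow, one_pow] at h1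
      simpa [Nat.cast_smul_eq_nsmul] using h1
    · have h1 := congrArg (fun a : C => (a : Module.End ℂ (Module.End ℂ
        (Matrix (Fin n) (Fin n) ℂ))) w) hu
      simp only [Subring.coe_mul, AddSubmonoidClass.coe_finsetSum, LinearMap.sum_apply,
        Module.End.mul_apply, hc] at h1
      rw [finsum_eq_sum_of_fintype, ← h1]
      refine Finset.sum_congr rfl fun h _ => ?_
      simp [Fin.prod_univ_four, act, uC, Module.End.mul_apply]
  -- the commutant of the Sylow subgroup is invariant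
  let T₀ : Module.End ℂ (Matrix (Fin n) (Fin n) ℂ) :=
    ∑ a : (P : Subgroup G), LinearMap.mulLeft ℂ (R (a : G)) * LinearMap.mulRight ℂ (R ((a : G)⁻¹))
  have hT₀ : ∀ X, T₀ X = ∑ a : (P : Subgroup G), R (a : G) * X * R ((a : G)⁻¹) := fun X => by
    simp [T₀, mul_assoc]
  have hT : ∀ m ∈ M, act R m T₀ = T₀ := by
    intro m hm
    refine LinearMap.ext fun X => ?_
    rw [act_apply, hT₀, hT₀, Finset.mul_sum, Finset.sum_mul]
    let σ : (P : Subgroup G) ≃ (P : Subgroup G) :=
      (MulAut.conj m).toEquiv.subtypeEquiv fun x => Subgroup.mem_normalizer_iff.1 hm x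
    refine Fintype.sum_equiv σ _ _ fun a => ?_
    show _ = R (m * (a : G) * m⁻¹) * X * R ((m * (a : G) * m⁻¹)⁻¹)
    simp [map_mul, mul_inv_rev, mul_assoc]
  have hinv := hfixall T₀ hT
  refine ⟨fun a ha g => ?_⟩
  have hconjcomm : ∀ b ∈ (P : Subgroup G), b * (g * a * g⁻¹) = g * a * g⁻¹ * b := by
    intro b hb
    have hTa : T₀ (R a) = (Fintype.card (P : Subgroup G) : ℂ) • R a := by
      rw [hT₀, Finset.sum_congr rfl (fun c _ => ?_), Finset.sum_const, Finset.card_univ,
        Nat.cast_smul_eq_nsmul]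
      rw [← map_mul, ← map_mul, hab c c.2 a ha, mul_inv_cancel_right]
    set Y := R (g * a * g⁻¹) with hY
    have hTY : T₀ Y = (Fintype.card (P : Subgroup G) : ℂ) • Y := by
      conv_lhs => rw [← hinv g]
      rw [act_apply]
      have : R g⁻¹ * Y * R g = R a := by
        rw [hY, ← map_mul, ← map_mul]; congr 1; group
      rw [this, hTa, mul_smul_comm, smul_mul_assoc, hY, map_mul, map_mul]
    have hcomm : R b * T₀ Y * R b⁻¹ = T₀ Y := by
      rw [hT₀, Finset.mul_sum, Finset.sum_mul]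
      refine Fintype.sum_equiv (Equiv.mulLeft (⟨b, hb⟩ : (P : Subgroup G))) _ _ fun c => ?_
      simp [map_mul, mul_inv_rev, mul_assoc]
    rw [hTY, mul_smul_comm, smul_mul_assoc] at hcomm
    have h1 := smul_right_injective _ (Nat.cast_ne_zero.2 Fintype.card_ne_zero) hcomm
    rw [hY, ← map_mul, ← map_mul] at h1
    have h2 := hR h1
    calc b * (g * a * g⁻¹) = b * (g * a * g⁻¹) * b⁻¹ * b := by group
      _ = _ := by rw [h2]
  refine hone (Subgroup.mem_normalizer_iff.2 fun c => ?_) ?_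
  · constructor
    · intro hc
      rw [← hconjcomm c hc, mul_inv_cancel_right]
      exact hc
    · intro hc
      have h1 := hconjcomm _ hc
      have h2 : g * a * g⁻¹ * c * (g * a * g⁻¹)⁻¹ = c := by
        have h3 : g * a * g⁻¹ * c = g * a * g⁻¹ * (g * a * g⁻¹ * c * (g * a * g⁻¹)⁻¹) := by
          rw [← h1, inv_mul_cancel_right]
        exact (mul_left_cancel h3).symm
      rwa [h2] at hc
  · obtain ⟨k, hk⟩ := hpow a ha
    exact ⟨k, by rw [conj_pow, hk, mul_one, mul_inv_cancel]⟩

end Core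

section Linear

variable {D E : Type*} [Group D] [Finite D] [AddCommGroup E] [Finite E] [DistribMulAction D E]
  [FaithfulSMul D E] {p : ℕ} [hp : Fact p.Prime] {n : ℕ}

/-- A Sylow subgroup with trivial intersections of order at least `r ^ 2` is normal. -/
theorem normal_of_ti (hE : ∀ e : E, p • e = 0) (hcard : Nat.card E = p ^ n)
    (hD : ¬ p ∣ Nat.card D) {m r : ℕ} [hr : Fact r.Prime] (hn : n = 2 * m) (hm : 3 ≤ m)
    (hbig : 2 * m + 1 < r) (P : Sylow r D)
    (hab : ∀ x ∈ (P : Subgroup D), ∀ y ∈ (P : Subgroup D), x * y = y * x)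
    (hti : ∀ g : D, g ∉ Subgroup.normalizer ((P : Subgroup D) : Set D) →
      (P : Subgroup D) ⊓ (P : Subgroup D).map (MulAut.conj g).toMonoidHom = ⊥)
    (hP : r ^ 2 ∣ Nat.card (P : Subgroup D))
    (hshape : IsCyclic (P : Subgroup D) ∨ ∃ x ∈ (P : Subgroup D), ∃ y ∈ (P : Subgroup D),
      orderOf x = r ∧ orderOf y = r ∧ Subgroup.zpowers x ⊓ Subgroup.zpowers y = ⊥ ∧
      Nat.card {e : E // x • e = e} = p ^ m ∧ Nat.card {e : E // y • e = e} = p ^ m ∧
      ∀ e : E, x • e = e → y • e = e → e = 0) :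
    (P : Subgroup D).Normal := by
  classical
  obtain ⟨ρ, hρ, hdim⟩ := exists_lift (D := D) hE hcard hD
  let R : D →* Matrix (Fin n) (Fin n) ℂ :=
    (LinearMap.toMatrixAlgEquiv' : Module.End ℂ (Fin n → ℂ) ≃ₐ[ℂ] _).toMulEquiv.toMonoidHom.comp ρ
  have hR : Function.Injective R :=
    (LinearMap.toMatrixAlgEquiv' : Module.End ℂ (Fin n → ℂ) ≃ₐ[ℂ] _).injective.comp hρ
  have hker : ∀ (g : D) (w : Fin n → ℂ), w ∈ LinearMap.ker (Matrix.toLin' (R g - 1)) ↔ ρ g w = w := by
    intro g w
    rw [LinearMap.mem_ker, map_sub, Matrix.toLin'_one, LinearMap.sub_apply, LinearMap.id_apply,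
      sub_eq_zero]
    have h : Matrix.toLin' (R g) = ρ g := Matrix.toLin'_toMatrix' (ρ g)
    rw [h]
  have hfix : ∀ g : D, p ^ Module.finrank ℂ (LinearMap.ker (Matrix.toLin' (R g - 1))) =
      Nat.card {e : E // g • e = e} := by
    intro g
    have h1 : LinearMap.ker (Matrix.toLin' (R g - 1)) =
        Representation.invariants (ρ.comp (Subgroup.zpowers g).subtype :
          Representation ℂ (Subgroup.zpowers g) (Fin n → ℂ)) := by
      ext w
      rw [hker, Representation.mem_invariants]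
      refine ⟨fun hw h => ?_, fun hw => hw ⟨g, Subgroup.mem_zpowers g⟩⟩
      obtain ⟨k, hk⟩ := (mem_powers_iff_mem_zpowers.2 h.2)
      show ρ (h : D) w = w
      rw [← show g ^ k = (h : D) from hk]
      clear hk
      induction k with
      | zero => simp
      | succ k ih => rw [pow_succ', map_mul, Module.End.mul_apply, ih, hw]
    rw [h1, hdim]
    refine Nat.card_congr (Equiv.subtypeEquivRight fun e => ⟨fun h => h g (Subgroup.mem_zpowers g),
      fun h a ha => ?_⟩)
    have hst : Subgroup.zpowers g ≤ MulAction.stabilizer D e := Subgroup.zpowers_le.2 h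
    exact hst ha
  have hfr : ∀ g : D, Module.finrank ℂ (LinearMap.ker (Matrix.toLin' (R g - 1))) ≤ n := fun g =>
    le_trans (Submodule.finrank_le _) (Module.finrank_fin_fun ℂ).le
  have hsmall : ∀ {d N : ℕ} {ζ : ℂ} (g : D), 0 < N → g ^ N = 1 → IsPrimitiveRoot ζ N →
      n - Module.finrank ℂ (LinearMap.ker (Matrix.toLin' (R g - 1))) + 1 ≤ d →
      Small d ζ (R g) := by
    intro d N ζ g hN hg hζ hd
    obtain ⟨s, hs, hs0⟩ := exists_annihilator hN (R g) (by rw [← map_pow, hg, map_one]) hζ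
    exact ⟨s, le_trans hs hd, hs0⟩
  rcases hshape with hcyc | ⟨x, hx, y, hy, hxr, hyr, hxy, hxf, hyf, hcom⟩
  · -- cyclic
    obtain ⟨e, he⟩ := P.2.exists_card_eq
    have he2 : 2 ≤ e := (Nat.pow_dvd_pow_iff_le_right hr.out.one_lt).1 (he ▸ hP)
    obtain ⟨⟨x, hx⟩, hgen⟩ := hcyc.exists_generator
    have hxo : orderOf x = r ^ e := by
      rw [← he, ← Subgroup.orderOf_mk x hx]
      exact orderOf_eq_card_of_forall_mem_zpowers hgen
    have hH : Subgroup.zpowers x ≤ (P : Subgroup D) := Subgroup.zpowers_le.2 hx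
    haveI : Fintype (Subgroup.zpowers x) := Fintype.ofFinite _
    refine normal_of_nilp R hR P hab hti _ hH (d := n + 1) (e := e) (by omega)
      (Complex.isPrimitiveRoot_exp _ (pow_ne_zero _ hr.out.ne_zero)) fun Q _ hQ u hu _ => ?_
    let g : Subgroup.zpowers x := ⟨x, Subgroup.mem_zpowers x⟩
    have hfo : IsOfFinOrder x := isOfFinOrder_of_finite x
    have hs : ∀ i, (u i g - 1) ^ (n + 1) = 0 := fun i => hu i g
      (hsmall x (pow_pos hr.out.pos _) (hxo ▸ pow_orderOf_eq_one x)
        (Complex.isPrimitiveRoot_exp _ (pow_ne_zero _ hr.out.ne_zero)) (by omega))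
      (hsmall x⁻¹ (pow_pos hr.out.pos _) (by rw [inv_pow, ← hxo, pow_orderOf_eq_one, inv_one])
        (Complex.isPrimitiveRoot_exp _ (pow_ne_zero _ hr.out.ne_zero)) (by omega))
    rw [← Equiv.sum_comp (finEquivZPowers hfo)]
    have hterm : ∀ j : Fin (orderOf x), ∏ i, u i (finEquivZPowers hfo j) =
        (∏ i, u i g) ^ (j : ℕ) := fun j => by
      have : finEquivZPowers hfo j = g ^ (j : ℕ) := Subtype.ext (by simp [g, finEquivZPowers_apply])
      simp [this, Finset.prod_pow]
    rw [Finset.sum_congr rfl fun j _ => hterm j,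
      Fin.sum_univ_eq_sum_range (fun j => (∏ i, u i g) ^ j) (orderOf x), hxo]
    refine Nilp.sum_eq_zero hQ (fun i => u i g) hs ?_
    have h3 : (2 * m + 2) ^ 2 ≤ r ^ e :=
      le_trans (Nat.pow_le_pow_left (by omega) 2) (Nat.pow_le_pow_right hr.out.pos he2)
    have h4 : 8 * m + 5 ≤ (2 * m + 2) ^ 2 := by nlinarith
    omega
  · -- two independent elements of order `r`
    have hxy' : Commute x y := hab x hx y hy
    let φ := MonoidHom.noncommCoprod (Subgroup.zpowers x).subtype (Subgroup.zpowers y).subtype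
      (fun a b => hab _ (Subgroup.zpowers_le.2 hx a.2) _ (Subgroup.zpowers_le.2 hy b.2))
    have hφi : Function.Injective φ := by
      refine (MonoidHom.noncommCoprod_injective _ _ _).2 ⟨Subtype.val_injective, Subtype.val_injective, ?_⟩
      rw [Subgroup.range_subtype, Subgroup.range_subtype, disjoint_iff, hxy]
    have hH : φ.range ≤ (P : Subgroup D) := by
      rintro _ ⟨⟨a, b⟩, rfl⟩
      exact (P : Subgroup D).mul_mem (Subgroup.zpowers_le.2 hx a.2) (Subgroup.zpowers_le.2 hy b.2)
    haveI : Fintype φ.range := Fintype.ofFinite _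
    have hζ : IsPrimitiveRoot (Complex.exp (2 * Real.pi * Complex.I / ((r ^ 1 : ℕ) : ℂ))) (r ^ 1) :=
      Complex.isPrimitiveRoot_exp _ (pow_ne_zero _ hr.out.ne_zero)
    refine normal_of_nilp R hR P hab hti _ hH (d := m + 1) (e := 1) Nat.one_pos hζ
      fun Q _ hQ u hu humix => ?_
    have hfox : IsOfFinOrder x := isOfFinOrder_of_finite x
    have hfoy : IsOfFinOrder y := isOfFinOrder_of_finite y
    let eq : Fin (orderOf x) × Fin (orderOf y) ≃ φ.range :=
      ((finEquivZPowers hfox).prodCongr (finEquivZPowers hfoy)).trans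
        (MonoidHom.ofInjective hφi).toEquiv
    let gx : φ.range := ⟨x, ⟨(⟨x, Subgroup.mem_zpowers x⟩, 1), mul_one x⟩⟩
    let gy : φ.range := ⟨y, ⟨(1, ⟨y, Subgroup.mem_zpowers y⟩), one_mul y⟩⟩
    have hd : ∀ g : D, orderOf g = r → Nat.card {e : E // g • e = e} = p ^ m →
        Small (m + 1) (Complex.exp (2 * Real.pi * Complex.I / ((r ^ 1 : ℕ) : ℂ))) (R g) ∧
        Small (m + 1) (Complex.exp (2 * Real.pi * Complex.I / ((r ^ 1 : ℕ) : ℂ))) (R g⁻¹) ∧
        Module.finrank ℂ (LinearMap.ker (Matrix.toLin' (R g - 1))) = m := by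
      intro g hg hgf
      have h1 : Module.finrank ℂ (LinearMap.ker (Matrix.toLin' (R g - 1))) = m :=
        Nat.pow_right_injective hp.out.two_le ((hfix g).trans hgf)
      have h2 : Module.finrank ℂ (LinearMap.ker (Matrix.toLin' (R g⁻¹ - 1))) = m := by
        refine Nat.pow_right_injective hp.out.two_le ((hfix g⁻¹).trans (Eq.trans ?_ hgf))
        exact Nat.card_congr (Equiv.subtypeEquivRight fun e => by rw [inv_smul_eq_iff, eq_comm])
      exact ⟨hsmall g (pow_pos hr.out.pos _) (by rw [pow_one, ← hg, pow_orderOf_eq_one]) hζ (by omega),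
        hsmall g⁻¹ (pow_pos hr.out.pos _) (by rw [pow_one, inv_pow, ← hg, pow_orderOf_eq_one, inv_one]) hζ
          (by omega), h1⟩
    obtain ⟨hx1, hx2, hxk⟩ := hd x hxr hxf
    obtain ⟨hy1, hy2, hyk⟩ := hd y hyr hyf
    have hdisj : LinearMap.ker (Matrix.toLin' (R x - 1)) ⊓
        LinearMap.ker (Matrix.toLin' (R y - 1)) = ⊥ := by
      have h1 : LinearMap.ker (Matrix.toLin' (R x - 1)) ⊓ LinearMap.ker (Matrix.toLin' (R y - 1)) =
          Representation.invariants (ρ.comp (Subgroup.zpowers x ⊔ Subgroup.zpowers y).subtype :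
            Representation ℂ ↥(Subgroup.zpowers x ⊔ Subgroup.zpowers y) (Fin n → ℂ)) := by
        ext w
        rw [Submodule.mem_inf, hker, hker, Representation.mem_invariants]
        refine ⟨fun hw h => ?_, fun hw =>
          ⟨hw ⟨x, Subgroup.mem_sup_left (Subgroup.mem_zpowers x)⟩,
            hw ⟨y, Subgroup.mem_sup_right (Subgroup.mem_zpowers y)⟩⟩⟩
        let S : Subgroup D :=
          { carrier := {g | ρ g w = w}
            one_mem' := by simp
            mul_mem' := fun {a b} ha hb => by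
              show ρ (a * b) w = w
              rw [map_mul, Module.End.mul_apply, hb, ha]
            inv_mem' := fun {a} ha => by
              show ρ a⁻¹ w = w
              conv_lhs => rw [← ha]
              rw [← Module.End.mul_apply, ← map_mul, inv_mul_cancel, map_one]
              rfl }
        exact (sup_le (Subgroup.zpowers_le.2 (show x ∈ S from hw.1))
          (Subgroup.zpowers_le.2 (show y ∈ S from hw.2)) : _ ≤ S) h.2
      refine Submodule.finrank_eq_zero.1 ?_
      refine Nat.pow_right_injective hp.out.two_le ?_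
      simp only [pow_zero]
      rw [h1, hdim]
      refine Nat.card_eq_one_iff_unique.2 ⟨⟨fun a b => Subtype.ext ?_⟩, ⟨⟨0, fun h _ => smul_zero h⟩⟩⟩
      rw [hcom _ (a.2 x (Subgroup.mem_sup_left (Subgroup.mem_zpowers x)))
          (a.2 y (Subgroup.mem_sup_right (Subgroup.mem_zpowers y))),
        hcom _ (b.2 x (Subgroup.mem_sup_left (Subgroup.mem_zpowers x)))
          (b.2 y (Subgroup.mem_sup_right (Subgroup.mem_zpowers y)))]
    have hmul : (R x - 1) * (R y - 1) = 0 :=
      mul_sub_one_eq_zero _ _ (by rw [← map_mul, ← map_mul, hxy'.eq]) hdisj (by omega)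
    rw [← Equiv.sum_comp eq, Fintype.sum_prod_type]
    have hterm : ∀ a b, ∏ i, u i (eq (a, b)) =
        (∏ i, u i gx) ^ (a : ℕ) * (∏ i, u i gy) ^ (b : ℕ) := fun a b => by
      have : eq (a, b) = gx ^ (a : ℕ) * gy ^ (b : ℕ) := Subtype.ext (by simp [eq, gx, gy, finEquivZPowers_apply, MonoidHom.ofInjective_apply]; rfl)
      simp [this, Finset.prod_pow, Finset.prod_mul_distrib]
    simp only [hterm, ← Finset.mul_sum, ← Finset.sum_mul]
    rw [Fin.sum_univ_eq_sum_range (fun j => (∏ i, u i gx) ^ j) (orderOf x),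
      Fin.sum_univ_eq_sum_range (fun j => (∏ i, u i gy) ^ j) (orderOf y), hxr, hyr]
    have hodd : r % 2 = 1 := (hr.out.eq_two_or_odd).resolve_left (by omega)
    exact Nilp.sum_sum_eq_zero hQ (Nat.succ_pos m) (fun i => u i gx) (fun i => u i gy)
      (fun i => hu i gx hx1 hx2) (fun i => hu i gy hy1 hy2) (fun i => humix i gx gy hmul) (by omega)

end Linear

end CfsgLib.KpThree
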