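import Cfsg.Agent.Lib.KpThree.Top
import Cfsg.Agent.Lib.KpThree.Ti

/-!
# Class numbers of `p'`-groups with two orbits on the nonzero vectors
-/

set_option autoImplicit false

universe u

namespace CfsgLib.KpThree

/-- A `p'`-group with two orbits on the nonzero vectors of a `p`-group has at least `p / 2` classes,
apart from the half of the multiplicative group of the prime field. -/
theorem linear_bound_two {D E : Type u} [Group D] [Finite D] [AddCommGroup E] [Finite E]
    [DistribMulAction D E] [FaithfulSMul D E] {p : ℕ} [hp : Fact p.Prime] {n : ℕ} (hn : 0 < n)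
    (hp5 : 5 ≤ p) (hE : ∀ e : E, p • e = 0) (hcard : Nat.card E = p ^ n)
    (hD : ¬ p ∣ Nat.card D) (h2 : TwoOrbits D E) :
    p ≤ 2 * Nat.card (ConjClasses D) ∨
      (n = 1 ∧ 2 * Nat.card D = p - 1 ∧ 2 * Nat.card (ConjClasses D) = p - 1) :=
  linear_bound_two_of hn hp5 hE hcard hD h2 fun _ r hr hn' hm _ hbig P hab hti hP hshape =>
    haveI := Fact.mk hr
    normal_of_ti hE hcard hD hn' hm hbig P hab hti hP hshape

end CfsgLib.KpThree
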