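import Mathlib

/-!
# Sums over a group of unipotent elements in characteristic `r`
-/

set_option autoImplicit false

open Polynomial

namespace CfsgLib.KpThree.Nilp

variable {Q : Type*} [CommRing Q] {r : ℕ} [hr : Fact r.Prime]

/-- A ring in which the prime `r` vanishes receives `ZMod r`. -/
theorem exists_hom (h : (r : Q) = 0) [Nontrivial Q] : Nonempty (ZMod r →+* Q) := by
  have h1 : addOrderOf (1 : Q) = r :=
    addOrderOf_eq_prime (by rw [nsmul_one, h]) one_ne_zero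
  haveI : CharP Q r := ⟨fun a => by
    rw [← nsmul_one, ← addOrderOf_dvd_iff_nsmul_eq_zero, h1]⟩
  exact ⟨ZMod.castHom dvd_rfl Q⟩

theorem sum_pow_eq (h : (r : Q) = 0) (e : ℕ) (x : Q) :
    ∑ j ∈ Finset.range (r ^ e), x ^ j = (x - 1) ^ (r ^ e - 1) := by
  rcases subsingleton_or_nontrivial Q with hQ | hQ
  · exact Subsingleton.elim _ _
  obtain ⟨φ⟩ := exists_hom h
  have hp : (∑ j ∈ Finset.range (r ^ e), (X : (ZMod r)[X]) ^ j) = (X - 1) ^ (r ^ e - 1) := by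
    refine mul_right_cancel₀ (X_sub_C_ne_zero (1 : ZMod r)) ?_
    rw [map_one, geom_sum_mul, ← pow_succ, Nat.sub_add_cancel (Nat.one_le_pow _ _ hr.out.pos),
      sub_pow_char_pow (R := (ZMod r)[X]) (p := r), one_pow]
  have := congrArg (eval₂RingHom φ x) hp
  simpa [eval₂_pow, eval₂_sub, eval₂_finsetSum] using this

theorem sub_pow_eq (h : (r : Q) = 0) (e : ℕ) (x : Q) : (1 - x) ^ r ^ e = 1 - x ^ r ^ e := by
  rcases subsingleton_or_nontrivial Q with hQ | hQ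
  · exact Subsingleton.elim _ _
  obtain ⟨φ⟩ := exists_hom h
  have hp : (1 - (X : (ZMod r)[X])) ^ r ^ e = 1 - X ^ r ^ e := by
    rw [sub_pow_char_pow (R := (ZMod r)[X]) (p := r), one_pow]
  have := congrArg (eval₂RingHom φ x) hp
  simpa [eval₂_pow, eval₂_sub, eval₂_finsetSum] using this

theorem sup_pow_le {I J : Ideal Q} (h : I * J = ⊥) :
    ∀ n : ℕ, 0 < n → (I ⊔ J) ^ n ≤ I ^ n ⊔ J ^ n := by
  intro n hn
  induction n, hn using Nat.le_induction with
  | base => simp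
  | succ n hn ih =>
    rw [pow_succ]
    refine (Ideal.mul_mono_left ih).trans ?_
    rw [Ideal.sup_mul, Ideal.mul_sup, Ideal.mul_sup, pow_succ, pow_succ]
    obtain ⟨k, rfl⟩ : ∃ k, n = k + 1 := ⟨n - 1, (Nat.succ_pred_eq_of_pos hn).symm⟩
    have h1 : I ^ (k + 1) * J = ⊥ := by rw [pow_succ, mul_assoc, h, Ideal.mul_bot]
    have h2 : J ^ (k + 1) * I = ⊥ := by rw [pow_succ, mul_assoc, mul_comm J I, h, Ideal.mul_bot]
    rw [h1, h2, sup_bot_eq, bot_sup_eq]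

theorem pair_pow_eq_bot {a b : Q} {d : ℕ} (hd : 0 < d) (hab : a * b = 0) (ha : a ^ d = 0)
    (hb : b ^ d = 0) : (Ideal.span {a} ⊔ Ideal.span {b}) ^ d = ⊥ := by
  have h : Ideal.span {a} * Ideal.span {b} = (⊥ : Ideal Q) := by
    rw [Ideal.span_singleton_mul_span_singleton, hab, Ideal.span_singleton_eq_bot.2 rfl]
  refine le_bot_iff.1 ((sup_pow_le h d hd).trans ?_)
  rw [Ideal.span_singleton_pow, Ideal.span_singleton_pow, ha, hb,
    Ideal.span_singleton_eq_bot.2 rfl, sup_bot_eq]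

/-- Products of four unipotent pairs are small. -/
theorem four_pow_eq_bot (I : Fin 4 → Ideal Q) {d : ℕ} (hI : ∀ i, I i ^ d = ⊥) :
    (I 0 ⊔ I 1 ⊔ (I 2 ⊔ I 3)) ^ (d + d + (d + d)) = ⊥ := by
  refine le_bot_iff.1 (Ideal.sup_pow_add_le_pow_sup_pow.trans (sup_le ?_ ?_)) <;>
    refine Ideal.sup_pow_add_le_pow_sup_pow.trans (sup_le ?_ ?_) <;> simp [hI]

theorem prod_sub_one_mem {K : Ideal Q} (u : Fin 4 → Q) (h : ∀ i, u i - 1 ∈ K) :
    (∏ i, u i) - 1 ∈ K := by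
  rw [Fin.prod_univ_four]
  have e : u 0 * u 1 * u 2 * u 3 - 1 =
      u 0 * u 1 * u 2 * (u 3 - 1) + u 0 * u 1 * (u 2 - 1) + u 0 * (u 1 - 1) + (u 0 - 1) := by ring
  rw [e]
  exact add_mem (add_mem (add_mem (Ideal.mul_mem_left _ _ (h 3)) (Ideal.mul_mem_left _ _ (h 2)))
    (Ideal.mul_mem_left _ _ (h 1))) (h 0)

theorem single_pow_eq_bot {a : Q} {d : ℕ} (ha : a ^ d = 0) : Ideal.span {a} ^ d = ⊥ := by
  rw [Ideal.span_singleton_pow, ha, Ideal.span_singleton_eq_bot]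

/-- One generator. -/
theorem sum_eq_zero (h : (r : Q) = 0) {e d : ℕ} (u : Fin 4 → Q) (hu : ∀ i, (u i - 1) ^ d = 0)
    (hd : 4 * d ≤ r ^ e - 1) : ∑ j ∈ Finset.range (r ^ e), (∏ i, u i) ^ j = 0 := by
  rw [sum_pow_eq h]
  let I : Fin 4 → Ideal Q := fun i => Ideal.span {u i - 1}
  have hmem : (∏ i, u i) - 1 ∈ I 0 ⊔ I 1 ⊔ (I 2 ⊔ I 3) := by
    refine prod_sub_one_mem u fun i => ?_
    have hi : u i - 1 ∈ I i := Ideal.mem_span_singleton_self _
    fin_cases i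
    · exact Ideal.mem_sup_left (Ideal.mem_sup_left hi)
    · exact Ideal.mem_sup_left (Ideal.mem_sup_right hi)
    · exact Ideal.mem_sup_right (Ideal.mem_sup_left hi)
    · exact Ideal.mem_sup_right (Ideal.mem_sup_right hi)
  have h1 := Ideal.pow_mem_pow hmem (d + d + (d + d))
  rw [four_pow_eq_bot I (fun i => single_pow_eq_bot (hu i)), Ideal.mem_bot] at h1
  exact pow_eq_zero_of_le (by omega) h1

/-- Two commuting generators whose unipotent parts annihilate each other in each factor. -/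
theorem sum_sum_eq_zero (h : (r : Q) = 0) {d : ℕ} (hd0 : 0 < d) (u v : Fin 4 → Q)
    (hu : ∀ i, (u i - 1) ^ d = 0) (hv : ∀ i, (v i - 1) ^ d = 0)
    (huv : ∀ i, (u i - 1) * (v i - 1) = 0) (hd : 4 * d ≤ 2 * (r - 1)) :
    (∑ j ∈ Finset.range r, (∏ i, u i) ^ j) * (∑ j ∈ Finset.range r, (∏ i, v i) ^ j) = 0 := by
  have e1 := sum_pow_eq h 1 (∏ i, u i)
  have e2 := sum_pow_eq h 1 (∏ i, v i)
  rw [pow_one] at e1 e2
  rw [e1, e2]
  let I : Fin 4 → Ideal Q := fun i => Ideal.span {u i - 1} ⊔ Ideal.span {v i - 1}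
  have hmem : ∀ w : Fin 4 → Q, (∀ i, w i - 1 ∈ I i) →
      (∏ i, w i) - 1 ∈ I 0 ⊔ I 1 ⊔ (I 2 ⊔ I 3) := by
    intro w hw
    refine prod_sub_one_mem w fun i => ?_
    have hi := hw i
    fin_cases i
    · exact Ideal.mem_sup_left (Ideal.mem_sup_left hi)
    · exact Ideal.mem_sup_left (Ideal.mem_sup_right hi)
    · exact Ideal.mem_sup_right (Ideal.mem_sup_left hi)
    · exact Ideal.mem_sup_right (Ideal.mem_sup_right hi)
  have h1 := Ideal.mul_mem_mul
    (Ideal.pow_mem_pow (hmem u fun i => Ideal.mem_sup_left (Ideal.mem_span_singleton_self _)) (r - 1))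
    (Ideal.pow_mem_pow (hmem v fun i => Ideal.mem_sup_right (Ideal.mem_span_singleton_self _)) (r - 1))
  rw [← pow_add] at h1
  have h2 := Ideal.pow_le_pow_right (show d + d + (d + d) ≤ r - 1 + (r - 1) by omega) h1
  rwa [four_pow_eq_bot I (fun i => pair_pow_eq_bot hd0 (huv i) (hu i) (hv i)), Ideal.mem_bot] at h2

end CfsgLib.KpThree.Nilp
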