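import Cfsg.Agent.Lib.KpThree.Defs
import Cfsg.Agent.Lib.KpRegular.Linear
import Cfsg.Agent.Lib.SolvClass.Atoms
import Cfsg.Agent.Lib.Semilinear.NormalAbelian

/-!
# Two orbits and a normal abelian subgroup of primitive prime exponent

The primitive idempotents of the algebra spanned by the normal subgroup are at most two. With two
of them a subgroup of index two is transitive on a summand; with one, the group is semilinear and
the eigenvalues of its linear part fill a large part of the field.
-/

set_option autoImplicit false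
set_option linter.style.haveILetI false

open Polynomial MulAction

namespace CfsgLib.KpThree

section

variable {D E : Type*} [Group D] [AddCommGroup E] [DistribMulAction D E]

/-- Three vectors in three different orbits contradict `TwoOrbits`. -/
theorem false_of_three (h2 : TwoOrbits D E) {a b c : E} (ha : a ≠ 0) (hb : b ≠ 0) (hc : c ≠ 0)
    (hab : ∀ g : D, g • a ≠ b) (hac : ∀ g : D, g • a ≠ c) (hbc : ∀ g : D, g • b ≠ c) : False := by
  obtain ⟨u, v, -, -, -, hall⟩ := h2
  have key : ∀ {x y w : E}, x ∈ orbit D w → y ∈ orbit D w → ∃ g : D, g • x = y := by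
    rintro x y w ⟨g, rfl⟩ ⟨h, rfl⟩
    exact ⟨h * g⁻¹, by simp [mul_smul]⟩
  rcases hall a ha with h | h <;> rcases hall b hb with h' | h' <;> rcases hall c hc with h'' | h''
  all_goals
    first
    | obtain ⟨g, hg⟩ := key h h'; exact hab g hg
    | obtain ⟨g, hg⟩ := key h h''; exact hac g hg
    | obtain ⟨g, hg⟩ := key h' h''; exact hbc g hg

/-- If a vector of one kind and a vector of another kind exist, each kind is one orbit. -/
theorem exists_smul_eq_of_invariant (h2 : TwoOrbits D E) (q : E → Prop)
    (hq : ∀ (g : D) (v : E), q v → q (g • v)) {x y w : E} (hx : x ≠ 0) (hy : y ≠ 0) (hw : w ≠ 0)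
    (hqx : q x) (hqy : q y) (hqw : ¬ q w) : ∃ g : D, g • x = y := by
  by_contra h
  push Not at h
  exact false_of_three h2 hx hy hw h (fun g hg => hqw (hg ▸ hq g x hqx))
    (fun g hg => hqw (hg ▸ hq g y hqy))

end

variable {D E : Type*} [Group D] [Finite D] [AddCommGroup E] [Finite E] [DistribMulAction D E]
  [FaithfulSMul D E] {p : ℕ} [Fact p.Prime] {n : ℕ}

/-- The class number of a subgroup is at most the index times the class number. -/
theorem card_conjClasses_subgroup_le (H : Subgroup D) :
    Nat.card (ConjClasses H) ≤ H.index * Nat.card (ConjClasses D) := by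
  have h := Subgroup.commProb_subgroup_le H
  rw [commProb_def', commProb_def'] at h
  have hD : (0 : ℚ) < Nat.card D := Nat.cast_pos.mpr Nat.card_pos
  have hH : (0 : ℚ) < Nat.card H := Nat.cast_pos.mpr Nat.card_pos
  have hi : (Nat.card D : ℚ) = H.index * Nat.card H := by
    exact_mod_cast (H.index_mul_card).symm
  rw [div_le_iff₀ hH] at h
  have h2 : (Nat.card (ConjClasses D) : ℚ) / Nat.card D * (H.index : ℚ) ^ 2 * Nat.card H
      = H.index * Nat.card (ConjClasses D) := by
    rw [hi]
    have : (H.index : ℚ) ≠ 0 := Nat.cast_ne_zero.mpr Subgroup.FiniteIndex.index_ne_zero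
    field_simp
  rw [h2] at h
  exact_mod_cast h

/-- The one-component case: the group is semilinear over a field of order `p ^ d`. -/
theorem of_field {d : ℕ} (hd0 : 0 < d) (hE : ∀ e : E, p • e = 0) (hcard : Nat.card E = p ^ n)
    (h2 : TwoOrbits D E) (hsize : p * (n * d) < p ^ d) {F : Type*} [Field F] [Fintype F]
    (φ : F →+* AddMonoid.End E) (hinj : ∀ (f : F) (v : E), φ f v = 0 → f = 0 ∨ v = 0)
    (hF : Fintype.card F = p ^ d) (σ : D →* (F ≃+* F))
    (hsemi : ∀ (g : D) (f : F) (v : E), g • φ f v = φ (σ g f) (g • v)) :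
    p ≤ 2 * Nat.card (ConjClasses D) := by
  classical
  have hp : p.Prime := Fact.out
  have : Fintype D := Fintype.ofFinite D
  obtain ⟨u, u', hu, hu', -, hall⟩ := h2
  haveI : Nontrivial E := ⟨⟨u, 0, hu⟩⟩
  have hfin : Finite (F ≃+* F) :=
    Finite.of_injective (fun f : F ≃+* F => (f : F → F)) DFunLike.coe_injective
  have hchar : CharP F p := (CharP.charP_iff_prime_eq_zero hp).mpr (by
    refine (hinj _ u ?_).resolve_right hu
    rw [map_natCast]; simpa using hE u)
  obtain ⟨-, hAut⟩ := Semilinear.isCyclic_ringEquiv_and_card (F := F) hF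
  set C := σ.ker with hC
  have hidx : C.index ≤ d := by
    rw [hC, Subgroup.index_ker, ← hAut]
    exact Nat.card_le_card_of_injective (fun x : σ.range => (x : F ≃+* F)) Subtype.val_injective
  have hlin : ∀ h ∈ C, ∀ (f : F) (v : E), h • φ f v = φ f (h • v) := fun h hh f v => by
    rw [hsemi, show σ h = 1 from hh]; rfl
  -- scalars realised on `u` by the linear part
  set S : Finset Fˣ := Finset.univ.filter (fun c => ∃ h ∈ C, h • u = φ c u) with hS
  let cls : Fˣ → Bool × (D ⧸ C) := fun c =>
    if hc : ∃ g : D, g • u = φ c u then (true, (hc.choose : D ⧸ C))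
    else if hc' : ∃ g : D, g • u' = φ c u then (false, (hc'.choose : D ⧸ C)) else (true, (1 : D))
  have hsame : ∀ c c' : Fˣ, cls c = cls c' → ∃ h ∈ C, h • φ c u = φ c' u := by
    have hne : ∀ c : Fˣ, φ c u ≠ 0 := fun c h => hu ((hinj _ _ h).resolve_left c.ne_zero)
    have hsp : ∀ c : Fˣ, ∃ (w : E) (g : D), (w = u ∧ cls c = (true, (g : D ⧸ C)) ∨
        w = u' ∧ cls c = (false, (g : D ⧸ C))) ∧ g • w = φ c u := by
      intro c
      by_cases hc : ∃ g : D, g • u = φ c u
      · exact ⟨u, hc.choose, Or.inl ⟨rfl, by simp only [cls, dif_pos hc]⟩, hc.choose_spec⟩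
      · have hc' : ∃ g : D, g • u' = φ c u := (hall _ (hne c)).resolve_left hc
        exact ⟨u', hc'.choose, Or.inr ⟨rfl, by simp only [cls, dif_neg hc, dif_pos hc']⟩,
          hc'.choose_spec⟩
    intro c c' hcc
    obtain ⟨w, g, hw, hg⟩ := hsp c
    obtain ⟨w', g', hw', hg'⟩ := hsp c'
    have hww : w' = w ∧ (g : D ⧸ C) = (g' : D ⧸ C) := by
      rcases hw with ⟨rfl, e⟩ | ⟨rfl, e⟩ <;> rcases hw' with ⟨rfl, e'⟩ | ⟨rfl, e'⟩ <;>
        rw [hcc, e'] at e <;> simp only [Prod.mk.injEq] at e
      · exact ⟨rfl, e.2.symm⟩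
      · exact absurd e.1 (by decide)
      · exact absurd e.1 (by decide)
      · exact ⟨rfl, e.2.symm⟩
    obtain ⟨rfl, hgg⟩ := hww
    refine ⟨g' * g⁻¹, ?_, by rw [mul_smul, ← hg, inv_smul_smul, hg']⟩
    have h0 : g⁻¹ * g' ∈ C := QuotientGroup.eq.mp hgg
    have hnC : C.Normal := σ.normal_ker
    simpa [mul_assoc] using hnC.conj_mem _ h0 g
  have hU : Fintype.card Fˣ ≤ S.card * (2 * C.index) := by
    have h1 := Finset.card_le_mul_card_image (f := cls) (Finset.univ : Finset Fˣ) S.card
      fun b hb => by
        obtain ⟨c₀, -, hc₀⟩ := Finset.mem_image.mp hb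
        refine Finset.card_le_card_of_injOn (fun c => c₀⁻¹ * c) (fun c hc => ?_)
          (fun x _ y _ h => mul_left_cancel h)
        simp only [Finset.mem_coe, Finset.mem_filter, Finset.mem_univ, true_and, hS] at hc ⊢
        obtain ⟨h, hh, hhc⟩ := hsame c₀ c (hc₀.trans hc.symm)
        refine ⟨h, hh, ?_⟩
        rw [hlin h hh] at hhc
        have h3 := congrArg (φ (c₀⁻¹ : Fˣ)) hhc
        have h4 : ∀ x y : F, ∀ v : E, φ x (φ y v) = φ (x * y) v := fun x y v => by
          rw [map_mul]; rfl
        rw [h4, h4, Units.inv_mul, map_one] at h3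
        rw [Units.val_mul]
        exact h3
    refine h1.trans (Nat.mul_le_mul_left _ (le_trans (Finset.card_le_univ _) (le_of_eq ?_)))
    rw [Fintype.card_prod, Fintype.card_bool, ← Nat.card_eq_fintype_card]
    rfl
  -- each class realises at most `n` scalars
  let : Module (ZMod p) E := AddCommGroup.zmodModule (n := p) hE
  haveI hfd : Module.Finite (ZMod p) E := Module.Finite.of_finite
  let : Algebra (ZMod p) F := ZMod.algebra F p
  let L : D → Module.End (ZMod p) E := fun g => (DistribSMul.toAddMonoidHom E g).toZModLinearMap p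
  have hL : ∀ (g : D) (w : E), L g w = g • w := fun _ _ => rfl
  have halg : ∀ (a : ZMod p) (v : E), φ (algebraMap (ZMod p) F a) v = a • v := by
    intro a v
    obtain ⟨m, rfl⟩ : ∃ m : ℕ, (m : ZMod p) = a := ⟨a.val, ZMod.natCast_rightInverse a⟩
    rw [map_natCast, map_natCast, Nat.cast_smul_eq_nsmul, AddMonoid.End.natCast_apply]
  have heval : ∀ (h : D) (c : F), h ∈ C → h • u = φ c u → ∀ q : (ZMod p)[X],
      aeval (L h) q u = φ (aeval c q) u := by
    intro h c hh hc q
    have hpow : ∀ i : ℕ, (L h ^ i) u = φ (c ^ i) u := by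
      intro i
      induction i with
      | zero => simp
      | succ i ih =>
        rw [pow_succ', Module.End.mul_apply, ih, hL, hlin h hh, hc, pow_succ, map_mul]
        rfl
    induction q using Polynomial.induction_on' with
    | add q₁ q₂ h₁ h₂ => rw [map_add, map_add, map_add, LinearMap.add_apply, h₁, h₂]; rfl
    | monomial i a =>
      rw [aeval_monomial, aeval_monomial, Module.End.mul_apply, hpow, map_mul]
      show algebraMap (ZMod p) (Module.End (ZMod p) E) a (φ (c ^ i) u) = φ _ (φ (c ^ i) u)
      rw [halg, Module.algebraMap_end_apply]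
  have hconj : ∀ (g h : D) (q : (ZMod p)[X]) (w : E),
      aeval (L (g * h * g⁻¹)) q (g • w) = g • aeval (L h) q w := by
    intro g h q
    induction q using Polynomial.induction_on' with
    | add q₁ q₂ h₁ h₂ => intro w; simp [h₁ w, h₂ w, smul_add]
    | monomial i a =>
      intro w
      have hpow : (L (g * h * g⁻¹) ^ i) (g • w) = g • (L h ^ i) w := by
        induction i with
        | zero => simp
        | succ i ih =>
          rw [pow_succ', Module.End.mul_apply, ih, pow_succ', Module.End.mul_apply, hL, hL,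
            ← mul_smul, ← mul_smul]
          congr 1
          group
      rw [aeval_monomial, aeval_monomial, Module.End.mul_apply, Module.End.mul_apply, hpow,
        Module.algebraMap_end_apply, Module.algebraMap_end_apply]
      exact (LinearMap.map_smul (L g) a _).symm
  have hS_le : S.card ≤ n * Nat.card (ConjClasses D) := by
    have hmem : ∀ c ∈ S, ∃ h ∈ C, h • u = φ (c : F) u := fun c hc => (Finset.mem_filter.mp hc).2
    choose! w hwC hwu using hmem
    have h1 := Finset.card_le_mul_card_image (f := fun c => ConjClasses.mk (w c)) S n fun b hb => by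
      obtain ⟨c₀, hc₀, hb0⟩ := Finset.mem_image.mp hb
      set q := minpoly (ZMod p) (L (w c₀))
      have hint : IsIntegral (ZMod p) (L (w c₀)) := Algebra.IsIntegral.isIntegral _
      have hq : q.natDegree ≤ n := by
        rw [← KpRegular.finrank_eq (p := p) (E := E) hcard, ← LinearMap.charpoly_natDegree (L (w c₀))]
        exact natDegree_le_of_dvd (LinearMap.minpoly_dvd_charpoly _)
          (LinearMap.charpoly_monic _).ne_zero
      refine le_trans (Finset.card_le_card_of_injOn (t := (q.map (algebraMap (ZMod p) F)).roots.toFinset)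
        (fun c : Fˣ => (c : F)) (fun c hc => ?_) (fun x _ y _ h => Units.ext h)) ?_
      · simp only [Finset.mem_coe, Finset.mem_filter] at hc
        obtain ⟨g, hg⟩ := isConj_iff.mp (ConjClasses.mk_eq_mk_iff_isConj.mp (hb0.trans hc.2.symm))
        rw [Finset.mem_coe, Multiset.mem_toFinset, mem_roots (map_ne_zero (minpoly.ne_zero hint)),
          IsRoot, eval_map, ← aeval_def]
        refine (hinj _ u ?_).resolve_right hu
        rw [← heval (w c) c (hwC c hc.1) (hwu c hc.1), ← hg,
          show u = g • (g⁻¹ • u) from (smul_inv_smul g u).symm, hconj, minpoly.aeval,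
          LinearMap.zero_apply, smul_zero]
      · exact ((Multiset.toFinset_card_le _).trans (card_roots' _)).trans (le_trans natDegree_map_le hq)
    refine h1.trans (Nat.mul_le_mul_left n ?_)
    haveI := Fintype.ofFinite (ConjClasses D)
    rw [Nat.card_eq_fintype_card]
    exact Finset.card_le_univ _
  rw [Fintype.card_units, hF] at hU
  have hnd : 0 < n * d := by
    refine Nat.mul_pos (Nat.pos_of_ne_zero fun h0 => hu ?_) hd0
    rw [h0, pow_zero] at hcard
    exact (Nat.card_eq_one_iff_unique.mp hcard).1.elim u 0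
  set k := Nat.card (ConjClasses D)
  have h3 : p * (n * d) ≤ 2 * k * (n * d) :=
    calc p * (n * d) ≤ p ^ d - 1 := by omega
      _ ≤ S.card * (2 * C.index) := hU
      _ ≤ n * k * (2 * d) := Nat.mul_le_mul hS_le (Nat.mul_le_mul_left 2 hidx)
      _ = 2 * k * (n * d) := by ring
  exact Nat.le_of_mul_le_mul_right h3 hnd

/-- A normal abelian subgroup of primitive prime power order gives many classes. -/
theorem of_normal_prim (hp5 : 5 ≤ p) (hE : ∀ e : E, p • e = 0) (hcard : Nat.card E = p ^ n)
    (hD : ¬ p ∣ Nat.card D) (h2 : TwoOrbits D E) (_hs : ScalarClosed p D E) (A : Subgroup D)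
    [A.Normal] {r d : ℕ} (hA : IsPGroup r A) (hA1 : A ≠ ⊥)
    (hAc : ∀ x ∈ A, ∀ y ∈ A, x * y = y * x) (hd : IsPrim p d r) (hd3 : 3 ≤ d)
    (hsize : p * (n * d) < p ^ d) : p ≤ 2 * Nat.card (ConjClasses D) := by
  classical
  have hp : p.Prime := Fact.out
  obtain ⟨hr, hrd, hmin⟩ := hd
  haveI := Fact.mk hr
  obtain ⟨u, -, hu, -, -, -⟩ := id h2
  haveI : Nontrivial E := ⟨⟨u, 0, hu⟩⟩
  have hfaith : ∀ g : D, (∀ v : E, g • v = v) → g = 1 := fun g hg =>
    FaithfulSMul.eq_of_smul_eq_smul fun v : E => by rw [hg, one_smul]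
  -- the elements of order `r`
  let B : Subgroup D :=
    { carrier := {x | x ∈ A ∧ x ^ r = 1}
      one_mem' := ⟨one_mem A, one_pow r⟩
      mul_mem' := fun {x y} hx hy => ⟨mul_mem hx.1 hy.1, by
        rw [(show Commute x y from hAc x hx.1 y hy.1).mul_pow, hx.2, hy.2, one_mul]⟩
      inv_mem' := fun {x} hx => ⟨inv_mem hx.1, by rw [inv_pow, hx.2, inv_one]⟩ }
  obtain ⟨a₀, ha₀A, ha₀⟩ : ∃ x ∈ A, orderOf x = r := by
    haveI : Nontrivial A := A.nontrivial_iff_ne_bot.mpr hA1
    obtain ⟨x, hx⟩ := exists_prime_orderOf_dvd_card' (G := A) r (hA.card_eq_or_dvd.resolve_left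
      (by exact (Finite.one_lt_card).ne'))
    exact ⟨x, x.2, by rw [Subgroup.orderOf_coe, hx]⟩
  have ha₀B : a₀ ∈ B := ⟨ha₀A, ha₀ ▸ pow_orderOf_eq_one a₀⟩
  let Ed := AddMonoid.End E
  let P : D →* Ed := DistribMulAction.toAddMonoidEnd D E
  have hPap : ∀ (g : D) (v : E), P g v = g • v := fun _ _ => rfl
  let R : Subring Ed := Subring.closure (P '' (B : Set D))
  haveI : IsMulCommutative R := Subring.isMulCommutative_closure (by
    rintro _ ⟨x, hx, rfl⟩ _ ⟨y, hy, rfl⟩
    rw [← map_mul, ← map_mul, hAc x hx.1 y hy.1])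
  letI : CommRing R := open scoped IsMulCommutative in inferInstance
  haveI : Finite Ed := Finite.of_injective _ DFunLike.coe_injective
  have hmulv : ∀ (x y : R) (v : E), (x * y).1 v = x.1 (y.1 v) := fun _ _ _ => rfl
  haveI : Nontrivial R := ⟨⟨1, 0, fun h => hu (DFunLike.congr_fun (congrArg Subtype.val h) u)⟩⟩
  haveI : CharP R p := (CharP.charP_iff_prime_eq_zero hp).mpr (Subtype.ext (AddMonoidHom.ext fun v => by
    show ((p : R) : Ed) v = 0
    rw [Subring.coe_natCast, AddMonoid.End.natCast_apply]; exact hE v))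
  have hN : 2 ≤ p ^ d := le_trans hp.two_le (Nat.le_self_pow (by omega) p)
  have hfix : ∀ x : R, x ^ p ^ d = x := by
    rintro ⟨x, hx⟩
    induction hx using Subring.closure_induction with
    | mem x hx =>
      obtain ⟨b, hb, rfl⟩ := hx
      refine Subtype.ext ?_
      show P b ^ p ^ d = P b
      obtain ⟨t, ht⟩ := hrd
      rw [← map_pow, show p ^ d = r * t + 1 by omega, pow_succ, pow_mul, hb.2, one_pow, one_mul]
    | zero => exact zero_pow (by omega)
    | one => exact one_pow _
    | add x y hx hy ihx ihy =>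
      show ((⟨x, hx⟩ : R) + ⟨y, hy⟩) ^ p ^ d = ⟨x, hx⟩ + ⟨y, hy⟩
      rw [add_pow_char_pow, ihx, ihy]
    | neg x hx ihx =>
      show (-⟨x, hx⟩ : R) ^ p ^ d = -⟨x, hx⟩
      have h := map_neg (iterateFrobenius R p d) (⟨x, hx⟩ : R)
      rw [iterateFrobenius_def, iterateFrobenius_def] at h
      rw [h, ihx]
    | mul x y hx hy ihx ihy =>
      show ((⟨x, hx⟩ : R) * ⟨y, hy⟩) ^ p ^ d = ⟨x, hx⟩ * ⟨y, hy⟩
      rw [mul_pow, ihx, ihy]
  -- conjugation
  have hconjmem : ∀ g : D, ∀ x ∈ R, P g * x * P g⁻¹ ∈ R := by
    intro g x hx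
    induction hx using Subring.closure_induction with
    | mem x hx =>
      obtain ⟨b, hb, rfl⟩ := hx
      refine Subring.subset_closure ⟨g * b * g⁻¹, ⟨Subgroup.Normal.conj_mem inferInstance _ hb.1 g,
        by rw [conj_pow, hb.2, mul_one, mul_inv_cancel]⟩, ?_⟩
      simp only [map_mul]
    | zero => simp [zero_mem]
    | one => rw [mul_one, ← map_mul, mul_inv_cancel, map_one]; exact one_mem _
    | add x y _ _ hx hy => rw [mul_add, add_mul]; exact add_mem hx hy
    | neg x _ hx => rw [mul_neg, neg_mul]; exact neg_mem hx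
    | mul x y _ _ hx hy =>
      have : P g * (x * y) * P g⁻¹ = P g * x * P g⁻¹ * (P g * y * P g⁻¹) := by
        rw [show P g * x * P g⁻¹ * (P g * y * P g⁻¹) = P g * x * (P g⁻¹ * P g) * y * P g⁻¹ by
          noncomm_ring, ← map_mul P g⁻¹, inv_mul_cancel, map_one]
        noncomm_ring
      rw [this]; exact mul_mem hx hy
  let cj : D → R → R := fun g x => ⟨P g * x.1 * P g⁻¹, hconjmem g x.1 x.2⟩
  have hcj : ∀ (g : D) (x : R) (v : E), g • x.1 v = (cj g x).1 (g • v) := fun g x v => by
    show g • x.1 v = g • x.1 (g⁻¹ • g • v)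
    rw [inv_smul_smul]
  have hcj_ext : ∀ (g : D) (x y : R), (∀ v, (cj g x).1 (g • v) = y.1 (g • v)) → cj g x = y :=
    fun g x y h => Subtype.ext (AddMonoidHom.ext fun v => by
      have h' := h (g⁻¹ • v)
      rw [smul_inv_smul] at h'
      exact h')
  have hcj_mul : ∀ g x y, cj g (x * y) = cj g x * cj g y := fun g x y => hcj_ext g _ _ fun v => by
    rw [← hcj, hmulv, hmulv, hcj, hcj]
  have hcj_add : ∀ g x y, cj g (x + y) = cj g x + cj g y := fun g x y => hcj_ext g _ _ fun v => by
    show _ = (cj g x).1 (g • v) + (cj g y).1 (g • v)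
    rw [← hcj, ← hcj, ← hcj, ← smul_add]; rfl
  have hcj_inv : ∀ g x, cj g⁻¹ (cj g x) = x := fun g x => hcj_ext g⁻¹ _ _ fun v => by
    obtain ⟨w, rfl⟩ : ∃ w, v = g • w := ⟨g⁻¹ • v, (smul_inv_smul g v).symm⟩
    rw [← hcj, ← hcj, inv_smul_smul, inv_smul_smul]
  have hcj_zero : ∀ g, cj g 0 = 0 := fun g => hcj_ext g _ _ fun v => by
    rw [← hcj]; exact smul_zero g
  have hatom : ∀ g e, SolvClass.IsAtomI e → SolvClass.IsAtomI (cj g e) := by
    rintro g e ⟨h1, h0, hm⟩
    refine ⟨by rw [← hcj_mul, h1], fun h => h0 ?_, fun x hx hxe => ?_⟩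
    · rw [← hcj_inv g e, h, hcj_zero]
    · have hx' : cj g (cj g⁻¹ x) = x := by simpa using hcj_inv g⁻¹ x
      rcases hm (cj g⁻¹ x) (by rw [← hcj_mul, hx])
        (by rw [← hcj_inv g e, ← hcj_mul, hxe]) with h | h
      · exact Or.inl (by rw [← hx', h, hcj_zero])
      · exact Or.inr (by rw [← hx', h])
  haveI : Fintype {e : R // SolvClass.IsAtomI e} := Fintype.ofFinite _
  let supp : E → Finset {e : R // SolvClass.IsAtomI e} := fun v =>
    Finset.univ.filter (fun e => e.1.1 v ≠ 0)
  have hsupp : ∀ (g : D) (v : E), (supp v).card = (supp (g • v)).card := by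
    have hle : ∀ (g : D) (v : E), (supp v).card ≤ (supp (g • v)).card := fun g v =>
      Finset.card_le_card_of_injOn (fun e => ⟨cj g e.1, hatom g _ e.2⟩)
        (fun e he => by
          simp only [supp, Finset.mem_coe, Finset.mem_filter, Finset.mem_univ, true_and] at he ⊢
          rw [← hcj]
          exact fun h => he ((smul_eq_zero_iff_eq g).mp h))
        (fun e _ e' _ h => Subtype.ext (by
          have h' : cj g e.1 = cj g e'.1 := congrArg Subtype.val h
          rw [← hcj_inv g e.1, ← hcj_inv g e'.1, h']))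
    exact fun g v => le_antisymm (hle g v) (by simpa using hle g⁻¹ (g • v))
  have hself : ∀ (e : {e : R // SolvClass.IsAtomI e}) (v : E), e.1.1 (e.1.1 v) = e.1.1 v := fun e v =>
    by rw [← hmulv, e.2.1]
  have horth : ∀ (e e' : {e : R // SolvClass.IsAtomI e}) (v : E), e ≠ e' → e.1.1 (e'.1.1 v) = 0 :=
    fun e e' v h => by
      rw [← hmulv, SolvClass.atom_mul_eq_zero e.2 e'.2 fun he => h (Subtype.ext he)]; rfl
  have hexv : ∀ e : {e : R // SolvClass.IsAtomI e}, ∃ v, e.1.1 v = v ∧ v ≠ 0 := fun e => by
    by_contra h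
    push Not at h
    exact e.2.2.1 (Subtype.ext (AddMonoidHom.ext fun v => h _ (hself e v)))
  choose vec hvec hvec0 using hexv
  have hvecs : ∀ e e' : {e : R // SolvClass.IsAtomI e}, e.1.1 (vec e') = if e = e' then vec e' else 0 := by
    intro e e'
    split
    · next h => rw [h, hvec]
    · next h => rw [← hvec e', horth e e' _ h]
  have hsum : ∀ T : Finset {e : R // SolvClass.IsAtomI e}, supp (∑ e ∈ T, vec e) = T := fun T => by
    ext e
    simp only [supp, Finset.mem_filter, Finset.mem_univ, true_and, map_sum, hvecs,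
      Finset.sum_ite_eq]
    by_cases h : e ∈ T <;> simp [h, hvec0]
  have hsum0 : ∀ T : Finset {e : R // SolvClass.IsAtomI e}, T.Nonempty → ∑ e ∈ T, vec e ≠ 0 :=
    fun T hT h => by
      have := hsum T
      rw [h] at this
      simp [supp, ← this] at hT
  -- at most two atoms
  have hle2 : Fintype.card {e : R // SolvClass.IsAtomI e} ≤ 2 := by
    by_contra h
    obtain ⟨e₁, e₂, e₃, h12, h13, h23⟩ := Fintype.two_lt_card_iff.mp
      (show 2 < Fintype.card {e : R // SolvClass.IsAtomI e} by omega)
    refine false_of_three h2 (hsum0 {e₁} (by simp)) (hsum0 {e₁, e₂} (by simp))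
      (hsum0 {e₁, e₂, e₃} (by simp)) ?_ ?_ ?_ <;>
    · intro g hg
      have := congrArg (fun x => (supp x).card) hg
      simp only [← hsupp, hsum] at this
      simp [h12, h13, h23] at this
  -- no atom on which the elements of order `r` act trivially
  have hmove : ∀ e : {e : R // SolvClass.IsAtomI e}, ∀ v : E, e.1.1 v = v →
      (∀ b ∈ B, b • v = v) → v = 0 := by
    intro e v hev hbv
    by_contra hv
    let T : D → R := fun b => if hb : b ∈ B then ⟨P b, Subring.subset_closure ⟨b, hb, rfl⟩⟩ else 0
    have hT : ∀ b ∈ B, ∀ x : E, (T b).1 x = b • x := fun b hb x => by simp only [T, dif_pos hb]; rfl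
    have hone : ∀ b ∈ B, e.1 * (T b - 1) = 0 := fun b hb => by
      by_contra h
      obtain ⟨s, hs⟩ := SolvClass.atom_unit e.2 hN hfix h
      refine hv ?_
      rw [← hev, ← hs, mul_comm, hmulv, hmulv]
      have : (T b - 1).1 v = 0 := by
        show (T b).1 v - v = 0
        rw [hT b hb, hbv b hb, sub_self]
      rw [this, map_zero, map_zero]
    have hfixe : ∀ x : E, e.1.1 x = x → ∀ b ∈ B, b • x = x := fun x hx b hb => by
      have := DFunLike.congr_fun (congrArg Subtype.val (show (T b - 1) * e.1 = 0 by rw [mul_comm, hone b hb])) x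
      rw [show ((T b - 1) * e.1).1 x = (T b - 1).1 (e.1.1 x) from rfl, hx] at this
      have h' : (T b).1 x - x = 0 := this
      rw [hT b hb] at h'
      exact sub_eq_zero.mp h'
    obtain ⟨w, hw⟩ : ∃ w : E, a₀ • w ≠ w := by
      by_contra h
      push Not at h
      exact hr.ne_one (ha₀ ▸ orderOf_eq_one_iff.mpr (hfaith a₀ h))
    obtain ⟨e', he'⟩ : ∃ e' : {e : R // SolvClass.IsAtomI e}, a₀ • e'.1.1 w ≠ e'.1.1 w := by
      by_contra h
      push Not at h
      refine hw ?_
      have hs : ∑ e' : {e : R // SolvClass.IsAtomI e}, e'.1.1 w = w := by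
        let ev : R →+ E := { toFun := fun x => x.1 w, map_zero' := rfl, map_add' := fun _ _ => rfl }
        have := congrArg ev (SolvClass.sum_atoms (R := R))
        rw [map_sum] at this
        exact this
      rw [← hs, Finset.smul_sum]
      exact Finset.sum_congr rfl fun e' _ => h e'
    have hne : e ≠ e' := fun h => he' (hfixe _ (h ▸ hself e' w) a₀ ha₀B)
    have hinvq : ∀ (g : D) (x : E), (∀ b ∈ B, b • x = x) → ∀ b ∈ B, b • g • x = g • x := by
      intro g x hx b hb
      have hb' : g⁻¹ * b * g ∈ B := ⟨by simpa using Subgroup.Normal.conj_mem inferInstance _ hb.1 g⁻¹,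
        by
          have := conj_pow (i := r) (a := g⁻¹) (b := b)
          simpa [hb.2] using this⟩
      have := congrArg (g • ·) (hx _ hb')
      simpa [mul_smul] using this
    have hw0 : e'.1.1 w ≠ 0 := fun h => he' (by rw [h, smul_zero])
    have hv' : ∀ b ∈ B, b • (vec e) = vec e := hfixe _ (hvec e)
    have hs1 : supp (e'.1.1 w) = {e'} := by
      ext x
      simp only [supp, Finset.mem_filter, Finset.mem_univ, true_and, Finset.mem_singleton]
      by_cases h : x = e'
      · subst h; simp [hself, hw0]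
      · simp [h, horth x e' w h]
    have hs2 : supp (vec e + e'.1.1 w) = {e, e'} := by
      ext x
      simp only [supp, Finset.mem_filter, Finset.mem_univ, true_and, Finset.mem_insert,
        Finset.mem_singleton, map_add, hvecs]
      by_cases h : x = e'
      · subst h; simp [hself, hw0, Ne.symm hne]
      · rw [horth x e' w h]
        by_cases h' : x = e <;> simp [h, h', hvec0, hne]
    refine false_of_three h2 (hvec0 e) hw0 (c := vec e + e'.1.1 w) (fun h => ?_) ?_ ?_ ?_
    · rw [h] at hs2
      simp [supp] at hs2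
      exact Finset.insert_ne_empty _ _ hs2.symm
    · exact fun g hg => he' (hg ▸ hinvq g _ hv' a₀ ha₀B)
    · intro g hg
      have := hinvq g _ hv' a₀ ha₀B
      rw [hg, smul_add, hv' a₀ ha₀B] at this
      exact he' (add_left_cancel this)
    · intro g hg
      have := hsupp g (e'.1.1 w)
      rw [hg, hs1, hs2] at this
      simp [hne] at this
  rcases Nat.lt_or_ge (Fintype.card {e : R // SolvClass.IsAtomI e}) 2 with hl1 | hl2
  · -- one atom: a field
    have hall : ∀ e : {e : R // SolvClass.IsAtomI e}, e.1 = 1 := fun e => by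
      have hsub : Subsingleton {e : R // SolvClass.IsAtomI e} :=
        Fintype.card_le_one_iff_subsingleton.mp (by omega)
      rw [← SolvClass.sum_atoms (R := R), Fintype.sum_subsingleton _ e]
    obtain ⟨e₀, he₀, -⟩ := SolvClass.exists_atom_le (R := R) (one_mul 1) one_ne_zero
    have hunit : ∀ x : R, x ≠ 0 → ∃ s, x * s = 1 := fun x hx => by
      have h1 : e₀ = 1 := hall ⟨e₀, he₀⟩
      subst h1
      obtain ⟨s, hs⟩ := SolvClass.atom_unit he₀ hN hfix (r := x) (by rwa [one_mul])
      exact ⟨s, by rwa [one_mul] at hs⟩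
    have hfield : IsField R := ⟨exists_pair_ne R, mul_comm, fun hx => hunit _ hx⟩
    letI : Field R := hfield.toField
    letI : Fintype R := Fintype.ofFinite R
    obtain ⟨f, -, hf⟩ := FiniteField.card R p
    have hcardR : Fintype.card R = p ^ d := by
      refine le_antisymm ?_ ?_
      · obtain ⟨ζ, hζ⟩ := IsCyclic.exists_generator (α := Rˣ)
        have h1 : orderOf ζ ∣ p ^ d - 1 := orderOf_dvd_of_pow_eq_one (Units.ext (by
          have h2 := hfix (ζ : R)
          rw [show p ^ d = (p ^ d - 1) + 1 by omega, pow_succ] at h2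
          simpa using mul_right_cancel₀ ζ.ne_zero (h2.trans (one_mul _).symm)))
        rw [orderOf_eq_card_of_forall_mem_zpowers hζ, Nat.card_units, Nat.card_eq_fintype_card] at h1
        have := Nat.le_of_dvd (by omega) h1
        omega
      · have hmem : P a₀ ∈ R := Subring.subset_closure ⟨a₀, ha₀B, rfl⟩
        set x : R := ⟨P a₀, hmem⟩
        have hx : x ^ r = 1 := Subtype.ext (by
          show P a₀ ^ r = 1
          rw [← map_pow, ha₀B.2, map_one])
        have hx1 : x ≠ 1 := fun h => hr.ne_one (ha₀ ▸ orderOf_eq_one_iff.mpr (hfaith a₀ fun v =>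
          DFunLike.congr_fun (congrArg Subtype.val h) v))
        have hx0 : x ≠ 0 := fun h => by rw [h, zero_pow hr.ne_zero] at hx; exact zero_ne_one hx
        have ho : orderOf (Units.mk0 x hx0) = r := orderOf_eq_prime (Units.ext (by simpa using hx))
          (fun h => hx1 (congrArg Units.val h))
        have h1 : r ∣ p ^ (f : ℕ) - 1 := by
          have h2 := orderOf_dvd_natCard (Units.mk0 x hx0)
          rwa [ho, Nat.card_units, Nat.card_eq_fintype_card, hf] at h2
        rw [hf]
        refine Nat.pow_le_pow_right hp.pos ?_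
        by_contra hlt
        exact hmin f f.pos (by omega) h1
    let σ : D →* (R ≃+* R) := MonoidHom.mk' (fun g =>
      { toFun := cj g
        invFun := cj g⁻¹
        left_inv := hcj_inv g
        right_inv := fun x => by simpa using hcj_inv g⁻¹ x
        map_mul' := hcj_mul g
        map_add' := hcj_add g }) (fun g h => RingEquiv.ext fun x => hcj_ext (g * h) x _ fun v => by
          show (cj (g * h) x).1 ((g * h) • v) = (cj g (cj h x)).1 ((g * h) • v)
          rw [← hcj, mul_smul, mul_smul, ← hcj, ← hcj])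
    exact of_field (by omega) hE hcard h2 hsize R.subtype (fun x v hxv => or_iff_not_imp_left.mpr fun hx => by
        obtain ⟨s, hs⟩ := hunit x hx
        have := congrArg (fun y : R => y.1 v) hs
        simp only [mul_comm x s] at this
        rw [hmulv, show x.1 v = 0 from hxv, map_zero] at this
        exact this.symm) hcardR σ hcj
  · -- two atoms: a subgroup of index at most two is transitive on a summand
    have htwo : Fintype.card {e : R // SolvClass.IsAtomI e} = 2 := by omega
    obtain ⟨e, e', hee⟩ := Fintype.one_lt_card_iff.mp (by omega : 1 < Fintype.card {e : R // SolvClass.IsAtomI e})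
    let U : AddSubgroup E :=
      { carrier := {v | e.1.1 v = v}
        zero_mem' := map_zero _
        add_mem' := fun {x y} hx hy => by
          simp only [Set.mem_ofPred_eq] at hx hy ⊢
          rw [map_add, hx, hy]
        neg_mem' := fun {x} hx => by
          simp only [Set.mem_ofPred_eq] at hx ⊢
          rw [map_neg, hx] }
    let D0 : Subgroup D :=
      { carrier := {g | cj g e.1 = e.1}
        one_mem' := hcj_ext 1 _ _ fun v => by rw [← hcj, one_smul, one_smul]
        mul_mem' := fun {g h} hg hh => hcj_ext (g * h) _ _ fun v => by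
          rw [← hcj, mul_smul, mul_smul, hcj h, show cj h e.1 = e.1 from hh, hcj g,
            show cj g e.1 = e.1 from hg]
        inv_mem' := fun {g} hg => by
          show cj g⁻¹ e.1 = e.1
          conv_lhs => rw [← show cj g e.1 = e.1 from hg, hcj_inv] }
    have hD0 : ∀ g ∈ D0, ∀ v ∈ U, g • v ∈ U := fun g hg v hv => by
      show e.1.1 (g • v) = g • v
      conv_lhs => rw [← show cj g e.1 = e.1 from hg, ← hcj, show e.1.1 v = v from hv]
    have hidx : D0.index ≤ 2 := by
      rw [Subgroup.index, ← htwo, ← Nat.card_eq_fintype_card]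
      refine Nat.card_le_card_of_injective (fun q => ⟨cj q.out e.1, hatom _ _ e.2⟩) fun q q' h => ?_
      rw [← QuotientGroup.out_eq' q, ← QuotientGroup.out_eq' q', QuotientGroup.eq]
      show cj (q.out⁻¹ * q'.out) e.1 = e.1
      refine hcj_ext _ _ _ fun v => ?_
      have h1 : cj q.out e.1 = cj q'.out e.1 := congrArg Subtype.val h
      rw [← hcj]
      apply smul_left_cancel q.out
      rw [← mul_smul, mul_inv_cancel_left, hcj, ← h1, hcj q.out, ← mul_smul, mul_inv_cancel_left]
    letI : DistribMulAction D0 U :=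
      { smul := fun g v => ⟨(g : D) • (v : E), hD0 g g.2 v v.2⟩
        one_smul := fun v => Subtype.ext (one_smul D (v : E))
        mul_smul := fun g h v => Subtype.ext (mul_smul (g : D) (h : D) (v : E))
        smul_zero := fun g => Subtype.ext (smul_zero (g : D))
        smul_add := fun g v w => Subtype.ext (smul_add (g : D) (v : E) (w : E)) }
    let ρ : D0 →* AddMonoid.End U := DistribMulAction.toAddMonoidEnd D0 U
    let ρ' : D0 →* (AddMonoid.End U)ˣ := ρ.toHomUnits
    letI : DistribMulAction ρ'.range U :=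
      { smul := fun g v => (g : (AddMonoid.End U)ˣ).1 v
        one_smul := fun v => rfl
        mul_smul := fun g h v => rfl
        smul_zero := fun g => map_zero _
        smul_add := fun g v w => map_add _ v w }
    haveI : FaithfulSMul ρ'.range U :=
      ⟨fun {g h} hgh => Subtype.ext (Units.ext (AddMonoidHom.ext hgh))⟩
    obtain ⟨n', hn'⟩ := KpRegular.exists_card_eq_pow hE U
    have hUn : 3 ≤ n' := by
      obtain ⟨b, hbB, hbv⟩ : ∃ b ∈ B, b • vec e ≠ vec e := by
        by_contra h
        push Not at h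
        exact hvec0 e (hmove e _ (hvec e) h)
      have hbD0 : b ∈ D0 := hcj_ext b _ _ fun v => by
        have hmem : P b ∈ R := Subring.subset_closure ⟨b, hbB, rfl⟩
        rw [← hcj]
        exact DFunLike.congr_fun (congrArg Subtype.val (mul_comm (⟨P b, hmem⟩ : R) e.1)) v
      have hbo : orderOf b = r := orderOf_eq_prime hbB.2 (fun h => hbv (by rw [h, one_smul]))
      have hfixU : ∀ v : E, v ∈ U → b • v = v → v = 0 := by
        intro v hv hbv'
        have hmem : P b ∈ R := Subring.subset_closure ⟨b, hbB, rfl⟩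
        have hz : e.1 * ((⟨P b, hmem⟩ : R) - 1) ≠ 0 := fun hz => hbv (by
          have := DFunLike.congr_fun (congrArg Subtype.val hz) (vec e)
          rw [mul_comm, hmulv, hvec] at this
          exact sub_eq_zero.mp this)
        obtain ⟨s, hs⟩ := SolvClass.atom_unit e.2 hN hfix hz
        have h1 : ((⟨P b, hmem⟩ : R) - 1).1 v = 0 := by
          show b • v - v = 0
          rw [hbv', sub_self]
        rw [← show e.1.1 v = v from hv, ← hs, mul_comm, hmulv, hmulv, h1, map_zero, map_zero]
      let : MulAction (Subgroup.zpowers b) U :=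
        MulAction.compHom U (Subgroup.inclusion (Subgroup.zpowers_le.mpr hbD0))
      have hP : IsPGroup r (Subgroup.zpowers b) :=
        IsPGroup.of_card (n := 1) (by rw [Nat.card_zpowers, hbo, pow_one])
      have h := hP.card_modEq_card_fixedPoints (α := U)
      have hfp : fixedPoints (Subgroup.zpowers b) U = {0} := by
        ext v
        refine ⟨fun h => ?_, fun h g => ?_⟩
        · exact Subtype.ext (hfixU v v.2 (congrArg Subtype.val (h ⟨b, Subgroup.mem_zpowers b⟩)))
        · rw [Set.mem_singleton_iff.mp h]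
          exact Subtype.ext (smul_zero (g : D))
      rw [hfp, Nat.card_coe_set_eq, Set.ncard_singleton, hn'] at h
      have h1 : r ∣ p ^ n' - 1 := (Nat.modEq_iff_dvd' (Nat.one_le_pow _ _ hp.pos)).mp h.symm
      by_contra hlt
      have hn0 : 0 < n' := by
        rcases Nat.eq_zero_or_pos n' with h0 | h0
        · rw [h0, pow_zero] at hn'
          exact absurd (congrArg Subtype.val ((Nat.card_eq_one_iff_unique.mp hn').1.elim
            (⟨vec e, hvec e⟩ : U) 0)) (hvec0 e)
        · exact h0
      exact hmin n' hn0 (by omega) h1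
    have htransU : ∀ x y : U, x ≠ 0 → y ≠ 0 → ∃ g : ρ'.range, g • x = y := by
      intro x y hx hy
      have hx0 : (x : E) ≠ 0 := fun h => hx (Subtype.ext h)
      have hy0 : (y : E) ≠ 0 := fun h => hy (Subtype.ext h)
      have hsU : ∀ w : E, w ∈ U → w ≠ 0 → supp w = {e} := by
        intro w hw hw0
        ext z
        simp only [supp, Finset.mem_filter, Finset.mem_univ, true_and, Finset.mem_singleton]
        by_cases h : z = e
        · subst h
          simp [show z.1.1 w = w from hw, hw0]
        · rw [← show e.1.1 w = w from hw, horth z e w h]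
          simp [h]
      obtain ⟨g, hg⟩ := exists_smul_eq_of_invariant h2 (fun w => (supp w).card = 1)
        (fun g w hw => (hsupp g w).symm.trans hw) hx0 hy0 (hsum0 {e, e'} (by simp))
        (by rw [hsU _ x.2 hx0]; rfl) (by rw [hsU _ y.2 hy0]; rfl) (by rw [hsum]; simp [hee])
      have hgD : g ∈ D0 := by
        have hin : (⟨cj g e.1, hatom g _ e.2⟩ : {e : R // SolvClass.IsAtomI e}) ∈ supp (y : E) := by
          simp only [supp, Finset.mem_filter, Finset.mem_univ, true_and]
          rw [← hg, ← hcj, show e.1.1 (x : E) = x from x.2]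
          exact fun h => hx0 ((smul_eq_zero_iff_eq g).mp h)
        rw [hsU _ y.2 hy0, Finset.mem_singleton] at hin
        exact congrArg Subtype.val hin
      exact ⟨⟨ρ' ⟨g, hgD⟩, _, rfl⟩, Subtype.ext hg⟩
    have hDb : ¬ p ∣ Nat.card ρ'.range := fun h =>
      hD ((h.trans (Subgroup.card_range_dvd ρ')).trans (Subgroup.card_subgroup_dvd_card D0))
    haveI : Finite (AddMonoid.End U) := Finite.of_injective _ DFunLike.coe_injective
    rcases KpRegular.linear_bound (D := ρ'.range) (E := U) p (n := n') (by omega)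
      (fun v => Subtype.ext (by simpa using hE v)) hn' hDb htransU with h | ⟨h, -⟩ | ⟨-, h, -⟩
    · refine h.trans (le_trans (KpRegular.card_conjClasses_le_of_surjective ρ'.rangeRestrict
        ρ'.rangeRestrict_surjective) ?_)
      exact (card_conjClasses_subgroup_le D0).trans (Nat.mul_le_mul_right _ hidx)
    · omega
    · omega

/-- A scalar of large prime order acts freely on the classes. -/
theorem le_classes_of_scalar (hn : 2 ≤ n) (hE : ∀ e : E, p • e = 0) (hcard : Nat.card E = p ^ n)
    (h2 : TwoOrbits D E) {r : ℕ} (hr : r.Prime) (hrn : n < r) {z : D} (hz : orderOf z = r) {c : ℕ}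
    (hc : ∀ e : E, z • e = c • e) : 2 * r ≤ Nat.card (ConjClasses D) := by
  classical
  haveI := Fact.mk hr
  have hp : p.Prime := Fact.out
  let : Module (ZMod p) E := AddCommGroup.zmodModule (n := p) hE
  haveI hfd : Module.Finite (ZMod p) E := Module.Finite.of_finite
  let L : D →* Module.End (ZMod p) E :=
    { toFun := fun g => (DistribSMul.toAddMonoidHom E g).toZModLinearMap p
      map_one' := LinearMap.ext fun w => one_smul D w
      map_mul' := fun g h => LinearMap.ext fun w => mul_smul g h w }
  let ψ : D →* ZMod p := LinearMap.det.comp L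
  have hcent : ∀ g : D, g * z = z * g := fun g =>
    FaithfulSMul.eq_of_smul_eq_smul fun v : E => by
      rw [mul_smul, mul_smul, hc, hc]
      exact map_nsmul (DistribSMul.toAddMonoidHom E g) c v
  obtain ⟨u, u', hu, hu', -, hall⟩ := id h2
  have hLz : L z = (c : ZMod p) • (1 : Module.End (ZMod p) E) := LinearMap.ext fun v => by
    show z • v = (c : ZMod p) • v
    rw [hc, Nat.cast_smul_eq_nsmul]
  have hψz : ψ z = (c : ZMod p) ^ n := by
    show LinearMap.det (L z) = _
    rw [hLz, LinearMap.det_smul, KpRegular.finrank_eq (p := p) (E := E) hcard, map_one, mul_one]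
  have hcr : (c : ZMod p) ^ r = 1 := by
    have h1 : L (z ^ r) u = u := by rw [← hz, pow_orderOf_eq_one, map_one]; rfl
    rw [map_pow, hLz, _root_.smul_pow, one_pow, LinearMap.smul_apply] at h1
    exact smul_left_injective (ZMod p) hu (h1.trans (one_smul (ZMod p) u).symm)
  have hc1 : (c : ZMod p) ≠ 1 := fun h => hr.ne_one (hz ▸ orderOf_eq_one_iff.mpr
    (FaithfulSMul.eq_of_smul_eq_smul fun v : E => by
      show z • v = (1 : D) • v
      rw [one_smul, hc, ← Nat.cast_smul_eq_nsmul (ZMod p), h, one_smul]))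
  have hfree : ∀ i : ℕ, ¬ r ∣ i → ∀ g : D, ¬ IsConj g (g * z ^ i) := by
    intro i hi g hg
    obtain ⟨x, hx⟩ := isConj_iff.mp hg
    have h1 : ψ g * (ψ z) ^ i = ψ g * 1 := by
      rw [mul_one, ← map_pow, ← map_mul, ← hx, map_mul, map_mul, mul_comm (ψ x), mul_assoc, ← map_mul,
        mul_inv_cancel, map_one, mul_one]
    have h0 : IsUnit (ψ g) := (Group.isUnit g).map ψ
    have h3 : (c : ZMod p) ^ (n * i) = 1 := by rw [pow_mul, ← hψz]; exact h0.mul_left_cancel h1
    have h4 : r ∣ n * i := orderOf_eq_prime hcr hc1 ▸ orderOf_dvd_of_pow_eq_one h3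
    rcases hr.dvd_mul.mp h4 with h | h
    · exact absurd (Nat.le_of_dvd (by omega) h) (by omega)
    · exact hi h
  have hinj : ∀ (g : D) (i j : ℕ), i < r → j < r →
      ConjClasses.mk (g * z ^ i) = ConjClasses.mk (g * z ^ j) → i = j := by
    intro g i j hi hj h
    wlog hij : i ≤ j generalizing i j
    · exact (this j i hj hi h.symm (by omega)).symm
    by_contra hne
    refine hfree (j - i) (fun hd => ?_) (g * z ^ i) ?_
    · have := Nat.le_of_dvd (by omega) hd
      omega
    · rw [mul_assoc, ← pow_add, Nat.add_sub_cancel' hij]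
      exact ConjClasses.mk_eq_mk_iff_isConj.mp h
  -- an element outside the scalar subgroup
  obtain ⟨g, hg⟩ : ∃ g : D, g ∉ Subgroup.zpowers z := by
    by_contra h
    push Not at h
    have hD : Nat.card D = r := by
      rw [← hz, ← Nat.card_zpowers, (eq_top_iff.mpr fun x _ => h x : Subgroup.zpowers z = ⊤),
        Subgroup.card_top]
    have hE' : Nat.card E ≤ 1 + 2 * r := by
      have hsub : (Set.univ : Set E) ⊆ {0} ∪ (orbit D u ∪ orbit D u') := fun x _ => by
        rcases eq_or_ne x 0 with h | h
        · exact Or.inl h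
        · exact Or.inr (hall x h)
      have h1 : ∀ x : E, (orbit D x).ncard ≤ r := fun x => by
        rw [← hD, ← Nat.card_coe_set_eq]; exact Finite.card_range_le _
      have := Set.ncard_le_ncard hsub (Set.toFinite _)
      rw [Set.ncard_univ] at this
      have h3 := Set.ncard_union_le ({0} : Set E) (orbit D u ∪ orbit D u')
      have h4 := Set.ncard_union_le (orbit D u) (orbit D u')
      rw [Set.ncard_singleton] at h3
      have := h1 u
      have := h1 u'
      omega
    have hrp : r ≤ p - 1 := Nat.le_of_dvd (by have := hp.two_le; omega) (by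
      rw [← orderOf_eq_prime hcr hc1]
      exact ZMod.orderOf_dvd_card_sub_one (fun h => by rw [h, zero_pow hr.ne_zero] at hcr; exact zero_ne_one hcr))
    have h2p : p ^ 2 ≤ p ^ n := Nat.pow_le_pow_right hp.pos hn
    rw [hcard] at hE'
    nlinarith [hp.two_le, Nat.sub_add_cancel hp.one_le]
  let f : Bool × Fin r → ConjClasses D := fun q => ConjClasses.mk ((if q.1 then g else 1) * z ^ (q.2 : ℕ))
  have hf : Function.Injective f := by
    have hcross : ∀ i j : ℕ, ConjClasses.mk (g * z ^ i) ≠ ConjClasses.mk (1 * z ^ j) := by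
      intro i j h
      obtain ⟨x, hx⟩ := isConj_iff.mp (ConjClasses.mk_eq_mk_iff_isConj.mp h)
      have hzc : ∀ (m : ℕ) (y : D), Commute y (z ^ m) := fun m y => (show Commute y z from hcent y).pow_right m
      rw [one_mul] at hx
      have h5 : g * z ^ i = z ^ j := by
        calc g * z ^ i = x⁻¹ * (x * (g * z ^ i) * x⁻¹) * x := by group
          _ = x⁻¹ * z ^ j * x := by rw [hx]
          _ = z ^ j := by rw [mul_assoc, ← (hzc j x).eq, inv_mul_cancel_left]
      exact hg (eq_mul_inv_of_mul_eq h5 ▸ mul_mem (Subgroup.npow_mem_zpowers z j)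
        (inv_mem (Subgroup.npow_mem_zpowers z i)))
    rintro ⟨b, i⟩ ⟨b', j⟩ h
    cases b <;> cases b' <;> simp only [f, if_true, if_false, Bool.false_eq_true] at h
    · exact Prod.ext rfl (Fin.ext (hinj 1 i j i.2 j.2 h))
    · exact absurd h.symm (hcross j i)
    · exact absurd h (hcross i j)
    · exact Prod.ext rfl (Fin.ext (hinj g i j i.2 j.2 h))
  have := Nat.card_le_card_of_injective f hf
  simpa [Nat.card_prod, Nat.card_eq_fintype_card (α := Bool)] using this

end CfsgLib.KpThree
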