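import Cfsg.Agent.Lib.KpThree.Defs
import Cfsg.Agent.Lib.KpRegular.Reduce
import Cfsg.Agent.Lib.KpRegular.Linear

/-!
# `p`-solvable groups with three classes of `p`-elements: reduction to two-orbit linear groups
-/

set_option autoImplicit false
set_option linter.style.haveILetI false
set_option linter.unusedSectionVars false

namespace CfsgLib.KpThree

open Subgroup CfsgLib.KpRegular

universe u v

variable {p : ℕ} [hp : Fact p.Prime]

/-- A map onto a group preserves the regular classes. -/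
theorem pregCount_le_of_surjective {G : Type u} [Group G] [Finite G] {M : Type v} [Group M] [Finite M]
    (f : G →* M) (hf : Function.Surjective f) : pregCount p M ≤ pregCount p G := by
  refine Nat.card_le_card_of_surjective
    (fun c : {c : ConjClasses G // ∃ g : G, ConjClasses.mk g = c ∧ ¬ p ∣ orderOf g} =>
      (⟨ConjClasses.map f c.1, by
        obtain ⟨g, hg, hgp⟩ := c.2
        exact ⟨f g, by rw [← hg]; rfl, fun h => hgp (h.trans (orderOf_map_dvd f g))⟩⟩ :
        {c : ConjClasses M // ∃ g : M, ConjClasses.mk g = c ∧ ¬ p ∣ orderOf g})) ?_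
  rintro ⟨_, x, rfl, hx⟩
  obtain ⟨g, hg, hgp⟩ := exists_preg_lift (p := p) f hf x hx
  exact ⟨⟨ConjClasses.mk g, g, rfl, hgp⟩, Subtype.ext (congrArg ConjClasses.mk hg)⟩

/-- One class of nontrivial `p`-elements: strictly more than `(p - 1) / 2` regular classes. -/
theorem one_class_strict {M : Type u} [Group M] [Finite M] (hs : Cfsg.IsPSolvable p M)
    (hd : p ∣ Nat.card M)
    (hconj : ∀ x y : M, x ≠ 1 → y ≠ 1 → (∃ k : ℕ, orderOf x = p ^ k) → (∃ k : ℕ, orderOf y = p ^ k) → IsConj x y) :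
    p - 1 < 2 * pregCount p M := by
  have h := classes_of_bound hs hd hconj
    fun D E _ _ _ _ _ _ _n hn hE hcard hD htrans => linear_bound p hn hE hcard hD htrans
  have := hp.out.two_le
  rcases h with h | ⟨h, -⟩ | ⟨h, h', -⟩ <;> omega

/-- Among three nontrivial `p`-elements two are conjugate. -/
theorem conj_or {G : Type u} [Group G] [Finite G]
    (h3 : Nat.card {c : ConjClasses G // ∃ g : G, ConjClasses.mk g = c ∧ ∃ k : ℕ, orderOf g = p ^ k} = 3)
    {x y w : G} (hx1 : x ≠ 1) (hy1 : y ≠ 1) (hw1 : w ≠ 1) (hx : ∃ k : ℕ, orderOf x = p ^ k)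
    (hy : ∃ k : ℕ, orderOf y = p ^ k) (hw : ∃ k : ℕ, orderOf w = p ^ k) :
    IsConj x y ∨ IsConj x w ∨ IsConj y w := by
  classical
  by_contra hno
  push Not at hno
  obtain ⟨h1, h2, h4⟩ := hno
  let T := {c : ConjClasses G // ∃ g : G, ConjClasses.mk g = c ∧ ∃ k : ℕ, orderOf g = p ^ k}
  let F : Fin 4 → T := ![⟨ConjClasses.mk 1, 1, rfl, 0, by rw [orderOf_one, pow_zero]⟩,
    ⟨ConjClasses.mk x, x, rfl, hx⟩, ⟨ConjClasses.mk y, y, rfl, hy⟩, ⟨ConjClasses.mk w, w, rfl, hw⟩]
  have hne : ∀ {a b : G}, ¬ IsConj a b → ConjClasses.mk a ≠ ConjClasses.mk b := fun h e =>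
    h (ConjClasses.mk_eq_mk_iff_isConj.1 e)
  have hone : ∀ {a : G}, a ≠ 1 → ¬ IsConj 1 a := fun ha h => ha (isConj_one_right.1 h)
  have hinj : Function.Injective F := by
    intro i j h
    have h' := congrArg Subtype.val h
    fin_cases i <;> fin_cases j <;> simp [F] at h' ⊢ <;>
      first
        | exact hne (hone hx1) h' | exact hne (hone hx1) h'.symm
        | exact hne (hone hy1) h' | exact hne (hone hy1) h'.symm
        | exact hne (hone hw1) h' | exact hne (hone hw1) h'.symm
        | exact h1 h' | exact h1 h'.symm | exact h2 h' | exact h2 h'.symm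
        | exact h4 h' | exact h4 h'.symm
        | exact hne h1 h' | exact hne h1 h'.symm | exact hne h2 h' | exact hne h2 h'.symm
        | exact hne h4 h' | exact hne h4 h'.symm
  have := Nat.card_le_card_of_injective F hinj
  rw [Nat.card_fin, h3] at this
  omega

/-- A map to a group with `p` in its order killing a nontrivial `p`-element. -/
theorem quotient_strict {G : Type u} [Group G] [Finite G] (hs : Cfsg.IsPSolvable p G)
    (h3 : Nat.card {c : ConjClasses G // ∃ g : G, ConjClasses.mk g = c ∧ ∃ k : ℕ, orderOf g = p ^ k} = 3)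
    {M : Type u} [Group M] [Finite M] (f : G →* M) (hf : Function.Surjective f) (hd : p ∣ Nat.card M)
    {v : G} (hv : f v = 1) (hv1 : v ≠ 1) (hvp : ∃ k : ℕ, orderOf v = p ^ k) :
    p - 1 < 2 * pregCount p G := by
  refine lt_of_lt_of_le (one_class_strict (CfsgLib.PLoc.isPSolvable_of_surjective hf hs) hd ?_)
    (Nat.mul_le_mul_left 2 (pregCount_le_of_surjective f hf))
  intro x y hx hy hxp hyp
  obtain ⟨g, rfl, hg⟩ := exists_pElement_lift f hf x hxp
  obtain ⟨g', rfl, hg'⟩ := exists_pElement_lift f hf y hyp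
  rcases conj_or h3 (fun e => hx (by rw [e, map_one])) (fun e => hy (by rw [e, map_one])) hv1 hg hg' hvp
    with h | h | h
  · exact f.map_isConj h
  · have := f.map_isConj h
    rw [hv, isConj_one_left] at this
    exact absurd this hx
  · have := f.map_isConj h
    rw [hv, isConj_one_left] at this
    exact absurd this hy

/-- The subgroup of index two of the affine line has few regular classes. -/
theorem two_mul_pregCount_le {G : Type u} [Group G] [Finite G] (hp2 : p ≠ 2)
    (hG : 2 * Nat.card G = p * (p - 1)) (F : G →* ↥(Cfsg.affineGroup (ZMod p))) (hF : Function.Injective F) :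
    2 * pregCount p G ≤ p - 1 := by
  classical
  have hspec : ∀ g, ∃ a : (ZMod p)ˣ, ∃ b : ZMod p, ∀ x, (F g : Equiv.Perm (ZMod p)) x = (a : ZMod p) * x + b :=
    fun g => (F g).2
  choose a b hab using hspec
  have hmul : ∀ g h, a (g * h) = a g * a h := by
    intro g h
    have e : ∀ x, ((F (g * h) : ↥(Cfsg.affineGroup (ZMod p))) : Equiv.Perm (ZMod p)) x =
        (a g : ZMod p) * ((a h : ZMod p) * x + b h) + b g := fun x => by
      rw [map_mul, Subgroup.coe_mul, Equiv.Perm.mul_apply, hab h, hab g]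
    have h0 := (e 0).symm.trans (hab _ 0)
    have h1 := (e 1).symm.trans (hab _ 1)
    refine Units.ext ?_
    rw [Units.val_mul]
    linear_combination h0 - h1
  let L : G →* (ZMod p)ˣ := MonoidHom.mk' a hmul
  have hext : ∀ g h, a g = a h → b g = b h → g = h := fun g h ha hb =>
    hF (Subtype.ext (Equiv.ext fun x => by rw [hab, hab, ha, hb]))
  -- the translations
  have hpd : p ∣ Nat.card G := by
    have h := Dvd.intro (p - 1) hG.symm
    exact (hp.out.dvd_mul.1 h).resolve_left fun h2 => hp2 ((Nat.prime_dvd_prime_iff_eq hp.out Nat.prime_two).1 h2)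
  obtain ⟨t, ht⟩ := exists_prime_orderOf_dvd_card' p hpd
  have hta : a t = 1 := by
    have h : orderOf (L t) ∣ Nat.card (ZMod p)ˣ := orderOf_dvd_natCard _
    have h' : orderOf (L t) ∣ p := ht ▸ orderOf_map_dvd L t
    rw [Nat.card_eq_fintype_card, ZMod.card_units] at h
    rcases (Nat.dvd_prime hp.out).1 h' with h1 | h1
    · exact orderOf_eq_one_iff.1 h1
    · rw [h1] at h
      have := Nat.le_of_dvd (by have := hp.out.two_le; omega) h
      have := hp.out.two_le
      omega
  have htk : ∀ k : ℕ, a (t ^ k) = 1 ∧ b (t ^ k) = k * b t := by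
    intro k
    have h1 : a (t ^ k) = 1 := by
      show L (t ^ k) = 1
      rw [map_pow, show L t = 1 from hta, one_pow]
    refine ⟨h1, ?_⟩
    induction k with
    | zero =>
      have h := hab (t ^ 0) 0
      rw [pow_zero, map_one, mul_zero, zero_add] at h
      simpa [pow_zero] using h.symm
    | succ k ih =>
      have h := hab (t ^ (k + 1)) 0
      rw [pow_succ', map_mul, Subgroup.coe_mul, Equiv.Perm.mul_apply, hab (t ^ k), hab t, hta, ← pow_succ',
        mul_zero, zero_add, Units.val_one, one_mul] at h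
      push_cast
      linear_combination -h + ih (by
          show L (t ^ k) = 1
          rw [map_pow, show L t = 1 from hta, one_pow])
  have hbt : b t ≠ 0 := by
    intro h0
    have : t = 1 := by
      refine hext t 1 (hta.trans (map_one L).symm) ?_
      have h := hab (1 : G) 0
      rw [map_one, mul_zero, zero_add] at h
      rw [h0]
      simpa using h
    rw [this, orderOf_one] at ht
    exact hp.out.ne_one ht.symm
  -- regular elements with the same multiplier are conjugate
  have hconj : ∀ g h, ¬ p ∣ orderOf g → ¬ p ∣ orderOf h → a g = a h → IsConj g h := by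
    intro g h hg hh hgh
    have hker : ∀ x, a x = 1 → ¬ p ∣ orderOf x → x = 1 := by
      intro x hx hxp
      obtain ⟨k, hk⟩ : ∃ k : ℕ, (k : ZMod p) * b t = b x := ⟨(b x * (b t)⁻¹).val, by
        rw [ZMod.natCast_zmod_val, inv_mul_cancel_right₀ hbt]⟩
      have he : x = t ^ k := hext _ _ (hx.trans (htk k).1.symm) ((htk k).2.trans hk).symm
      rcases (Nat.dvd_prime hp.out).1 (ht ▸ he ▸ orderOf_pow_dvd k) with h | h
      · exact orderOf_eq_one_iff.1 h
      · exact absurd h.symm.dvd hxp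
    by_cases hg1 : a g = 1
    · rw [hker g hg1 hg, hker h (hgh ▸ hg1) hh]
    have h1a : (1 : ZMod p) - a g ≠ 0 := fun e => hg1 (Units.ext (sub_eq_zero.1 e).symm)
    obtain ⟨k, hk⟩ : ∃ k : ℕ, (k : ZMod p) * b t = (b h - b g) * (1 - (a g : ZMod p))⁻¹ :=
      ⟨((b h - b g) * (1 - (a g : ZMod p))⁻¹ * (b t)⁻¹).val, by
        rw [ZMod.natCast_zmod_val, inv_mul_cancel_right₀ hbt]⟩
    refine isConj_iff.2 ⟨t ^ k, mul_inv_eq_iff_eq_mul.2 (hext _ _ ?_ ?_)⟩
    · rw [hmul, hmul, (htk k).1, one_mul, mul_one, hgh]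
    · have h1 := hab (t ^ k * g) 0
      have h2 := hab (h * t ^ k) 0
      rw [map_mul, Subgroup.coe_mul, Equiv.Perm.mul_apply, hab g, hab (t ^ k), (htk k).1, (htk k).2] at h1
      rw [map_mul, Subgroup.coe_mul, Equiv.Perm.mul_apply, hab (t ^ k), hab h, (htk k).1, (htk k).2] at h2
      rw [mul_zero, zero_add, Units.val_one, one_mul] at h1
      rw [← hgh, mul_zero, zero_add] at h2
      have : (k : ZMod p) * b t * (1 - (a g : ZMod p)) = b h - b g := by
        rw [hk, inv_mul_cancel_right₀ h1a]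
      linear_combination this - h1 + h2
  have hle : pregCount p G ≤ Nat.card L.range := by
    refine Nat.card_le_card_of_injective
      (fun c : {c : ConjClasses G // ∃ g : G, ConjClasses.mk g = c ∧ ¬ p ∣ orderOf g} =>
        (⟨L c.2.choose, c.2.choose, rfl⟩ : L.range)) fun c d h => Subtype.ext ?_
    rw [← c.2.choose_spec.1, ← d.2.choose_spec.1]
    exact ConjClasses.mk_eq_mk_iff_isConj.2
      (hconj _ _ c.2.choose_spec.2 d.2.choose_spec.2 (congrArg Subtype.val h))
  have hker : p ≤ Nat.card L.ker := by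
    exact (ht.symm.trans (Nat.card_zpowers t).symm).le.trans
      (Subgroup.card_le_of_le (zpowers_le.2 (MonoidHom.mem_ker.2 hta)))
  have hprod : Nat.card L.range * Nat.card L.ker = Nat.card G := by
    rw [← Subgroup.index_ker, mul_comm, Subgroup.card_mul_index]
  have h1 : 2 * pregCount p G * p ≤ (p - 1) * p :=
    calc 2 * pregCount p G * p ≤ 2 * Nat.card L.range * Nat.card L.ker :=
          Nat.mul_le_mul (Nat.mul_le_mul_left 2 hle) hker
      _ = (p - 1) * p := by rw [mul_assoc, hprod, hG, mul_comm]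
  exact Nat.le_of_mul_le_mul_right h1 hp.out.pos

/-- Either strictly more than `(p - 1) / 2` regular classes, or the subgroup of index two of the affine line. -/
theorem strict_or_affine {G : Type u} [Group G] [Finite G] (hsolv : Cfsg.IsPSolvable p G)
    (h3 : Nat.card {c : ConjClasses G // ∃ g : G, ConjClasses.mk g = c ∧ ∃ k : ℕ, orderOf g = p ^ k} = 3)
    (hlin : ∀ (D E : Type u) [Group D] [Finite D] [AddCommGroup E] [Finite E] [DistribMulAction D E]
      [FaithfulSMul D E] (n : ℕ), 0 < n → 5 ≤ p → (∀ e : E, p • e = 0) → Nat.card E = p ^ n →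
      ¬ p ∣ Nat.card D → TwoOrbits D E →
      p ≤ 2 * Nat.card (ConjClasses D) ∨
        (n = 1 ∧ 2 * Nat.card D = p - 1 ∧ 2 * Nat.card (ConjClasses D) = p - 1)) :
    p - 1 < 2 * pregCount p G ∨
      (p - 1 ≤ 2 * pregCount p G ∧ p ≠ 2 ∧ 2 * Nat.card G = p * (p - 1) ∧
        ∃ f : G →* ↥(Cfsg.affineGroup (ZMod p)), Function.Injective f) := by
  classical
  have hpreg1 : 1 ≤ pregCount p G := Nat.card_pos_iff.2
    ⟨⟨⟨ConjClasses.mk 1, 1, rfl, by rw [orderOf_one]; exact hp.out.not_dvd_one⟩⟩, inferInstance⟩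
  -- a nontrivial `p`-element
  obtain ⟨z, hz1, hzp⟩ : ∃ z : G, z ≠ 1 ∧ ∃ k : ℕ, orderOf z = p ^ k := by
    by_contra hno
    push Not at hno
    have hss : Subsingleton {c : ConjClasses G // ∃ g : G, ConjClasses.mk g = c ∧ ∃ k : ℕ, orderOf g = p ^ k} := by
      have hone : ∀ c : {c : ConjClasses G // ∃ g : G, ConjClasses.mk g = c ∧ ∃ k : ℕ, orderOf g = p ^ k},
          c.1 = ConjClasses.mk 1 := fun c => by
        obtain ⟨g, hg, k, hk⟩ := c.2
        rcases eq_or_ne g 1 with rfl | h
        · exact hg.symm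
        · exact absurd hk (hno g h k)
      exact ⟨fun c d => Subtype.ext ((hone c).trans (hone d).symm)⟩
    rw [Nat.card_eq_one_iff_unique.2 ⟨hss, ⟨⟨ConjClasses.mk 1, 1, rfl, 0, by rw [orderOf_one, pow_zero]⟩⟩⟩] at h3
    omega
  have hdiv : p ∣ Nat.card G := by
    obtain ⟨k, hk⟩ := hzp
    rcases k with _ | k
    · rw [pow_zero, orderOf_eq_one_iff] at hk; exact absurd hk hz1
    · exact (dvd_pow_self p k.succ_ne_zero).trans (hk ▸ orderOf_dvd_natCard z)
  rcases (by have := hp.out.two_le; omega : p = 2 ∨ p = 3 ∨ 4 ≤ p) with hp2 | hp3 | hp4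
  · exact Or.inl (by omega)
  · subst hp3
    rcases (by omega : pregCount 3 G = 1 ∨ 2 ≤ pregCount 3 G) with h1 | h1
    swap
    · exact Or.inl (by omega)
    right
    -- a three-group with three classes
    have hall : ∀ g : G, ∃ k : ℕ, orderOf g = 3 ^ k := by
      have hreg : ∀ g : G, ¬ 3 ∣ orderOf g → g = 1 := by
        intro g hg
        haveI := (Nat.card_eq_one_iff_unique.1 h1).1
        have := Subsingleton.elim (⟨ConjClasses.mk g, g, rfl, hg⟩ :
          {c : ConjClasses G // ∃ g : G, ConjClasses.mk g = c ∧ ¬ 3 ∣ orderOf g})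
          ⟨ConjClasses.mk 1, 1, rfl, by rw [orderOf_one]; norm_num⟩
        exact isConj_one_left.1 (ConjClasses.mk_eq_mk_iff_isConj.1 (congrArg Subtype.val this))
      intro g
      obtain ⟨i, o, ho, hgo⟩ := Nat.exists_eq_pow_mul_and_not_dvd (orderOf_pos g).ne' 3 (by norm_num)
      have h : g ^ 3 ^ i = 1 := by
        refine hreg _ fun h => ho (h.trans ?_)
        rw [orderOf_dvd_iff_pow_eq_one, ← pow_mul, ← hgo, pow_orderOf_eq_one]
      obtain ⟨m, -, hm⟩ := (Nat.dvd_prime_pow hp.out).1 (orderOf_dvd_of_pow_eq_one h)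
      exact ⟨m, hm⟩
    have hpG : IsPGroup 3 G := fun g => by
      obtain ⟨k, hk⟩ := hall g
      exact ⟨k, by rw [← hk, pow_orderOf_eq_one]⟩
    have hk3 : Nat.card (ConjClasses G) = 3 := by
      rw [← h3]
      exact Nat.card_congr (Equiv.subtypeUnivEquiv fun c => by
        obtain ⟨g, rfl⟩ := ConjClasses.exists_rep c
        exact ⟨g, rfl, hall g⟩).symm
    haveI hnt : Nontrivial G := ⟨z, 1, hz1⟩
    -- three classes among which the central elements
    haveI := hpG.center_nontrivial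
    have hcinj : Function.Injective fun c : Subgroup.center G => ConjClasses.mk (c : G) := by
      intro c d h
      obtain ⟨g, hg⟩ := isConj_iff.1 (ConjClasses.mk_eq_mk_iff_isConj.1 h)
      rw [Subgroup.mem_center_iff.1 c.2 g, mul_inv_cancel_right] at hg
      exact Subtype.ext hg
    have hcle : Nat.card (Subgroup.center G) ≤ 3 := hk3 ▸ Nat.card_le_card_of_injective _ hcinj
    have hc3 : Nat.card (Subgroup.center G) = 3 := by
      obtain ⟨i, hi⟩ := (hpG.to_subgroup (Subgroup.center G)).exists_card_eq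
      have h1 : 1 < Nat.card (Subgroup.center G) := Finite.one_lt_card
      rcases i with _ | _ | i
      · rw [hi] at h1; norm_num at h1
      · simpa using hi
      · rw [hi] at hcle
        have : 3 ^ 2 ≤ 3 ^ (i + 2) := Nat.pow_le_pow_right (by norm_num) (by omega)
        omega
    have hcard : Nat.card G = 3 := by
      have hsurj := ((Nat.bijective_iff_injective_and_card _).2 ⟨hcinj, by rw [hk3, hc3]⟩).2
      have : Subgroup.center G = ⊤ := by
        rw [Subgroup.eq_top_iff']
        intro g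
        obtain ⟨c, hc⟩ := hsurj (ConjClasses.mk g)
        obtain ⟨x, hx⟩ := isConj_iff.1 (ConjClasses.mk_eq_mk_iff_isConj.1 hc)
        rw [Subgroup.mem_center_iff.1 c.2 x, mul_inv_cancel_right] at hx
        exact hx ▸ c.2
      rw [← hc3, this, Subgroup.card_top]
    refine ⟨by omega, by norm_num, by rw [hcard], ?_⟩
    exact exists_affine_embedding (⊤ : Subgroup G) ⊥ Subgroup.isComplement'_top_bot
      (by rw [Subgroup.card_top]; exact hcard) fun h hh h1 => absurd (Subgroup.mem_bot.1 hh) h1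
  have hp5 : 5 ≤ p := by
    rcases (by omega : p = 4 ∨ 5 ≤ p) with rfl | h
    · exact absurd hp.out (by norm_num)
    · exact h
  -- reduce modulo the core
  set K := Cfsg.pPrimeCore p G with hK
  haveI hKn : K.Normal := CfsgLib.Solvable.pPrimeCore_normal p G
  have hKp : ¬ p ∣ Nat.card K :=
    hp.out.coprime_iff_not_dvd.1 (CfsgLib.Components.coprime_card_pPrimeCore p).symm
  let π := QuotientGroup.mk' K
  have hπ : Function.Surjective π := QuotientGroup.mk'_surjective K
  have hπp : ∀ g : G, g ≠ 1 → (∃ k : ℕ, orderOf g = p ^ k) → π g ≠ 1 := by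
    intro g hg hgp h
    obtain ⟨k, hk⟩ := hgp
    rcases k with _ | k
    · rw [pow_zero, orderOf_eq_one_iff] at hk; exact hg hk
    · exact hKp ((dvd_pow_self p k.succ_ne_zero).trans
        (hk ▸ Subgroup.orderOf_dvd_natCard K ((QuotientGroup.eq_one_iff g).1 h)))
  haveI hnt : Nontrivial (G ⧸ K) := ⟨π z, 1, hπp z hz1 hzp⟩
  have hs' := CfsgLib.PLoc.isPSolvable_of_surjective hπ hsolv
  set Q := Cfsg.pCore p (G ⧸ K) with hQ
  haveI hQn : Q.Normal := CfsgLib.Solvable.pCore_normal p (G ⧸ K)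
  have hQp : IsPGroup p Q := CfsgLib.Solvable.pCore_isPGroup p (G ⧸ K)
  have hQC : centralizer (Q : Set (G ⧸ K)) ≤ Q := CfsgLib.PLoc.centralizer_pCore_le_self hs'
    (CfsgLib.Solvable.pPrimeCore_quotient_eq_bot (p := p) K hK)
  have hQne : Q ≠ ⊥ := by
    intro h
    rw [h] at hQC
    obtain ⟨g, hg⟩ := exists_ne (1 : G ⧸ K)
    exact hg (Subgroup.mem_bot.1 (hQC (mem_centralizer_iff.2 fun b hb => by
      rw [Subgroup.mem_bot.1 hb, one_mul, mul_one])))
  have hQord : ∀ a ∈ Q, ∃ k : ℕ, orderOf a = p ^ k := fun a ha => by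
    obtain ⟨k, hk⟩ := hQp.exists_card_eq
    obtain ⟨m, -, hm⟩ := (Nat.dvd_prime_pow hp.out).1 (hk ▸ Subgroup.orderOf_dvd_natCard Q ha)
    exact ⟨m, hm⟩
  -- a normal subgroup of the quotient with `p` in its index
  have hquot : ∀ W : Subgroup (G ⧸ K), W.Normal → W ≤ Q → W ≠ ⊥ → p ∣ W.index → p - 1 < 2 * pregCount p G := by
    intro W hW hWQ hWne hWi
    haveI := hW
    obtain ⟨w, hw, hw1⟩ := W.bot_or_exists_ne_one.resolve_left hWne
    obtain ⟨v, hv, hvp⟩ := exists_pElement_lift (p := p) π hπ w (hQord w (hWQ hw))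
    refine quotient_strict hsolv h3 ((QuotientGroup.mk' W).comp π) ((QuotientGroup.mk'_surjective W).comp hπ)
      (by rw [← Subgroup.index_eq_card]; exact hWi) (v := v) ?_ (fun h => hw1 (by rw [← hv, h, map_one])) hvp
    show QuotientGroup.mk' W (π v) = 1
    rw [hv]
    exact (QuotientGroup.eq_one_iff w).2 hw
  by_cases hQi : p ∣ Q.index
  · exact Or.inl (hquot Q hQn le_rfl hQne hQi)
  have hallQ : ∀ x : G ⧸ K, (∃ k : ℕ, orderOf x = p ^ k) → x ∈ Q := by
    intro x hx
    obtain ⟨k, hk⟩ := hx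
    refine (QuotientGroup.eq_one_iff x).1 (orderOf_eq_one_iff.1 ?_)
    refine Nat.eq_one_of_dvd_coprimes ((hp.out.coprime_iff_not_dvd.2 hQi).pow_left k)
      (hk ▸ orderOf_map_dvd (QuotientGroup.mk' Q) x) ?_
    rw [Subgroup.index_eq_card]
    exact orderOf_dvd_natCard _
  -- the elements of order dividing `p` in the centre
  let W : Subgroup (G ⧸ K) :=
    { carrier := {x | x ∈ Q ∧ x ^ p = 1 ∧ ∀ y ∈ Q, y * x = x * y}
      one_mem' := ⟨one_mem _, one_pow p, fun y _ => by rw [one_mul, mul_one]⟩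
      mul_mem' := fun {a b} ha hb => ⟨mul_mem ha.1 hb.1,
        by rw [(show Commute a b from hb.2.2 a ha.1).mul_pow, ha.2.1, hb.2.1, one_mul],
        fun y hy => ((show Commute y a from ha.2.2 y hy).mul_right (hb.2.2 y hy)).eq⟩
      inv_mem' := fun {a} ha => ⟨inv_mem ha.1, by rw [inv_pow, ha.2.1, inv_one],
        fun y hy => ((show Commute y a from ha.2.2 y hy).inv_right).eq⟩ }
  have hWn : W.Normal := ⟨fun x hx g => ⟨hQn.conj_mem x hx.1 g, by rw [conj_pow, hx.2.1, mul_one, mul_inv_cancel],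
    fun y hy => by
      have hy' : g⁻¹ * y * g ∈ Q := by simpa using hQn.conj_mem y hy g⁻¹
      calc y * (g * x * g⁻¹) = g * ((g⁻¹ * y * g) * x) * g⁻¹ := by group
        _ = g * (x * (g⁻¹ * y * g)) * g⁻¹ := by rw [hx.2.2 _ hy']
        _ = g * x * g⁻¹ * y := by group⟩⟩
  have hWQ : W ≤ Q := fun x hx => hx.1
  have hWne : W ≠ ⊥ := by
    haveI : Nontrivial Q := Q.nontrivial_iff_ne_bot.2 hQne
    haveI := hQp.center_nontrivial
    obtain ⟨i, hi⟩ := (hQp.to_subgroup (Subgroup.center Q)).exists_card_eq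
    have hpd : p ∣ Nat.card (Subgroup.center Q) := by
      rcases i with _ | i
      · have := Finite.one_lt_card (α := Subgroup.center Q); rw [hi, pow_zero] at this; omega
      · exact hi ▸ dvd_pow_self p i.succ_ne_zero
    obtain ⟨c, hc⟩ := exists_prime_orderOf_dvd_card' p hpd
    intro h
    have hmem : ((c : Q) : G ⧸ K) ∈ W := ⟨(c : Q).2, by
      rw [← Subgroup.coe_pow, ← Subgroup.coe_pow, ← hc, pow_orderOf_eq_one]; rfl,
      fun y hy => congrArg Subtype.val (Subgroup.mem_center_iff.1 c.2 ⟨y, hy⟩)⟩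
    rw [h, Subgroup.mem_bot] at hmem
    have : c = 1 := Subtype.ext (Subtype.ext hmem)
    rw [this, orderOf_one] at hc
    exact hp.out.ne_one hc.symm
  by_cases hWQeq : W = Q
  swap
  · refine Or.inl (hquot W hWn hWQ hWne ?_)
    have hlt : W < Q := lt_of_le_of_ne hWQ hWQeq
    obtain ⟨i, hi⟩ := (hQp.to_le hWQ).exists_card_eq
    obtain ⟨j, hj⟩ := hQp.exists_card_eq
    have h1 : Nat.card W < Nat.card Q := lt_of_not_ge fun h => hWQeq (Subgroup.eq_of_le_of_card_ge hWQ h)
    rw [hi, hj] at h1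
    have hij := (Nat.pow_lt_pow_iff_right hp.out.one_lt).1 h1
    have h2 := W.card_mul_index
    have h4 := Q.card_mul_index
    rw [hi] at h2
    rw [hj, show j = i + (j - i - 1) + 1 by omega, pow_succ, pow_add, ← h2, mul_assoc, mul_assoc] at h4
    exact ⟨p ^ (j - i - 1) * Q.index, (Nat.eq_of_mul_eq_mul_left (pow_pos hp.out.pos i) h4).symm.trans (by ring)⟩
  have hQW : ∀ a ∈ Q, a ∈ W := fun a ha => hWQeq.symm ▸ ha
  by_cases hone : ∀ x y : G ⧸ K, x ≠ 1 → y ≠ 1 → (∃ k : ℕ, orderOf x = p ^ k) → (∃ k : ℕ, orderOf y = p ^ k) → IsConj x y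
  · refine Or.inl (lt_of_lt_of_le (one_class_strict hs' ?_ hone) (Nat.mul_le_mul_left 2 (pregCount_le_of_surjective π hπ)))
    obtain ⟨w, hw, hw1⟩ := Q.bot_or_exists_ne_one.resolve_left hQne
    obtain ⟨k, hk⟩ := hQord w hw
    rcases k with _ | k
    · rw [pow_zero, orderOf_eq_one_iff] at hk; exact absurd hk hw1
    · exact (dvd_pow_self p k.succ_ne_zero).trans (hk ▸ orderOf_dvd_natCard w)
  push Not at hone
  obtain ⟨x₀, y₀, hx₀, hy₀, hx₀p, hy₀p, hxy⟩ := hone
  -- the module
  let E := Additive Q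
  letI : AddCommGroup E :=
    { (inferInstance : AddGroup (Additive Q)) with
      add_comm := fun a b => congrArg Additive.ofMul (Subtype.ext ((hQW _ b.toMul.2).2.2 _ a.toMul.2)) }
  let D := (G ⧸ K) ⧸ Q
  let ψ : D →* MulAut Q := QuotientGroup.lift Q MulAut.conjNormal fun q hq =>
    MonoidHom.mem_ker.2 (MulEquiv.ext fun w => Subtype.ext (by
      show q * w * q⁻¹ = w
      rw [(hQW _ w.2).2.2 q hq, mul_inv_cancel_right]))
  letI : DistribMulAction D E :=
    { smul := fun d e => Additive.ofMul (ψ d e.toMul)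
      one_smul := fun e => by
        show Additive.ofMul (ψ 1 e.toMul) = e
        rw [map_one]; rfl
      mul_smul := fun d d' e => by
        show Additive.ofMul (ψ (d * d') e.toMul) = Additive.ofMul (ψ d (ψ d' e.toMul))
        rw [map_mul]; rfl
      smul_zero := fun d => congrArg Additive.ofMul (map_one (ψ d))
      smul_add := fun d a b => congrArg Additive.ofMul (map_mul (ψ d) a.toMul b.toMul) }
  haveI hfaith : FaithfulSMul D E := ⟨fun {d d'} h => by
    have hψ : ψ d = ψ d' := MulEquiv.ext fun w => Additive.ofMul.injective (h (Additive.ofMul w))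
    have h1 : ψ (d⁻¹ * d') = 1 := by rw [map_mul, map_inv, hψ, inv_mul_cancel]
    obtain ⟨g, hg⟩ := QuotientGroup.mk'_surjective Q (d⁻¹ * d')
    rw [← hg] at h1
    have hgQ : g ∈ Q := hQC (mem_centralizer_iff.2 fun w hw => by
      have := congrArg Subtype.val (DFunLike.congr_fun h1 ⟨w, hw⟩)
      change g * w * g⁻¹ = w at this
      exact (mul_inv_eq_iff_eq_mul.1 this).symm)
    rw [QuotientGroup.mk'_apply, (QuotientGroup.eq_one_iff g).2 hgQ] at hg
    exact (inv_mul_eq_one.1 hg.symm)⟩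
  obtain ⟨n, hn⟩ := hQp.exists_card_eq
  have hn0 : 0 < n := Nat.pos_of_ne_zero fun h => hQne (Subgroup.card_eq_one.1 (by rw [hn, h, pow_zero]))
  have hcardE : Nat.card E = p ^ n := (Nat.card_congr Additive.toMul).trans hn
  have hexpE : ∀ e : E, p • e = 0 := fun e =>
    congrArg Additive.ofMul (Subtype.ext (by simpa using (hQW _ e.toMul.2).2.1) : e.toMul ^ p = 1)
  have hDp : ¬ p ∣ Nat.card D := fun h => hQi (by rw [Subgroup.index_eq_card]; exact h)
  have horbit : ∀ a b : Q, IsConj (a : G ⧸ K) b → Additive.ofMul b ∈ MulAction.orbit D (Additive.ofMul a) := by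
    intro a b h
    obtain ⟨c, hc⟩ := isConj_iff.1 h
    exact ⟨(c : D), congrArg Additive.ofMul (Subtype.ext hc)⟩
  have htwo : TwoOrbits D E := by
    refine ⟨Additive.ofMul ⟨x₀, hallQ _ hx₀p⟩, Additive.ofMul ⟨y₀, hallQ _ hy₀p⟩,
      fun h => hx₀ (congrArg (fun e : E => (e.toMul : G ⧸ K)) h),
      fun h => hy₀ (congrArg (fun e : E => (e.toMul : G ⧸ K)) h), ?_, ?_⟩
    · rintro ⟨d, hd⟩
      obtain ⟨c, rfl⟩ := QuotientGroup.mk'_surjective Q d
      exact hxy (isConj_iff.2 ⟨c, congrArg (fun e : E => (e.toMul : G ⧸ K)) hd⟩)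
    · intro e he
      have he1 : (e.toMul : G ⧸ K) ≠ 1 := fun h => he (congrArg Additive.ofMul (Subtype.ext h : e.toMul = 1))
      obtain ⟨gx, hgx, hgxp⟩ := exists_pElement_lift π hπ x₀ hx₀p
      obtain ⟨gy, hgy, hgyp⟩ := exists_pElement_lift π hπ y₀ hy₀p
      obtain ⟨ge, hge, hgep⟩ := exists_pElement_lift π hπ (e.toMul : G ⧸ K) (hQord _ e.toMul.2)
      rcases conj_or h3 (fun h => hx₀ (by rw [← hgx, h, map_one])) (fun h => hy₀ (by rw [← hgy, h, map_one]))
        (fun h => he1 (by rw [← hge, h, map_one])) hgxp hgyp hgep with h | h | h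
      all_goals have h' := π.map_isConj h
      · rw [hgx, hgy] at h'; exact absurd h' hxy
      · rw [hgx, hge] at h'; exact Or.inl (horbit ⟨x₀, hallQ _ hx₀p⟩ e.toMul h')
      · rw [hgy, hge] at h'; exact Or.inr (horbit ⟨y₀, hallQ _ hy₀p⟩ e.toMul h')
  let f : G →* D := (QuotientGroup.mk' Q).comp π
  have hf : Function.Surjective f := (QuotientGroup.mk'_surjective Q).comp hπ
  have hfN : ∀ g, g ∈ f.ker ↔ π g ∈ Q := fun g => QuotientGroup.eq_one_iff _
  have hle := card_conjClasses_le_preg (p := p) f hf hDp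
  rcases hlin D E n hn0 hp5 hexpE hcardE hDp htwo with hc | ⟨hn1, hD2, hc⟩
  · exact Or.inl (by omega)
  rcases eq_or_ne K ⊥ with hK0 | hK1
  swap
  · obtain ⟨v, hv, hv1⟩ := K.bot_or_exists_ne_one.resolve_left hK1
    have := card_conjClasses_lt_preg (p := p) f hf hDp
      (v := v) (MonoidHom.mem_ker.1 ((hfN v).2 (by rw [show π v = 1 from (QuotientGroup.eq_one_iff v).2 hv]; exact one_mem _)))
      hv1 fun h => hKp (h.trans (Subgroup.orderOf_dvd_natCard K hv))
    exact Or.inl (by omega)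
  refine Or.inr ⟨by omega, by omega, ?_⟩
  have hπi : Function.Injective π := by
    rw [← MonoidHom.ker_eq_bot_iff]
    exact (QuotientGroup.ker_mk' K).trans hK0
  have hkc : Nat.card f.ker = p := by
    rw [← pow_one p, ← hn1, ← hn]
    refine Nat.card_eq_of_bijective (fun g : f.ker => (⟨π g, (hfN g).1 g.2⟩ : Q)) ⟨?_, ?_⟩
    · exact fun a b h => Subtype.ext (hπi (congrArg Subtype.val h))
    · rintro ⟨q, hq⟩
      obtain ⟨g, rfl⟩ := hπ q
      exact ⟨⟨g, (hfN g).2 hq⟩, rfl⟩
  have hidx : f.ker.index = Nat.card D := by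
    rw [Subgroup.index_ker, MonoidHom.range_eq_top.2 hf, Subgroup.card_top]
  obtain ⟨H, hH⟩ := Subgroup.exists_right_complement'_of_coprime (N := f.ker)
    (by rw [hkc, hidx]; exact hp.out.coprime_iff_not_dvd.2 hDp)
  refine ⟨by rw [← f.ker.card_mul_index, hkc, hidx, ← hD2]; ring,
    exists_affine_embedding f.ker H hH hkc ?_⟩
  intro h hh h1
  refine (Subgroup.eq_bot_iff_forall _).2 fun v hv => ?_
  by_contra hv1
  have hgen : zpowers v = f.ker := eq_of_le_of_card_ge (zpowers_le.2 hv.1) (by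
    rw [Nat.card_zpowers, hkc]
    refine le_of_eq (orderOf_eq_prime ?_ hv1).symm
    rw [← hkc]
    exact congrArg Subtype.val (pow_card_eq_one' (x := (⟨v, hv.1⟩ : f.ker))))
  have hhK : h ∈ f.ker := by
    rw [hfN]
    refine hQC (mem_centralizer_iff.2 fun q hq => ?_)
    obtain ⟨g, rfl⟩ := hπ q
    have hg : g ∈ zpowers v := hgen ▸ (hfN g).2 hq
    obtain ⟨i, rfl⟩ := mem_zpowers_iff.1 hg
    have hc : Commute v h := mem_centralizer_singleton_iff.1 hv.2
    rw [← map_mul, ← map_mul, (hc.zpow_left i).eq]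
  exact h1 ((Subgroup.disjoint_def.1 hH.disjoint) hhK hh)

end CfsgLib.KpThree
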