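import Cfsg.Agent.Lib.KpThree.Trace
import Cfsg.Agent.Lib.KpThree.Nilpotent

/-!
# The lattice for the double endomorphism representation

A linear group acts on the endomorphisms of its matrix algebra by four commuting actions.
-/

set_option autoImplicit false

open Polynomial

namespace CfsgLib.KpThree.Slots

variable {G : Type*} [Group G] [Finite G] {n : ℕ}


variable (R : G →* (Matrix (Fin n) (Fin n) ℂ))

/-- The four actions. -/
noncomputable def slot : Fin 4 → (G →* (Module.End ℂ (Module.End ℂ (Matrix (Fin n) (Fin n) ℂ)))) :=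
  ![{ toFun := fun g => LinearMap.mulLeft ℂ (LinearMap.mulLeft ℂ (R g))
      map_one' := LinearMap.ext fun T => LinearMap.ext fun X => by simp
      map_mul' := fun g h => LinearMap.ext fun T => LinearMap.ext fun X => by simp [mul_assoc] },
    { toFun := fun g => LinearMap.mulLeft ℂ (LinearMap.mulRight ℂ (R g⁻¹))
      map_one' := LinearMap.ext fun T => LinearMap.ext fun X => by simp
      map_mul' := fun g h => LinearMap.ext fun T => LinearMap.ext fun X => by simp [mul_assoc] },
    { toFun := fun g => LinearMap.mulRight ℂ (LinearMap.mulLeft ℂ (R g⁻¹))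
      map_one' := LinearMap.ext fun T => LinearMap.ext fun X => by simp
      map_mul' := fun g h => LinearMap.ext fun T => LinearMap.ext fun X => by simp [mul_assoc] },
    { toFun := fun g => LinearMap.mulRight ℂ (LinearMap.mulRight ℂ (R g))
      map_one' := LinearMap.ext fun T => LinearMap.ext fun X => by simp
      map_mul' := fun g h => LinearMap.ext fun T => LinearMap.ext fun X => by simp [mul_assoc] }]

omit [Finite G] in
theorem slot_zero (g : G) : slot R 0 g = LinearMap.mulLeft ℂ (LinearMap.mulLeft ℂ (R g)) := rfl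

omit [Finite G] in
theorem slot_one (g : G) : slot R 1 g = LinearMap.mulLeft ℂ (LinearMap.mulRight ℂ (R g⁻¹)) := rfl

omit [Finite G] in
theorem slot_two (g : G) : slot R 2 g = LinearMap.mulRight ℂ (LinearMap.mulLeft ℂ (R g⁻¹)) := rfl

omit [Finite G] in
theorem slot_three (g : G) : slot R 3 g = LinearMap.mulRight ℂ (LinearMap.mulRight ℂ (R g)) := rfl

omit [Finite G] in
theorem slot_comm (i j : Fin 4) (g h : G) (hgh : i = j → g * h = h * g) :
    slot R i g * slot R j h = slot R j h * slot R i g := by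
  by_cases hij : i = j
  · subst hij; rw [← map_mul, ← map_mul, hgh rfl]
  · refine LinearMap.ext fun T => LinearMap.ext fun X => ?_
    fin_cases i <;> fin_cases j <;>
      first
        | exact absurd rfl hij
        | simp [slot_zero, slot_one, slot_two, slot_three, mul_assoc]

/-- The product of the four actions. -/
noncomputable def act : G →* (Module.End ℂ (Module.End ℂ (Matrix (Fin n) (Fin n) ℂ))) where
  toFun g := slot R 0 g * slot R 1 g * (slot R 2 g * slot R 3 g)
  map_one' := by simp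
  map_mul' g h := by
    have c : ∀ i j : Fin 4, i ≠ j → Commute (slot R i h) (slot R j g) := fun i j hij =>
      slot_comm R i j h g fun e => absurd e hij
    rw [map_mul (slot R 0), map_mul (slot R 1), map_mul (slot R 2), map_mul (slot R 3)]
    have e1 : slot R 0 g * slot R 0 h * (slot R 1 g * slot R 1 h) =
        slot R 0 g * slot R 1 g * (slot R 0 h * slot R 1 h) :=
      (c 0 1 (by decide)).mul_mul_mul_comm _ _
    have e2 : slot R 2 g * slot R 2 h * (slot R 3 g * slot R 3 h) =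
        slot R 2 g * slot R 3 g * (slot R 2 h * slot R 3 h) :=
      (c 2 3 (by decide)).mul_mul_mul_comm _ _
    rw [e1, e2]
    exact (((c 0 2 (by decide)).mul_left (c 1 2 (by decide))).mul_right
      ((c 0 3 (by decide)).mul_left (c 1 3 (by decide)))).mul_mul_mul_comm _ _

omit [Finite G] in
theorem act_apply (g : G) (T : (Module.End ℂ (Matrix (Fin n) (Fin n) ℂ))) (X : (Matrix (Fin n) (Fin n) ℂ)) :
    act R g T X = R g * T (R g⁻¹ * X * R g) * R g⁻¹ := by
  simp [act, slot_zero, slot_one, slot_two, slot_three, mul_assoc]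

/-- A list of exponents whose linear factors annihilate the element. -/
def Small (d : ℕ) (ζ : ℂ) (A : (Matrix (Fin n) (Fin n) ℂ)) : Prop :=
  ∃ s : List ℕ, s.length ≤ d ∧ Polynomial.aeval A ((s.map fun k => X - C (ζ ^ k)).prod) = 0

omit [Finite G] in
/-- Transport of an annihilating polynomial along a power-preserving linear map. -/
theorem aeval_of_pow {V : Type*} [AddCommGroup V] [Module ℂ V]
    (φ : (Matrix (Fin n) (Fin n) ℂ) →ₗ[ℂ] Module.End ℂ V) (A : (Matrix (Fin n) (Fin n) ℂ))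
    (hφ : ∀ k : ℕ, φ (A ^ k) = φ A ^ k) (P : ℂ[X]) (hP : aeval A P = 0) : aeval (φ A) P = 0 := by
  have h := congrArg φ hP
  rw [map_zero, aeval_eq_sum_range, map_sum] at h
  rw [aeval_eq_sum_range, ← h]
  exact Finset.sum_congr rfl fun k _ => by rw [map_smul, hφ]

theorem slot_small {d : ℕ} {ζ : ℂ} {g : G} (h1 : Small d ζ (R g)) (h2 : Small d ζ (R g⁻¹))
    (i : Fin 4) : ∃ s : List ℕ, s.length ≤ d ∧
      aeval (slot R i g) ((s.map fun k => X - C (ζ ^ k)).prod) = 0 := by
  obtain ⟨s, hs, hs0⟩ := h1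
  obtain ⟨t, ht, ht0⟩ := h2
  rcases (show ∀ j : Fin 4, j = 0 ∨ j = 1 ∨ j = 2 ∨ j = 3 by decide) i with rfl | rfl | rfl | rfl
  · let φ : (Matrix (Fin n) (Fin n) ℂ) →ₗ[ℂ] Module.End ℂ (Module.End ℂ (Matrix (Fin n) (Fin n) ℂ)) :=
      { toFun := fun A => LinearMap.mulLeft ℂ (LinearMap.mulLeft ℂ A)
        map_add' := fun A B => LinearMap.ext fun T => LinearMap.ext fun X => by simp [mul_add, add_mul]
        map_smul' := fun c A => LinearMap.ext fun T => LinearMap.ext fun X => by simp }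
    have hφ : ∀ A, φ A = LinearMap.mulLeft ℂ (LinearMap.mulLeft ℂ A) := fun A => rfl
    refine ⟨s, hs, ?_⟩
    rw [slot_zero, ← hφ]
    refine aeval_of_pow φ (R g) (fun k => ?_) _ hs0
    rw [hφ, hφ, LinearMap.pow_mulLeft, LinearMap.pow_mulLeft]
  · let φ : (Matrix (Fin n) (Fin n) ℂ) →ₗ[ℂ] Module.End ℂ (Module.End ℂ (Matrix (Fin n) (Fin n) ℂ)) :=
      { toFun := fun A => LinearMap.mulLeft ℂ (LinearMap.mulRight ℂ A)
        map_add' := fun A B => LinearMap.ext fun T => LinearMap.ext fun X => by simp [mul_add, add_mul]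
        map_smul' := fun c A => LinearMap.ext fun T => LinearMap.ext fun X => by simp }
    have hφ : ∀ A, φ A = LinearMap.mulLeft ℂ (LinearMap.mulRight ℂ A) := fun A => rfl
    refine ⟨t, ht, ?_⟩
    rw [slot_one, ← hφ]
    refine aeval_of_pow φ (R g⁻¹) (fun k => ?_) _ ht0
    rw [hφ, hφ, LinearMap.pow_mulLeft, LinearMap.pow_mulRight]
  · let φ : (Matrix (Fin n) (Fin n) ℂ) →ₗ[ℂ] Module.End ℂ (Module.End ℂ (Matrix (Fin n) (Fin n) ℂ)) :=
      { toFun := fun A => LinearMap.mulRight ℂ (LinearMap.mulLeft ℂ A)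
        map_add' := fun A B => LinearMap.ext fun T => LinearMap.ext fun X => by simp [mul_add, add_mul]
        map_smul' := fun c A => LinearMap.ext fun T => LinearMap.ext fun X => by simp }
    have hφ : ∀ A, φ A = LinearMap.mulRight ℂ (LinearMap.mulLeft ℂ A) := fun A => rfl
    refine ⟨t, ht, ?_⟩
    rw [slot_two, ← hφ]
    refine aeval_of_pow φ (R g⁻¹) (fun k => ?_) _ ht0
    rw [hφ, hφ, LinearMap.pow_mulRight, LinearMap.pow_mulLeft]
  · let φ : (Matrix (Fin n) (Fin n) ℂ) →ₗ[ℂ] Module.End ℂ (Module.End ℂ (Matrix (Fin n) (Fin n) ℂ)) :=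
      { toFun := fun A => LinearMap.mulRight ℂ (LinearMap.mulRight ℂ A)
        map_add' := fun A B => LinearMap.ext fun T => LinearMap.ext fun X => by simp [mul_add, add_mul]
        map_smul' := fun c A => LinearMap.ext fun T => LinearMap.ext fun X => by simp }
    have hφ : ∀ A, φ A = LinearMap.mulRight ℂ (LinearMap.mulRight ℂ A) := fun A => rfl
    refine ⟨s, hs, ?_⟩
    rw [slot_three, ← hφ]
    refine aeval_of_pow φ (R g) (fun k => ?_) _ hs0
    rw [hφ, hφ, LinearMap.pow_mulRight, LinearMap.pow_mulRight]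

omit [Finite G] in
theorem slot_mul_eq_zero {g h : G} (hgh : g * h = h * g)
    (h1 : (R g - 1) * (R h - 1) = 0) (i : Fin 4) :
    (slot R i g - 1) * (slot R i h - 1) = 0 := by
  have hcR : R g * R h = R h * R g := by rw [← map_mul, ← map_mul, hgh]
  have h2 : (R g⁻¹ - 1) * (R h⁻¹ - 1) = 0 := by
    have e : (R g⁻¹ - 1) * (R h⁻¹ - 1) = R g⁻¹ * R h⁻¹ * ((R h - 1) * (R g - 1)) := by
      have a1 : R h⁻¹ * R h = 1 := by rw [← map_mul, inv_mul_cancel, map_one]
      have a2 : R g⁻¹ * R g = 1 := by rw [← map_mul, inv_mul_cancel, map_one]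
      have a3 : R g⁻¹ * R h⁻¹ * (R h * R g) = 1 := by
        rw [mul_assoc, ← mul_assoc (R h⁻¹), a1, one_mul, a2]
      have a4 : R g⁻¹ * R h⁻¹ * R g = R h⁻¹ := by
        rw [← map_mul, ← map_mul]
        congr 1
        have : Commute h⁻¹ g := (show Commute g h from hgh).symm.inv_left
        rw [mul_assoc, this.eq, inv_mul_cancel_left]
      simp only [mul_sub, sub_mul, mul_one, one_mul, a3, a4]
      rw [mul_assoc (R g⁻¹) (R h⁻¹) (R h), a1, mul_one]
      abel
    have e1 : (R h - 1) * (R g - 1) = (R g - 1) * (R h - 1) := by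
      simp only [mul_sub, sub_mul, mul_one, one_mul, hcR]; abel
    rw [e, e1, h1, mul_zero]
  have h1' : (R h - 1) * (R g - 1) = 0 := by
    rw [← h1]; simp only [mul_sub, sub_mul, mul_one, one_mul, hcR]; abel
  have hc' : R g⁻¹ * R h⁻¹ = R h⁻¹ * R g⁻¹ := by
    rw [← map_mul, ← map_mul, ← mul_inv_rev, ← mul_inv_rev, hgh]
  have h2' : (R h⁻¹ - 1) * (R g⁻¹ - 1) = 0 := by
    rw [← h2]; simp only [mul_sub, sub_mul, mul_one, one_mul, hc']; abel
  refine LinearMap.ext fun T => LinearMap.ext fun X => ?_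
  rcases (show ∀ j : Fin 4, j = 0 ∨ j = 1 ∨ j = 2 ∨ j = 3 by decide) i with rfl | rfl | rfl | rfl
  · have : (slot R 0 g - 1) * (slot R 0 h - 1) = LinearMap.mulLeft ℂ (LinearMap.mulLeft ℂ ((R g - 1) * (R h - 1))) := by
      refine LinearMap.ext fun T => LinearMap.ext fun X => ?_
      simp [slot_zero, slot_one, slot_two, slot_three, mul_sub, sub_mul, mul_assoc]; abel
    simp [this, h1]
  · have : (slot R 1 g - 1) * (slot R 1 h - 1) = LinearMap.mulLeft ℂ (LinearMap.mulRight ℂ ((R h⁻¹ - 1) * (R g⁻¹ - 1))) := by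
      refine LinearMap.ext fun T => LinearMap.ext fun X => ?_
      simp [slot_zero, slot_one, slot_two, slot_three, mul_sub, sub_mul, mul_assoc] <;> abel
    simp [this, h2']
  · have : (slot R 2 g - 1) * (slot R 2 h - 1) = LinearMap.mulRight ℂ (LinearMap.mulLeft ℂ ((R h⁻¹ - 1) * (R g⁻¹ - 1))) := by
      refine LinearMap.ext fun T => LinearMap.ext fun X => ?_
      simp [slot_zero, slot_one, slot_two, slot_three, mul_sub, sub_mul, mul_assoc] <;> abel
    simp [this, h2']
  · have : (slot R 3 g - 1) * (slot R 3 h - 1) = LinearMap.mulRight ℂ (LinearMap.mulRight ℂ ((R g - 1) * (R h - 1))) := by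
      refine LinearMap.ext fun T => LinearMap.ext fun X => ?_
      simp [slot_zero, slot_one, slot_two, slot_three, mul_sub, sub_mul, mul_assoc] <;> abel
    simp [this, h1]

/-- The generators of the commutative ring of operators. -/
noncomputable def genSet (ζ : ℂ) (H : Subgroup G) : Set (Module.End ℂ (Module.End ℂ (Matrix (Fin n) (Fin n) ℂ))) :=
  {ζ • (1 : (Module.End ℂ (Module.End ℂ (Matrix (Fin n) (Fin n) ℂ))))} ∪ {T | ∃ (i : Fin 4) (h : H), T = slot R i (h : G)}

omit [Finite G] in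
theorem genSet_comm (ζ : ℂ) {H : Subgroup G} (hH : ∀ a ∈ H, ∀ b ∈ H, a * b = b * a) :
    ∀ x ∈ genSet R ζ H, ∀ y ∈ genSet R ζ H, x * y = y * x := by
  rintro x (rfl | ⟨i, a, rfl⟩) y (rfl | ⟨j, b, rfl⟩)
  · rfl
  · rw [smul_mul_assoc, one_mul, mul_smul_comm, mul_one]
  · rw [smul_mul_assoc, one_mul, mul_smul_comm, mul_one]
  · exact slot_comm R i j _ _ fun _ => hH _ a.2 _ b.2

/-- An invariant spanning lattice stable under the roots of unity and the operators. -/
theorem exists_lattice {ζ : ℂ} {N : ℕ} (hN : 0 < N) (hζ : ζ ^ N = 1) (H : Subgroup G) :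
    ∃ L : Submodule ℤ (Module.End ℂ (Matrix (Fin n) (Fin n) ℂ)), L.FG ∧ Submodule.span ℂ (L : Set (Module.End ℂ (Matrix (Fin n) (Fin n) ℂ))) = ⊤ ∧
      (∀ g, ∀ v ∈ L, act R g v ∈ L) ∧
      ∀ u ∈ Subring.closure (genSet R ζ H), ∀ v ∈ L, u v ∈ L := by
  classical
  let b := Module.finBasis ℂ (Module.End ℂ (Matrix (Fin n) (Fin n) ℂ))
  let τ : G → G → G → G → (Module.End ℂ (Module.End ℂ (Matrix (Fin n) (Fin n) ℂ))) := fun a₀ a₁ a₂ a₃ =>
    slot R 0 a₀ * slot R 1 a₁ * (slot R 2 a₂ * slot R 3 a₃)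
  let gen : Fin N × (G × G × G × G) × Fin (Module.finrank ℂ (Module.End ℂ (Matrix (Fin n) (Fin n) ℂ))) → (Module.End ℂ (Matrix (Fin n) (Fin n) ℂ)) := fun q =>
    ζ ^ (q.1 : ℕ) • τ q.2.1.1 q.2.1.2.1 q.2.1.2.2.1 q.2.1.2.2.2 (b q.2.2)
  let L : Submodule ℤ (Module.End ℂ (Matrix (Fin n) (Fin n) ℂ)) := Submodule.span ℤ (Set.range gen)
  refine ⟨L, Submodule.fg_span (Set.finite_range gen), ?_, ?_, ?_⟩
  · refine eq_top_iff.2 (b.span_eq.ge.trans (Submodule.span_le.2 ?_))
    rintro _ ⟨j, rfl⟩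
    refine Submodule.subset_span (Submodule.subset_span ⟨(⟨0, hN⟩, (1, 1, 1, 1), j), ?_⟩)
    simp [gen, τ]
  all_goals
    have hslot : ∀ (i : Fin 4) (g : G) (v : (Module.End ℂ (Matrix (Fin n) (Fin n) ℂ))), v ∈ L → slot R i g v ∈ L := by
      intro i g v hv
      refine (Submodule.map_span_le ((slot R i g).restrictScalars ℤ) (Set.range gen) L).2 ?_
        (Submodule.mem_map_of_mem hv)
      rintro _ ⟨⟨k, ⟨a₀, a₁, a₂, a₃⟩, j⟩, rfl⟩
      show slot R i g (ζ ^ (k : ℕ) • τ a₀ a₁ a₂ a₃ (b j)) ∈ L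
      rw [map_smul]
      obtain ⟨a', ha'⟩ : ∃ a' : G × G × G × G, slot R i g * τ a₀ a₁ a₂ a₃ = τ a'.1 a'.2.1 a'.2.2.1 a'.2.2.2 := by
        have c : ∀ (j' : Fin 4) (a : G), i ≠ j' → slot R i g * slot R j' a = slot R j' a * slot R i g :=
          fun j' a hne => slot_comm R i j' g a fun e => absurd e hne
        rcases (show ∀ j : Fin 4, j = 0 ∨ j = 1 ∨ j = 2 ∨ j = 3 by decide) i with rfl | rfl | rfl | rfl
        · exact ⟨(g * a₀, a₁, a₂, a₃), by simp only [τ, map_mul, mul_assoc]⟩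
        · refine ⟨(a₀, g * a₁, a₂, a₃), ?_⟩
          simp only [τ, map_mul]
          simp only [← mul_assoc]
          rw [c 0 a₀ (by decide)]
        · refine ⟨(a₀, a₁, g * a₂, a₃), ?_⟩
          simp only [τ, map_mul]
          simp only [← mul_assoc]
          rw [c 0 a₀ (by decide), mul_assoc (slot R 0 a₀) (slot R _ g), c 1 a₁ (by decide)]
          simp only [mul_assoc]
        · refine ⟨(a₀, a₁, a₂, g * a₃), ?_⟩
          simp only [τ, map_mul]
          simp only [← mul_assoc]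
          rw [c 0 a₀ (by decide), mul_assoc (slot R 0 a₀) (slot R _ g), c 1 a₁ (by decide),
            ← mul_assoc (slot R 0 a₀), mul_assoc (slot R 0 a₀ * slot R 1 a₁) (slot R _ g),
            c 2 a₂ (by decide)]
          simp only [mul_assoc]
      rw [← Module.End.mul_apply, ha']
      exact Submodule.subset_span ⟨(k, a', j), rfl⟩
  · intro g v hv
    simp only [act, MonoidHom.coe_mk, OneHom.coe_mk, Module.End.mul_apply]
    exact hslot _ _ _ (hslot _ _ _ (hslot _ _ _ (hslot _ _ _ hv)))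
  · intro u hu
    induction hu using Subring.closure_induction with
    | mem x hx =>
      intro v hv
      rcases hx with rfl | ⟨i, h, rfl⟩
      · refine (Submodule.map_span_le ((ζ • (1 : (Module.End ℂ (Module.End ℂ (Matrix (Fin n) (Fin n) ℂ))))).restrictScalars ℤ) (Set.range gen) L).2 ?_
          (Submodule.mem_map_of_mem hv)
        rintro _ ⟨⟨k, a, j⟩, rfl⟩
        show ζ • (ζ ^ (k : ℕ) • τ a.1 a.2.1 a.2.2.1 a.2.2.2 (b j)) ∈ L
        rw [smul_smul, ← pow_succ', pow_eq_pow_mod (k.val + 1) hζ]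
        exact Submodule.subset_span ⟨(⟨(k.val + 1) % N, Nat.mod_lt _ hN⟩, a, j), rfl⟩
      · exact hslot i h v hv
    | zero => exact fun v _ => by simp
    | one => exact fun v hv => by simpa using hv
    | add x y _ _ hx hy => exact fun v hv => L.add_mem (hx v hv) (hy v hv)
    | neg x _ hx => exact fun v hv => L.neg_mem (hx v hv)
    | mul x y _ _ hx hy => exact fun v hv => hx _ (hy v hv)

end CfsgLib.KpThree.Slots
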