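import Cfsg.Agent.Lib.KpThree.Defs
import Cfsg.Agent.Lib.KpRegular.Linear
import Cfsg.Agent.Lib.KpRegular.PlaneClasses

/-!
# Two orbits on the nonzero vectors: the small and primitive cases

The order is at least half the number of nonzero vectors; if it contains the primitive part of
that number, or the module is a line or a plane, the class number is bounded directly.  If every
orbit is closed under scalars, eigenvectors give the bound in dimensions three and four.
-/

set_option autoImplicit false
set_option linter.unusedSectionVars false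
set_option linter.style.haveILetI false

open MulAction

namespace CfsgLib.KpThree

open CfsgLib.KpRegular

/-- Without a large primitive prime the parameters are `(n, p) = (6, 5), (6, 17)`. -/
theorem eq_six_of_no_large_primitive {p n : ℕ} [hp : Fact p.Prime] (hp5 : 5 ≤ p) (hn : 3 ≤ n)
    (hex : ∀ r, IsPrim p n r → ¬ r ^ 2 ∣ p ^ n - 1 ∧ r ≤ 2 * n + 1) :
    n = 6 ∧ (p = 5 ∨ p = 17) := by
  refine small_primitive_part hp.out hp5 hn ?_
  rw [Nat.dvd_iff_prime_pow_dvd_dvd]
  intro q j hq hqj
  rcases Nat.eq_zero_or_pos j with rfl | hj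
  · simp
  haveI := Fact.mk hq
  have hqE : q ∣ Zsigmondy.cyclotomicValue p n := (dvd_pow_self q hj.ne').trans hqj
  by_cases hqn : q ∣ n
  · obtain rfl : j = 1 := by
      by_contra hne
      exact Zsigmondy.sq_not_dvd hp.out.one_lt (by omega) hqn hqE
        ((pow_dvd_pow q (show 2 ≤ j by omega)).trans hqj)
    rw [pow_one]
    exact hqn.mul_right _
  · obtain ⟨k, m', hem, -, hord, -⟩ := Zsigmondy.orderOf_of_dvd (a := p) (by omega) hqE
    rcases k with _ | k
    · have hord' : orderOf (p : ZMod q) = n := by rw [hord]; simpa using hem.symm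
      obtain ⟨h1, h2⟩ := Zsigmondy.primitive_of_orderOf hp.out.pos hord'
      obtain ⟨hsq, hle⟩ := hex q ⟨hq, h1, h2⟩
      obtain rfl : j = 1 := by
        by_contra hne
        exact hsq (((pow_dvd_pow q (show 2 ≤ j by omega)).trans hqj).trans
          (Zsigmondy.cyclotomicValue_dvd_pow_sub_one hp.out.pos n))
      obtain ⟨c, hc⟩ := (Zsigmondy.dvd_sub_one_of_primitive hp.out.pos (by omega) h1 h2).2
      have hq2 := hq.two_le
      have hc2 : c ≤ 2 := by
        by_contra hc3
        have : n * 3 ≤ n * c := Nat.mul_le_mul_left n (by omega)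
        omega
      rw [pow_one]
      refine Dvd.dvd.mul_left ?_ n
      interval_cases c
      · omega
      · exact (show q = n + 1 by omega) ▸ dvd_mul_right _ _
      · exact (show q = 2 * n + 1 by omega) ▸ dvd_mul_left _ _
    · exact absurd (hem ▸ (dvd_pow_self q (Nat.succ_ne_zero k)).mul_right m') hqn

variable {D E : Type*} [Group D] [Finite D] [AddCommGroup E] [Finite E] [DistribMulAction D E]

/-- An orbit has at most as many points as the group has elements, and their number divides it. -/
theorem ncard_orbit_dvd (e : E) : (orbit D e).ncard ∣ Nat.card D :=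
  (MulAction.index_stabilizer D e) ▸ Subgroup.index_dvd_card _

/-- The two orbits partition the nonzero vectors. -/
theorem exists_partition (h2 : TwoOrbits D E) :
    ∃ a b : E, a ≠ 0 ∧ b ≠ 0 ∧ b ∉ orbit D a ∧
      (∀ e : E, e ≠ 0 → e ∈ orbit D a ∨ e ∈ orbit D b) ∧
      (orbit D a).ncard + (orbit D b).ncard = Nat.card E - 1 := by
  obtain ⟨a, b, ha, hb, hab, hall⟩ := h2
  refine ⟨a, b, ha, hb, hab, hall, ?_⟩
  have hd : Disjoint (orbit D a) (orbit D b) := Set.disjoint_left.2 fun x hxa hxb => hab (by
    rw [← orbit_eq_iff.2 hxa, orbit_eq_iff.2 hxb]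
    exact mem_orbit_self b)
  have hu : orbit D a ∪ orbit D b = ({0} : Set E)ᶜ := by
    ext x
    refine ⟨?_, fun hx => hall x hx⟩
    rintro (⟨d, rfl⟩ | ⟨d, rfl⟩) h0
    · exact ha ((smul_eq_zero_iff_eq d).1 h0)
    · exact hb ((smul_eq_zero_iff_eq d).1 h0)
  rw [← Set.ncard_union_eq hd (Set.toFinite _) (Set.toFinite _), hu, Set.ncard_compl,
    Set.ncard_singleton]

/-- The order is at least half the number of nonzero vectors. -/
theorem card_ge {p n : ℕ} (hcard : Nat.card E = p ^ n) (h2 : TwoOrbits D E) :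
    p ^ n - 1 ≤ 2 * Nat.card D := by
  obtain ⟨a, b, -, -, -, -, h⟩ := exists_partition h2
  have ha := Nat.le_of_dvd Nat.card_pos (ncard_orbit_dvd (D := D) a)
  have hb := Nat.le_of_dvd Nat.card_pos (ncard_orbit_dvd (D := D) b)
  omega

variable [FaithfulSMul D E] {p : ℕ} [hp : Fact p.Prime] {n : ℕ}

/-- On a line the group is cyclic of order `(p - 1) / 2`. -/
theorem line_two (hcard : Nat.card E = p ^ n) (h2 : TwoOrbits D E) (hn : n = 1) :
    2 * Nat.card D = p - 1 ∧ 2 * Nat.card (ConjClasses D) = p - 1 := by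
  classical
  subst hn
  rw [pow_one] at hcard
  obtain ⟨a, b, ha, hb, -, -, hsum⟩ := exists_partition h2
  have : Fact (Nat.card E).Prime := ⟨hcard.symm ▸ hp.out⟩
  have hgen : ∀ e : E, e ≠ 0 → ∀ v : E, ∃ k : ℤ, k • e = v := by
    intro e he v
    have h : AddSubgroup.zmultiples e = ⊤ :=
      (AddSubgroup.zmultiples e).eq_bot_or_eq_top_of_prime_card.resolve_left
        (fun h => he (by simpa using h))
    exact AddSubgroup.mem_zmultiples_iff.mp (h ▸ AddSubgroup.mem_top v)
  have hlin : ∀ (g : D) (k : ℤ) (w : E), g • (k • w) = k • (g • w) := fun g k w =>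
    map_zsmul (DistribSMul.toAddMonoidHom E g) k w
  have hfree : ∀ e : E, e ≠ 0 → (orbit D e).ncard = Nat.card D := by
    intro e he
    have hst : stabilizer D e = ⊥ := by
      refine (Subgroup.eq_bot_iff_forall _).2 fun g hg => FaithfulSMul.eq_of_smul_eq_smul fun v : E => ?_
      obtain ⟨k, rfl⟩ := hgen e he v
      rw [hlin, mem_stabilizer_iff.1 hg, one_smul]
    rw [← index_stabilizer D e, hst, Subgroup.index_bot]
  have hcomm : ∀ g h : D, g * h = h * g := by
    intro g h
    refine FaithfulSMul.eq_of_smul_eq_smul fun v : E => ?_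
    obtain ⟨i, hi⟩ := hgen a ha (g • a)
    obtain ⟨j, hj⟩ := hgen a ha (h • a)
    obtain ⟨k, rfl⟩ := hgen a ha v
    rw [mul_smul, mul_smul, hlin h, hlin g, hlin g, hlin h]
    congr 1
    rw [← hj, hlin, ← hi, hlin, ← hj, smul_comm]
  have hk : Nat.card (ConjClasses D) = Nat.card D := by
    refine (Nat.card_eq_of_bijective (ConjClasses.mk : D → ConjClasses D)
      ⟨fun g h hgh => ?_, ConjClasses.mk_surjective⟩).symm
    obtain ⟨c, hc⟩ := isConj_iff.mp (ConjClasses.mk_eq_mk_iff_isConj.mp hgh)
    rw [← hc, hcomm c g, mul_inv_cancel_right]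
  rw [hfree a ha, hfree b hb, hcard] at hsum
  omega

/-- Orbits fused by scalars have `(p ^ n - 1) / 2` points. -/
theorem exists_half (hE : ∀ e : E, p • e = 0) (hcard : Nat.card E = p ^ n) (h2 : TwoOrbits D E)
    (h : ¬ ScalarClosed p D E) : ∃ x : E, 2 * (orbit D x).ncard = p ^ n - 1 := by
  classical
  obtain ⟨a, b, ha, hb, hab, hall, hsum⟩ := exists_partition h2
  unfold ScalarClosed at h
  push Not at h
  obtain ⟨x, c, hc, hcx⟩ := h
  have hx : x ≠ 0 := fun h0 => hcx (by rw [h0, smul_zero]; exact mem_orbit_self 0)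
  have hinj : Function.Injective fun e : E => c • e := by
    intro u v huv
    by_contra hne
    have h0 : c • (u - v) = 0 := by rw [nsmul_sub]; exact sub_eq_zero.2 huv
    have hord : addOrderOf (u - v) = p :=
      addOrderOf_eq_prime (hE _) (sub_ne_zero.2 hne)
    exact hc (hord ▸ addOrderOf_dvd_of_nsmul_eq_zero h0)
  have hy : c • x ≠ 0 := fun h0 => hx (hinj (h0.trans (smul_zero c).symm))
  have hlin : ∀ (d : D) (e : E), d • (c • e) = c • (d • e) := fun d e =>
    map_nsmul (DistribSMul.toAddMonoidHom E d) c e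
  have heq : (orbit D (c • x)).ncard = (orbit D x).ncard := by
    rw [← Set.ncard_image_of_injective (orbit D x) hinj]
    congr 1
    ext e
    constructor
    · rintro ⟨d, rfl⟩
      exact ⟨d • x, mem_orbit x d, (hlin d x).symm⟩
    · rintro ⟨_, ⟨d, rfl⟩, rfl⟩
      exact ⟨d, hlin d x⟩
  refine ⟨x, ?_⟩
  rw [← hcard, ← hsum]
  rcases hall x hx with hxa | hxb <;> rcases hall _ hy with hya | hyb
  · exact absurd ((orbit_eq_iff.2 hxa).symm ▸ hya) hcx
  · rw [← orbit_eq_iff.2 hxa, ← orbit_eq_iff.2 hyb, heq, two_mul]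
  · rw [← orbit_eq_iff.2 hxb, ← orbit_eq_iff.2 hya, heq, two_mul]
  · exact absurd ((orbit_eq_iff.2 hxb).symm ▸ hyb) hcx

/-- Eigenvectors: with every orbit closed under scalars, a class covers at most `n` of the
`2 (p - 1)` pairs (orbit, scalar), the identity two, and a class without eigenvectors none. -/
theorem eigen_count (hE : ∀ e : E, p • e = 0) (hcard : Nat.card E = p ^ n)
    (h2 : TwoOrbits D E) (hs : ScalarClosed p D E) (X : Finset (ConjClasses D))
    (hX : ∀ C ∈ X, ∀ g : D, ConjClasses.mk g = C → ∀ v : E, v ≠ 0 → ∀ c : ℕ, g • v ≠ c • v) :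
    2 * (p - 1) + n * X.card ≤ 2 + n * (Nat.card (ConjClasses D) - 1) := by
  classical
  obtain ⟨a, b, ha, hb, hab, -, -⟩ := exists_partition h2
  let : Module (ZMod p) E := AddCommGroup.zmodModule (n := p) hE
  haveI hfd : Module.Finite (ZMod p) E := Module.Finite.of_finite
  have hfr := finrank_eq (p := p) (E := E) hcard
  have hscal : ∀ (t : ZMod p) (e : E), t ≠ 0 → t • e ∈ orbit D e := by
    intro t e ht
    have h1 := hs e t.val fun hd => ht (by
      rw [← ZMod.natCast_zmod_val t]; exact (ZMod.natCast_eq_zero_iff _ _).2 hd)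
    rwa [← Nat.cast_smul_eq_nsmul (ZMod p), ZMod.natCast_zmod_val] at h1
  let w : Bool → E := fun i => cond i a b
  have hw0 : ∀ i, w i ≠ 0 := fun i => by cases i <;> assumption
  have hwne : ∀ i i' : Bool, w i' ∈ orbit D (w i) → i' = i := by
    rintro (_ | _) (_ | _) h
    · rfl
    · exact absurd (mem_orbit_symm.1 h) hab
    · exact absurd h hab
    · rfl
  have hex : ∀ q : Bool × (ZMod p)ˣ, ∃ d : D, d • w q.1 = (q.2 : ZMod p) • w q.1 :=
    fun q => hscal _ _ q.2.ne_zero
  choose φ hφ using hex
  haveI := Fintype.ofFinite D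
  haveI := Fintype.ofFinite (ConjClasses D)
  have hfib : ∀ C : ConjClasses D,
      (Finset.univ.filter fun q : Bool × (ZMod p)ˣ => ConjClasses.mk (φ q) = C).card ≤
        if C = ConjClasses.mk 1 then 2 else if C ∈ X then 0 else n := by
    intro C
    split_ifs with hC1 hCX
    · refine le_trans (Finset.card_le_card (t := ({(true, 1), (false, 1)} : Finset (Bool × (ZMod p)ˣ)))
        fun q hq => ?_) Finset.card_le_two
      rw [Finset.mem_filter, hC1] at hq
      have h1 : φ q = 1 := isConj_one_left.mp (ConjClasses.mk_eq_mk_iff_isConj.mp hq.2)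
      have h3 := hφ q
      rw [h1, one_smul] at h3
      have h4 : (q.2 : ZMod p) = 1 :=
        smul_left_injective (ZMod p) (hw0 q.1) (h3.symm.trans (one_smul (ZMod p) _).symm)
      obtain ⟨i, u⟩ := q
      obtain rfl : u = 1 := Units.ext h4
      cases i <;> simp
    · refine le_of_eq (Finset.card_eq_zero.2 (Finset.filter_eq_empty_iff.2 fun q _ hq => ?_))
      refine hX C hCX (φ q) hq (w q.1) (hw0 q.1) (q.2 : ZMod p).val ?_
      rw [← Nat.cast_smul_eq_nsmul (ZMod p), ZMod.natCast_zmod_val]
      exact hφ q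
    · obtain ⟨g, rfl⟩ := ConjClasses.mk_surjective C
      let T : Module.End (ZMod p) E := (DistribSMul.toAddMonoidHom E g).toZModLinearMap p
      have hv : ∀ q : Bool × (ZMod p)ˣ, ConjClasses.mk (φ q) = ConjClasses.mk g →
          ∃ v ∈ orbit D (w q.1), T v = (q.2 : ZMod p) • v := by
        intro q hq
        obtain ⟨h, hh⟩ := isConj_iff.mp (ConjClasses.mk_eq_mk_iff_isConj.mp hq)
        refine ⟨h • w q.1, mem_orbit _ h, ?_⟩
        show g • (h • w q.1) = _
        rw [← hh, mul_smul, mul_smul, inv_smul_smul, hφ, smul_scalar]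
      choose v hvo hve using hv
      let ιs : (ZMod p)ˣ → Type := fun u => {i : Bool // ConjClasses.mk (φ (i, u)) = ConjClasses.mk g}
      let f : ∀ u, ιs u → E := fun u i => v (i.1, u) i.2
      have hf0 : ∀ u i, f u i ≠ 0 := by
        intro u i h0
        obtain ⟨d, hd⟩ := hvo (i.1, u) i.2
        exact hw0 i.1 ((smul_eq_zero_iff_eq d).1 (hd.trans h0))
      have hind : ∀ u, LinearIndependent (ZMod p) (f u) := by
        intro u
        rw [Fintype.linearIndependent_iff]
        intro t ht i
        by_contra hti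
        by_cases hone : ∀ i' : ιs u, i' = i
        · rw [Finset.sum_eq_single i (fun i' _ hne => absurd (hone i') hne)
            (fun hni => absurd (Finset.mem_univ i) hni)] at ht
          exact hf0 u i ((smul_eq_zero.1 ht).resolve_left hti)
        push Not at hone
        obtain ⟨i', hne⟩ := hone
        have huniv : (Finset.univ : Finset (ιs u)) = {i, i'} := by
          ext j
          simp only [Finset.mem_univ, Finset.mem_insert, Finset.mem_singleton, true_iff]
          have hne' : i'.1 ≠ i.1 := fun h => hne (Subtype.ext h)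
          obtain ⟨j, hj⟩ := j
          obtain ⟨k, hk⟩ := i
          obtain ⟨k', hk'⟩ := i'
          cases j <;> cases k <;> cases k' <;> simp_all
        rw [huniv, Finset.sum_pair hne.symm] at ht
        by_cases hti' : t i' = 0
        · rw [hti', zero_smul, add_zero] at ht
          exact hf0 u i ((smul_eq_zero.1 ht).resolve_left hti)
        have hmem : f u i' ∈ orbit D (f u i) := by
          have h1 : f u i' = (-(t i) / t i') • f u i := by
            rw [div_eq_inv_mul, mul_smul, neg_smul, ← eq_neg_of_add_eq_zero_right ht, inv_smul_smul₀ hti']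
          rw [h1]
          exact hscal _ _ (div_ne_zero (neg_ne_zero.2 hti) hti')
        have h1 := hvo (i.1, u) i.2
        have h2 := hvo (i'.1, u) i'.2
        have h3 : orbit D (w i'.1) = orbit D (w i.1) :=
          ((orbit_eq_iff.2 h2).symm.trans (orbit_eq_iff.2 hmem)).trans (orbit_eq_iff.2 h1)
        exact hne (Subtype.ext (hwne _ _ (h3 ▸ mem_orbit_self _)))
      have hall : LinearIndependent (ZMod p) fun x : Σ u, ιs u => f x.1 x.2 := by
        refine linearIndependent_iUnion_finite hind fun u t _ hut => ?_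
        have hsub : ∀ u', Submodule.span (ZMod p) (Set.range (f u')) ≤
            T.eigenspace (u' : ZMod p) := fun u' => Submodule.span_le.2 (by
          rintro _ ⟨i, rfl⟩
          exact Module.End.mem_eigenspace_iff.2 (hve (i.1, u') i.2))
        exact ((T.eigenspaces_iSupIndep.comp Units.val_injective).disjoint_biSup hut).mono (hsub u)
          (iSup₂_mono fun u' _ => hsub u')
      have h1 := hall.fintype_card_le_finrank
      rw [hfr] at h1
      refine le_trans (le_of_eq ?_) h1
      rw [← Fintype.card_subtype]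
      exact Fintype.card_congr
        { toFun := fun q => ⟨q.1.2, q.1.1, q.2⟩
          invFun := fun x => ⟨(x.2.1, x.1), x.2.2⟩
          left_inv := fun _ => rfl
          right_inv := fun _ => rfl }
  have hcount := Finset.card_eq_sum_card_fiberwise (f := fun q => ConjClasses.mk (φ q))
    (s := (Finset.univ : Finset (Bool × (ZMod p)ˣ))) (t := (Finset.univ : Finset (ConjClasses D)))
    (fun _ _ => Finset.mem_univ _)
  have hsum := hcount.trans_le (Finset.sum_le_sum fun C _ => hfib C)
  have hX1 : ∀ C ∈ X, C ∈ (Finset.univ : Finset (ConjClasses D)).erase (ConjClasses.mk 1) :=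
    fun C hC => Finset.mem_erase.2 ⟨fun h => by
      refine hX C hC 1 h.symm a ha 1 ?_
      rw [one_smul, one_smul], Finset.mem_univ _⟩
  rw [← Finset.add_sum_erase _ _ (Finset.mem_univ (ConjClasses.mk (1 : D))), if_pos rfl,
    Finset.sum_congr rfl (fun C hC => if_neg (Finset.ne_of_mem_erase hC)),
    ← Finset.sum_sdiff hX1, Finset.sum_eq_zero (fun C hC => if_pos hC), add_zero,
    Finset.sum_congr rfl (fun C hC => if_neg (Finset.mem_sdiff.1 hC).2), Finset.sum_const,
    Finset.card_sdiff_of_subset hX1,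
    Finset.card_erase_of_mem (Finset.mem_univ _), Finset.card_univ, Finset.card_univ,
    Fintype.card_prod, Fintype.card_bool, ZMod.card_units, smul_eq_mul,
    ← Nat.card_eq_fintype_card] at hsum
  have h3 := Finset.card_le_card hX1
  rw [Finset.card_erase_of_mem (Finset.mem_univ _), Finset.card_univ,
    ← Nat.card_eq_fintype_card] at h3
  calc 2 * (p - 1) + n * X.card ≤ 2 + (Nat.card (ConjClasses D) - 1 - X.card) * n + n * X.card :=
        Nat.add_le_add_right hsum _
    _ = 2 + n * ((Nat.card (ConjClasses D) - 1 - X.card) + X.card) := by ring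
    _ = _ := by rw [Nat.sub_add_cancel h3]

/-- With scalar-closed orbits eigenvectors give the bound in dimensions three and four. -/
theorem eigen_small (hp5 : 5 ≤ p) (hE : ∀ e : E, p • e = 0) (hcard : Nat.card E = p ^ n)
    (h2 : TwoOrbits D E) (hn : 3 ≤ n) (hn4 : n ≤ 4) (hs : ScalarClosed p D E) :
    p ≤ 2 * Nat.card (ConjClasses D) := by
  have h := eigen_count hE hcard h2 hs ∅ (by simp)
  rw [Finset.card_empty, mul_zero, add_zero] at h
  have := Nat.mul_le_mul_right (Nat.card (ConjClasses D) - 1) hn4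
  have : 0 < Nat.card (ConjClasses D) := Nat.card_pos
  omega

/-- The case `(n, p) = (6, 17)`: elements of order `7` and `13` have no eigenvectors. -/
theorem seventeen_six [Fact (Nat.Prime 17)] (hE : ∀ e : E, 17 • e = 0)
    (hcard : Nat.card E = 17 ^ 6) (h2 : TwoOrbits D E) (h7 : 7 ∣ Nat.card D)
    (h13 : 13 ∣ Nat.card D) : 17 ≤ 2 * Nat.card (ConjClasses D) := by
  classical
  have : Nontrivial E := Finite.one_lt_card_iff_nontrivial.mp (hcard ▸ by norm_num)
  let : Module (ZMod 17) E := AddCommGroup.zmodModule (n := 17) hE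
  haveI hfd : Module.Finite (ZMod 17) E := Module.Finite.of_finite
  obtain ⟨ψ, hψ⟩ := exists_linear (D := D) (E := E) (p := 17)
  have hfr := finrank_eq (p := 17) (E := E) hcard
  by_cases hs : ScalarClosed 17 D E
  swap
  · obtain ⟨x, hm⟩ := exists_half hE hcard h2 hs
    haveI := Fact.mk (show Nat.Prime 307 by norm_num)
    have hcop : Nat.Coprime 307 2 := by norm_num
    have hd : 307 ∣ Nat.card D :=
      (hcop.dvd_of_dvd_mul_left (hm ▸ by norm_num)).trans (ncard_orbit_dvd x)
    have h := sub_one_le_mul_classes ψ hψ (s := 307) (by norm_num) hd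
    rw [hfr] at h
    omega
  haveI : Fact (Nat.Prime 7) := ⟨by norm_num⟩
  haveI : Fact (Nat.Prime 13) := ⟨by norm_num⟩
  obtain ⟨u, hu⟩ := exists_prime_orderOf_dvd_card' (G := D) 7 h7
  obtain ⟨x, hx⟩ := exists_prime_orderOf_dvd_card' (G := D) 13 h13
  obtain ⟨y, hy, hxy⟩ : ∃ y : D, orderOf y = 13 ∧ ¬ IsConj x y := by
    by_contra hcon
    push Not at hcon
    have hsub : (Subgroup.zpowers x : Set D) \ {1} ⊆
        {y : D | y ∈ Subgroup.zpowers x ∧ IsConj x y} := by
      rintro y ⟨hy, hy1⟩
      refine ⟨hy, hcon y (((Fact.out : Nat.Prime 13).eq_one_or_self_of_dvd _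
        (hx ▸ orderOf_dvd_of_mem_zpowers hy)).resolve_left fun h => hy1 (orderOf_eq_one_iff.1 h))⟩
    have h := (Set.ncard_le_ncard hsub (Set.toFinite _)).trans
      (ncard_conj_zpowers_le ψ hψ (s := 13) (by norm_num) hx)
    rw [Set.ncard_sdiff_singleton_of_mem (Subgroup.one_mem _), hfr,
      ← Nat.card_coe_set_eq] at h
    have h13' : Nat.card (Subgroup.zpowers x) = 13 := (Nat.card_zpowers x).trans hx
    change Nat.card (Subgroup.zpowers x) - 1 ≤ 6 at h
    omega
  have hnoeig : ∀ r : ℕ, r = 7 ∨ r = 13 → ∀ g : D, orderOf g = r →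
      ∀ v : E, v ≠ 0 → ∀ c : ℕ, g • v ≠ c • v := by
    intro r hr g hg v hv c hgv
    haveI : Fact r.Prime := ⟨by rcases hr with rfl | rfl <;> norm_num⟩
    have hW := eq_bot_or_top_of_invariant hE (D := D) (n := 6) (r := r) (by norm_num) hcard
      (by rcases hr with rfl | rfl <;> norm_num)
      (fun i hi hi' => by rcases hr with rfl | rfl <;> interval_cases i <;> norm_num) hg
      (AddSubgroup.zmultiples v) fun e he => by
        obtain ⟨j, rfl⟩ := AddSubgroup.mem_zmultiples_iff.1 he
        show g • (j • v) ∈ _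
        rw [show g • (j • v) = j • (g • v) from map_zsmul (DistribSMul.toAddMonoidHom E g) j v, hgv]
        exact zsmul_mem (nsmul_mem (AddSubgroup.mem_zmultiples v) c) j
    have hcz : Nat.card (AddSubgroup.zmultiples v) = 17 := by
      rw [Nat.card_zmultiples, addOrderOf_eq_prime (hE v) hv]
    rcases hW with h | h
    · rw [h, AddSubgroup.card_bot] at hcz
      omega
    · rw [h, AddSubgroup.card_top, hcard] at hcz
      omega
  have horder : ∀ {g g' : D}, IsConj g g' → orderOf g = orderOf g' := fun hgg' => by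
    obtain ⟨c, hc⟩ := isConj_iff.1 hgg'
    rw [← hc]
    exact ((MulAut.conj c).orderOf_eq _).symm
  have hne : ∀ {g g' : D}, orderOf g ≠ orderOf g' → ConjClasses.mk g ≠ ConjClasses.mk g' :=
    fun h e => h (horder (ConjClasses.mk_eq_mk_iff_isConj.1 e))
  have h := eigen_count hE hcard h2 hs
    {ConjClasses.mk u, ConjClasses.mk x, ConjClasses.mk y} (by
      intro C hC g hg
      simp only [Finset.mem_insert, Finset.mem_singleton] at hC
      rcases hC with rfl | rfl | rfl <;>
        have := horder (ConjClasses.mk_eq_mk_iff_isConj.1 hg)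
      · exact hnoeig 7 (Or.inl rfl) g (this.trans hu)
      · exact hnoeig 13 (Or.inr rfl) g (this.trans hx)
      · exact hnoeig 13 (Or.inr rfl) g (this.trans hy))
  rw [Finset.card_eq_three.2 ⟨_, _, _, hne (by omega), hne (by omega),
    fun e => hxy (ConjClasses.mk_eq_mk_iff_isConj.1 e), rfl⟩] at h
  omega

/-- If the order contains the primitive part, there are many classes. -/
theorem of_primitive (hp5 : 5 ≤ p) (hE : ∀ e : E, p • e = 0) (hcard : Nat.card E = p ^ n)
    (hD : ¬ p ∣ Nat.card D) (h2 : TwoOrbits D E) (hn : 3 ≤ n)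
    (hprim : ∀ r j, IsPrim p n r → r ^ j ∣ p ^ n - 1 → r ^ j ∣ Nat.card D) :
    p ≤ 2 * Nat.card (ConjClasses D) := by
  classical
  have : Nontrivial E := Finite.one_lt_card_iff_nontrivial.mp
    (hcard ▸ Nat.one_lt_pow (by omega) hp.out.one_lt)
  by_contra hk
  push Not at hk
  by_cases hex : ∃ r, IsPrim p n r ∧ (r ^ 2 ∣ p ^ n - 1 ∨ 2 * n + 1 < r)
  · obtain ⟨r, ⟨hr, hrd, hmin⟩, hbig⟩ := hex
    haveI := Fact.mk hr
    have hrD : r ∣ Nat.card D := by
      have := hprim r 1 ⟨hr, hrd, hmin⟩ (by rwa [pow_one])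
      rwa [pow_one] at this
    obtain ⟨x, hx, hnorm⟩ := exists_normal_zpowers hE hD (by omega) hcard hrd hmin hrD
      (hbig.imp_left fun h => hprim r 2 ⟨hr, hrd, hmin⟩ h)
    have h1 := le_mul_classes hE (by omega) hcard hrd hmin hx hnorm
    have h0 := card_ge hcard h2
    have h3 : n * n * (2 * Nat.card (ConjClasses D)) ≤ n * n * (p - 1) :=
      Nat.mul_le_mul_left _ (by omega)
    have h4 := sq_mul_lt_pow hp5 hn
    have h5 : n * n * (p - 1) + n * n = n ^ 2 * p := by
      rw [pow_two, ← Nat.mul_succ, show (p - 1).succ = p by omega]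
    have h6 : n * n * (2 * Nat.card (ConjClasses D)) = 2 * (n * n * Nat.card (ConjClasses D)) := by
      ring
    have : 1 < n * n := by nlinarith
    omega
  · push Not at hex
    obtain ⟨rfl, hp'⟩ := eq_six_of_no_large_primitive hp5 hn hex
    rcases hp' with rfl | rfl
    · have h1 := card_le_two_of_classes (D := D) (by omega)
      have h0 := card_ge hcard h2
      omega
    · have hd : ∀ r, r = 7 ∨ r = 13 → r ∣ Nat.card D := fun r hr => by
        have h := hprim r 1 ⟨by rcases hr with rfl | rfl <;> norm_num,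
          by rcases hr with rfl | rfl <;> norm_num, fun i hi hi' => by
          rcases hr with rfl | rfl <;> interval_cases i <;> norm_num⟩
          (by rcases hr with rfl | rfl <;> norm_num)
        rwa [pow_one] at h
      have := seventeen_six hE hcard h2 (hd 7 (Or.inl rfl)) (hd 13 (Or.inr rfl))
      omega

/-- If the two orbits are fused by scalars, there are many classes. -/
theorem of_not_scalarClosed (hp5 : 5 ≤ p) (hE : ∀ e : E, p • e = 0)
    (hcard : Nat.card E = p ^ n) (hD : ¬ p ∣ Nat.card D) (h2 : TwoOrbits D E) (hn : 3 ≤ n)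
    (h : ¬ ScalarClosed p D E) : p ≤ 2 * Nat.card (ConjClasses D) := by
  classical
  obtain ⟨x, hm⟩ := exists_half hE hcard h2 h
  refine of_primitive hp5 hE hcard hD h2 hn fun r j hr hj => ?_
  obtain ⟨hr', hrd, hmin⟩ := hr
  have hr2 : r ≠ 2 := by
    rintro rfl
    refine hmin 1 one_pos (by omega) ?_
    rw [pow_one]
    have := (hp.out.eq_two_or_odd).resolve_left (by omega)
    omega
  have hcop : Nat.Coprime (r ^ j) 2 := ((Nat.coprime_primes hr' Nat.prime_two).2 hr2).pow_left j
  exact (hcop.dvd_of_dvd_mul_left (hm.symm ▸ hj)).trans (ncard_orbit_dvd x)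

/-- The plane. -/
theorem plane_two (hp5 : 5 ≤ p) (hE : ∀ e : E, p • e = 0) (hcard : Nat.card E = p ^ n)
    (hD : ¬ p ∣ Nat.card D) (h2 : TwoOrbits D E) (hn : n = 2) :
    p ≤ 2 * Nat.card (ConjClasses D) := by
  subst hn
  letI : Module (ZMod p) E := AddCommGroup.zmodModule hE
  haveI : Nontrivial E := plane_nontrivial p hcard
  have hge := card_ge hcard h2
  obtain ⟨z, hz⟩ : ∃ z, Nat.card (scal D E p) = z := ⟨_, rfl⟩
  have hz0 : 0 < z := hz ▸ Nat.card_pos
  have hzle : z ≤ p - 1 := Nat.le_of_dvd (by omega) (hz ▸ card_scal_dvd p)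
  obtain ⟨h, hh⟩ : z ∣ Nat.card D := hz ▸ Subgroup.card_subgroup_dvd_card _
  have hpp : 5 * p ≤ p ^ 2 := by rw [sq]; exact Nat.mul_le_mul_right p hp5
  have h2' : 2 ≤ h := by
    by_contra hlt
    have : Nat.card D ≤ z :=
      hh ▸ (Nat.mul_le_mul_left z (by omega : h ≤ 1)).trans (by omega)
    omega
  rcases class_number_cases p hcard hp5 hD (by rw [hz]; exact hh) h2' with
    hc | hc | ⟨h', hc⟩ | ⟨h', hc⟩ | ⟨h', hc⟩
  · omega
  · omega
  all_goals
    rw [hz] at hc
    rw [hh, h'] at hge
    by_contra hlt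
  · have : p ^ 2 ≤ 24 * z + 1 := by omega
    have h7 : 7 * z < p := by omega
    nlinarith
  · have : p ^ 2 ≤ 48 * z + 1 := by omega
    have h7 : 8 * z < p := by omega
    nlinarith
  · have h120 : p ^ 2 ≤ 120 * z + 1 := by omega
    have h7 : 9 * z < p := by omega
    have : 2 ≤ z := by omega
    nlinarith

end CfsgLib.KpThree
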