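import Cfsg.Agent.Lib.KpThree.Defs

/-!
# Two orbits on the nonzero vectors: irreducibility and the sizes of the orbits

The dual module has two orbits as well (Burnside), so the number of zeros on an orbit of a
functional takes two values. The first two moments of this number give the arithmetic of the
strongly regular graph attached to the orbit, all in integers.
-/

set_option autoImplicit false

namespace CfsgLib.KpThree

namespace Srg

variable {D E : Type*} [Group D] [AddCommGroup E] [DistribMulAction D E]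

theorem orbit_cases (h2 : TwoOrbits D E) {a : E} (ha : a ≠ 0) :
    ∃ b : E, b ≠ 0 ∧ b ∉ MulAction.orbit D a ∧
      ∀ e : E, e ≠ 0 → e ∈ MulAction.orbit D a ∨ e ∈ MulAction.orbit D b := by
  obtain ⟨x, y, hx, hy, hxy, hall⟩ := h2
  rcases hall a ha with h | h
  · have h' := MulAction.orbit_eq_iff.mpr h
    exact ⟨y, hy, by rw [h']; exact hxy, by rw [h']; exact hall⟩
  · have h' := MulAction.orbit_eq_iff.mpr h
    refine ⟨x, hx, ?_, fun e he => ?_⟩
    · rw [h']; exact fun hc => hxy (MulAction.mem_orbit_symm.mp hc)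
    · rw [h']; exact (hall e he).symm

theorem not_dvd_orbit [Finite D] {α : Type*} [MulAction D α] {p : ℕ} (hD : ¬ p ∣ Nat.card D)
    (x : α) : ¬ p ∣ (MulAction.orbit D x).ncard := fun h => hD <| by
  rw [← MulAction.index_stabilizer] at h
  exact h.trans (Subgroup.index_dvd_card _)

variable {p : ℕ} [Fact p.Prime] [Module (ZMod p) E]

theorem smul_zmod (g : D) (c : ZMod p) (v : E) : g • (c • v) = c • (g • v) :=
  ZMod.map_smul (DistribSMul.toAddMonoidHom E g) c v

/-- The action of an element as a linear map. -/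
def lin (g : D) : E →ₗ[ZMod p] E where
  toFun v := g • v
  map_add' := smul_add g
  map_smul' c v := smul_zmod g c v

@[simp] theorem lin_apply (g : D) (v : E) : lin (p := p) g v = g • v := rfl

/-- The contragredient action. -/
@[reducible] def dualAct : MulAction D (Module.Dual (ZMod p) E) where
  smul g f := f.comp (lin g⁻¹)
  one_smul f := LinearMap.ext fun v => show f ((1 : D)⁻¹ • v) = f v by rw [inv_one, one_smul]
  mul_smul g h f := LinearMap.ext fun v => show f ((g * h)⁻¹ • v) = f (h⁻¹ • g⁻¹ • v) by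
    rw [mul_inv_rev, mul_smul]

theorem finite_dual [Finite E] : Finite (Module.Dual (ZMod p) E) :=
  Finite.of_injective (fun f => (f : E → ZMod p)) DFunLike.coe_injective

theorem card_fixed_dual [Finite E] (g : D) :
    Nat.card {f : Module.Dual (ZMod p) E // f.comp (lin g⁻¹) = f} =
      Nat.card {e : E // g • e = e} := by
  set T : E →ₗ[ZMod p] E := lin g⁻¹ - LinearMap.id with hT
  have h1 : Nat.card {f : Module.Dual (ZMod p) E // f.comp (lin g⁻¹) = f} =
      Nat.card (LinearMap.range T).dualAnnihilator := by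
    refine Nat.card_congr (Equiv.subtypeEquivRight fun f => ?_)
    rw [Submodule.mem_dualAnnihilator]
    constructor
    · rintro h w ⟨v, rfl⟩
      have := LinearMap.congr_fun h v
      simp [hT] at this ⊢
      rw [this, sub_self]
    · intro h
      refine LinearMap.ext fun v => ?_
      have := h (T v) ⟨v, rfl⟩
      simp [hT] at this ⊢
      exact sub_eq_zero.mp this
  have h2 : Nat.card {e : E // g • e = e} = Nat.card (LinearMap.ker T) := by
    refine Nat.card_congr (Equiv.subtypeEquivRight fun e => ?_)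
    rw [LinearMap.mem_ker]
    show g • e = e ↔ g⁻¹ • e - e = 0
    rw [sub_eq_zero, inv_smul_eq_iff, eq_comm]
  rw [h1, h2, Module.natCard_eq_pow_finrank (K := ZMod p),
    Module.natCard_eq_pow_finrank (K := ZMod p) (V := LinearMap.ker T)]
  congr 1
  have h3 := Subspace.finrank_add_finrank_dualAnnihilator_eq (LinearMap.range T)
  have h4 := LinearMap.finrank_range_add_finrank_ker T
  omega

/-- Two orbits on the nonzero functionals. -/
theorem exists_dual_pair [Finite D] [Finite E] (h2 : TwoOrbits D E) :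
    letI := dualAct (D := D) (E := E) (p := p)
    ∃ f₀ f₁ : Module.Dual (ZMod p) E, f₀ ≠ 0 ∧ f₁ ≠ 0 ∧
      ∀ f, f ≠ 0 → f ∈ MulAction.orbit D f₀ ∨ f ∈ MulAction.orbit D f₁ := by
  classical
  letI := dualAct (D := D) (E := E) (p := p)
  haveI := finite_dual (E := E) (p := p)
  let := Fintype.ofFinite D
  let := Fintype.ofFinite E
  let := Fintype.ofFinite (Module.Dual (ZMod p) E)
  let := Fintype.ofFinite (MulAction.orbitRel.Quotient D E)
  let := Fintype.ofFinite (MulAction.orbitRel.Quotient D (Module.Dual (ZMod p) E))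
  have e1 := MulAction.sum_card_fixedBy_eq_card_orbits_mul_card_group D E
  have e2 := MulAction.sum_card_fixedBy_eq_card_orbits_mul_card_group D (Module.Dual (ZMod p) E)
  have e3 : ∀ g : D, Fintype.card (MulAction.fixedBy (Module.Dual (ZMod p) E) g) =
      Fintype.card (MulAction.fixedBy E g) := fun g => by
    rw [← Nat.card_eq_fintype_card, ← Nat.card_eq_fintype_card]
    exact card_fixed_dual g
  simp only [e3] at e2
  have e4 : Nat.card (MulAction.orbitRel.Quotient D (Module.Dual (ZMod p) E)) = 3 := by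
    rw [e1] at e2
    have e5 := Nat.eq_of_mul_eq_mul_right Fintype.card_pos e2
    rw [Nat.card_eq_fintype_card, ← e5, ← Nat.card_eq_fintype_card]
    obtain ⟨a, b, ha, hb, hab, hall⟩ := h2
    let m : Fin 3 → MulAction.orbitRel.Quotient D E :=
      ![Quotient.mk'' 0, Quotient.mk'' a, Quotient.mk'' b]
    have hm : Function.Bijective m := by
      have hz : ∀ v : E, v ∈ MulAction.orbit D (0 : E) → v = 0 := by
        rintro v ⟨g, rfl⟩; exact smul_zero g
      have hne : ∀ x y : E, x ∉ MulAction.orbit D y →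
          (Quotient.mk'' x : MulAction.orbitRel.Quotient D E) ≠ Quotient.mk'' y := fun x y hxy h =>
        hxy (MulAction.orbitRel_apply.mp (Quotient.exact' h))
      have n1 := hne a 0 fun h => ha (hz a h)
      have n2 := hne b 0 fun h => hb (hz b h)
      have n3 := hne b a hab
      constructor
      · intro i j hij
        fin_cases i <;> fin_cases j <;>
          first | rfl | exact absurd hij n1 | exact absurd hij.symm n1 | exact absurd hij n2 |
            exact absurd hij.symm n2 | exact absurd hij n3 | exact absurd hij.symm n3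
      · intro q
        induction q using Quotient.inductionOn' with
        | h v =>
          by_cases hv : v = 0
          · exact ⟨0, by rw [hv]; rfl⟩
          · rcases hall v hv with h | h
            · exact ⟨1, (Quotient.sound' (MulAction.orbitRel_apply.mpr h)).symm⟩
            · exact ⟨2, (Quotient.sound' (MulAction.orbitRel_apply.mpr h)).symm⟩
    rw [← Nat.card_eq_of_bijective m hm, Nat.card_fin]
  set z : MulAction.orbitRel.Quotient D (Module.Dual (ZMod p) E) := Quotient.mk'' 0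
  have e6 : (Finset.univ.erase z).card = 2 := by
    rw [Finset.card_erase_of_mem (Finset.mem_univ z), Finset.card_univ, ← Nat.card_eq_fintype_card, e4]
  obtain ⟨x, y, hxy, hs⟩ := Finset.card_eq_two.mp e6
  obtain ⟨f₀, rfl⟩ := Quotient.mk''_surjective x
  obtain ⟨f₁, rfl⟩ := Quotient.mk''_surjective y
  have hx : Quotient.mk'' f₀ ≠ z := Finset.ne_of_mem_erase (hs ▸ Finset.mem_insert_self _ _)
  have hy : Quotient.mk'' f₁ ≠ z :=
    Finset.ne_of_mem_erase (hs ▸ Finset.mem_insert_of_mem (Finset.mem_singleton_self _))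
  refine ⟨f₀, f₁, fun h => hx (by rw [h]), fun h => hy (by rw [h]), fun f hf => ?_⟩
  have hfz : (Quotient.mk'' f : MulAction.orbitRel.Quotient D _) ≠ z := fun h => hf (by
    obtain ⟨g, hg⟩ := MulAction.orbitRel_apply.mp (Quotient.exact' h)
    rw [← hg]; exact LinearMap.ext fun v => rfl)
  have hm : (Quotient.mk'' f : MulAction.orbitRel.Quotient D _) ∈ Finset.univ.erase z :=
    Finset.mem_erase.mpr ⟨hfz, Finset.mem_univ _⟩
  rw [hs, Finset.mem_insert, Finset.mem_singleton] at hm
  exact hm.imp (fun h => MulAction.orbitRel_apply.mp (Quotient.exact' h))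
    (fun h => MulAction.orbitRel_apply.mp (Quotient.exact' h))

variable {M : Type*} [AddCommGroup M] [Module (ZMod p) M]

theorem card_line [DecidableEq M] {v : M} (hv : v ≠ 0) :
    ((Finset.univ : Finset (ZMod p)ˣ).image fun c : (ZMod p)ˣ => (c : ZMod p) • v).card = p - 1 := by
  rw [Finset.card_image_of_injective _
    (fun c d h => Units.ext (smul_left_injective _ hv h)), Finset.card_univ, ZMod.card_units p]

/-- A set of nonzero vectors closed under the nonzero scalars is a union of punctured lines. -/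
theorem dvd_card_of_closed [DecidableEq M] (S : Finset M) :
    (0 : M) ∉ S → (∀ v ∈ S, ∀ c : ZMod p, c ≠ 0 → c • v ∈ S) → p - 1 ∣ S.card := by
  induction S using Finset.strongInduction with
  | H S ih =>
    intro h0 hc
    rcases S.eq_empty_or_nonempty with rfl | ⟨v, hv⟩
    · simp
    set L := (Finset.univ : Finset (ZMod p)ˣ).image fun c : (ZMod p)ˣ => (c : ZMod p) • v with hL
    have hLS : L ⊆ S := fun w hw => by
      obtain ⟨c, -, rfl⟩ := Finset.mem_image.mp hw; exact hc v hv c c.ne_zero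
    have hvL : v ∈ L := Finset.mem_image.mpr ⟨1, Finset.mem_univ _, by simp⟩
    have hlt : S \ L ⊂ S := Finset.sdiff_ssubset hLS ⟨v, hvL⟩
    have h1 : p - 1 ∣ (S \ L).card := by
      refine ih _ hlt (fun h => h0 (Finset.mem_sdiff.mp h).1) fun w hw c hc0 => ?_
      rw [Finset.mem_sdiff] at hw ⊢
      refine ⟨hc w hw.1 c hc0, fun h => hw.2 ?_⟩
      obtain ⟨d, -, hd⟩ := Finset.mem_image.mp h
      refine Finset.mem_image.mpr ⟨(Units.mk0 c hc0)⁻¹ * d, Finset.mem_univ _, ?_⟩
      rw [Units.val_mul, mul_smul, hd, smul_smul]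
      simp [hc0]
    have hLc : L.card = p - 1 := card_line (p := p) (hv := fun h => h0 (h ▸ hv))
    rw [← Finset.card_sdiff_add_card_eq_card hLS, hLc]
    exact Nat.dvd_add h1 dvd_rfl

theorem finrank_eq [Finite E] {n : ℕ} (hcard : Nat.card E = p ^ n) :
    Module.finrank (ZMod p) E = n := by
  haveI hfd : Module.Finite (ZMod p) E := Module.Finite.of_finite
  have h := Module.natCard_eq_pow_finrank (K := ZMod p) (V := E)
  rw [hcard, Nat.card_zmod] at h
  exact (Nat.pow_right_injective (Fact.out : p.Prime).two_le h).symm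

theorem card_ann [Finite E] {n : ℕ} (hn : Module.finrank (ZMod p) E = n) (s : Set E) :
    Nat.card {f : Module.Dual (ZMod p) E // ∀ u ∈ s, f u = 0} =
      p ^ (n - Module.finrank (ZMod p) (Submodule.span (ZMod p) s)) := by
  haveI := finite_dual (E := E) (p := p)
  have h1 : Nat.card {f : Module.Dual (ZMod p) E // ∀ u ∈ s, f u = 0} =
      Nat.card (Submodule.span (ZMod p) s).dualAnnihilator := by
    refine Nat.card_congr (Equiv.subtypeEquivRight fun f => ?_)
    rw [Submodule.mem_dualAnnihilator]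
    exact ⟨fun h w hw => by
      have : Submodule.span (ZMod p) s ≤ LinearMap.ker f := Submodule.span_le.mpr fun u hu => h u hu
      exact this hw, fun h u hu => h u (Submodule.subset_span hu)⟩
  rw [h1, Module.natCard_eq_pow_finrank (K := ZMod p), Nat.card_zmod]
  congr 1
  have h3 := Subspace.finrank_add_finrank_dualAnnihilator_eq (Submodule.span (ZMod p) s)
  omega

theorem exp_eq {i j x y : ℕ} (hx : ¬ p ∣ x) (hy : ¬ p ∣ y) (h : p ^ i * x = p ^ j * y) : i = j := by
  have key : ∀ {i j x y : ℕ}, ¬ p ∣ x → p ^ i * x = p ^ j * y → j ≤ i := by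
    intro i j x y hx h
    by_contra hij
    obtain ⟨k, rfl⟩ := Nat.exists_eq_add_of_lt (not_le.mp hij)
    rw [pow_succ, pow_add, mul_assoc, mul_assoc] at h
    have := Nat.eq_of_mul_eq_mul_left (pow_pos (Fact.out : p.Prime).pos i) h
    exact hx (this ▸ dvd_mul_of_dvd_right (dvd_mul_right p y) _)
  exact le_antisymm (key hy h.symm) (key hx h)

theorem finish {n α a b a' b' : ℕ} (hn : 2 ≤ n) (δ M x : ℤ) (hα : a = (p - 1) * α)
    (hab : a + b = p ^ n - 1) (hab' : a' + b' = p ^ n - 1)
    (hpa : ¬ p ∣ a) (hpb : ¬ p ∣ b) (hpa' : ¬ p ∣ a') (hpb' : ¬ p ∣ b')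
    (hV : δ ^ 2 * a' * b' = (p : ℤ) ^ (n - 2) * a * b) (hx : δ * x = (p : ℤ) ^ (n - 2))
    (hS : M * ((p : ℤ) ^ n - 1) + δ * a' = α * ((p : ℤ) ^ (n - 1) - 1)) :
    ∃ m, n = 2 * m ∧ (p ^ m + 1 ∣ a ∨ p ^ m - 1 ∣ a) := by
  have hp : p.Prime := Fact.out
  obtain ⟨e, -, he⟩ : ∃ e ≤ n - 2, δ.natAbs = p ^ e :=
    (Nat.dvd_prime_pow hp).mp ⟨x.natAbs, by
      have := congrArg Int.natAbs hx
      simpa [Int.natAbs_mul, Int.natAbs_pow] using this.symm⟩
  have hN : p ^ (2 * e) * (a' * b') = p ^ (n - 2) * (a * b) := by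
    have := congrArg Int.natAbs hV
    simp only [Int.natAbs_mul, Int.natAbs_pow, Int.natAbs_natCast, he] at this
    rw [mul_comm 2 e, pow_mul]
    linarith
  have h2e : 2 * e = n - 2 := exp_eq (hp.not_dvd_mul hpa' hpb') (hp.not_dvd_mul hpa hpb) hN
  rw [h2e] at hN
  have hprod := Nat.eq_of_mul_eq_mul_left (pow_pos hp.pos _) hN
  have hor : a' = a ∨ a' = b := by
    have h1 : ((a' : ℤ) - a) * ((a' : ℤ) - b) = 0 := by
      have hs : (a' : ℤ) + b' = a + b := by exact_mod_cast hab'.trans hab.symm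
      have hm : (a' : ℤ) * b' = a * b := by exact_mod_cast hprod
      linear_combination (a' : ℤ) * hs - hm
    rcases mul_eq_zero.mp h1 with h | h <;> [left; right] <;> omega
  refine ⟨e + 1, by omega, ?_⟩
  set P : ℤ := (p : ℤ) ^ (e + 1) with hP
  have hq : (p : ℤ) ^ n = P * P := by rw [hP, ← pow_add]; congr 1; omega
  have hpn : (p : ℤ) ^ n = p * (p : ℤ) ^ (n - 1) := by rw [← pow_succ']; congr 1; omega
  have hP1 : 1 < P := by
    rw [hP]; exact one_lt_pow₀ (by exact_mod_cast hp.one_lt) (by omega)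
  have haZ : (a : ℤ) = ((p : ℤ) - 1) * α := by
    rw [hα, Nat.cast_mul, Nat.cast_sub hp.one_le, Nat.cast_one]
  have hbZ : (b : ℤ) = P * P - 1 - a := by
    rw [← hq]
    have : ((a + b : ℕ) : ℤ) = ((p ^ n - 1 : ℕ) : ℤ) := by rw [hab]
    rw [Nat.cast_add, Nat.cast_sub (Nat.one_le_pow _ _ hp.pos)] at this
    push_cast at this
    linarith
  have key : (a : ℤ) + δ * p * a' = ((α : ℤ) - p * M) * (P * P - 1) := by
    rw [← hq]
    linear_combination (p : ℤ) * hS + haZ - (α : ℤ) * hpn
  have hm1 : ((p ^ (e + 1) - 1 : ℕ) : ℤ) = P - 1 := by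
    rw [Nat.cast_sub (Nat.one_le_pow _ _ hp.pos), hP]; push_cast; rfl
  have hm2 : ((p ^ (e + 1) + 1 : ℕ) : ℤ) = P + 1 := by rw [hP]; push_cast; rfl
  have hd : δ * p = P ∨ δ * p = -P := by
    rcases Int.natAbs_eq δ with h | h <;> [left; right] <;>
      rw [h, he, hP, pow_succ] <;> push_cast <;> ring
  set k : ℤ := (α : ℤ) - p * M
  have hR : ∀ c : ℤ, (a : ℤ) * (P + 1) = c * ((P - 1) * (P + 1)) → p ^ (e + 1) - 1 ∣ a := fun c h => by
    rw [← Int.natCast_dvd_natCast, hm1]
    exact ⟨c, mul_right_cancel₀ (show P + 1 ≠ 0 by omega) (by linear_combination h)⟩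
  have hL : ∀ c : ℤ, (a : ℤ) * (P - 1) = c * ((P - 1) * (P + 1)) → p ^ (e + 1) + 1 ∣ a := fun c h => by
    rw [← Int.natCast_dvd_natCast, hm2]
    exact ⟨c, mul_right_cancel₀ (show P - 1 ≠ 0 by omega) (by linear_combination h)⟩
  rcases hor with h | h <;> rcases hd with hd | hd <;> rw [h, hd] at key
  · exact Or.inr (hR k (by linear_combination key))
  · exact Or.inl (hL (-k) (by linear_combination -key))
  · rw [hbZ] at key
    exact Or.inl (hL (P - k) (by linear_combination -key))
  · rw [hbZ] at key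
    exact Or.inr (hR (P + k) (by linear_combination key))

set_option maxHeartbeats 1600000 in
open scoped Classical in
theorem core [Finite D] [Finite E] {n : ℕ} (hrank : Module.finrank (ZMod p) E = n)
    (hn : 2 ≤ n) (hcard : Nat.card E = p ^ n) (hD : ¬ p ∣ Nat.card D) (h2 : TwoOrbits D E)
    {a : E} (ha : a ≠ 0) (hs : ∀ c : ZMod p, c ≠ 0 → c • a ∈ MulAction.orbit D a) :
    ∃ m, n = 2 * m ∧
      (p ^ m + 1 ∣ (MulAction.orbit D a).ncard ∨ p ^ m - 1 ∣ (MulAction.orbit D a).ncard) := by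
  have hp : p.Prime := Fact.out
  obtain ⟨b, hb, hab, hall⟩ := orbit_cases h2 ha
  letI := dualAct (D := D) (E := E) (p := p)
  haveI := finite_dual (E := E) (p := p)
  obtain ⟨f₀, f₁, hf₀, hf₁, hdual⟩ := exists_dual_pair (p := p) h2
  let := Fintype.ofFinite E
  let := Fintype.ofFinite (Module.Dual (ZMod p) E)
  set O : Finset E := Finset.univ.filter (· ∈ MulAction.orbit D a) with hO
  set R : Finset E := Finset.univ.filter (· ∈ MulAction.orbit D b) with hR
  set F : Finset (Module.Dual (ZMod p) E) := Finset.univ.filter (· ≠ 0) with hF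
  have hmemO : ∀ v, v ∈ O ↔ v ∈ MulAction.orbit D a := fun v => by simp [hO]
  have hO0 : ∀ v ∈ O, v ≠ 0 := fun v hv => by
    obtain ⟨g, rfl⟩ := (hmemO v).mp hv; exact fun h => ha ((smul_eq_zero_iff_eq g).mp h)
  have hOc : ∀ v ∈ O, ∀ c : ZMod p, c ≠ 0 → c • v ∈ O := fun v hv c hc => by
    obtain ⟨g, rfl⟩ := (hmemO v).mp hv
    rw [hmemO, ← smul_zmod]; exact MulAction.mem_orbit_of_mem_orbit g (hs c hc)
  have hcO : (MulAction.orbit D a).ncard = O.card := by
    rw [← Set.ncard_coe_finset]; congr 1; ext v; simp [hO]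
  have hcR : (MulAction.orbit D b).ncard = R.card := by
    rw [← Set.ncard_coe_finset]; congr 1; ext v; simp [hR]
  have hOR : O.card + R.card = p ^ n - 1 := by
    have hdis : Disjoint O R := by
      rw [Finset.disjoint_left]
      intro v hv hv'
      simp only [hR, Finset.mem_filter, Finset.mem_univ, true_and] at hv'
      exact hab (MulAction.orbit_eq_iff.mp
        ((MulAction.orbit_eq_iff.mpr hv').symm.trans (MulAction.orbit_eq_iff.mpr ((hmemO v).mp hv))))
    rw [← Finset.card_union_of_disjoint hdis, ← hcard, Nat.card_eq_fintype_card,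
      ← Finset.card_univ, ← Finset.card_erase_of_mem (Finset.mem_univ (0 : E))]
    congr 1
    ext v
    simp only [Finset.mem_union, Finset.mem_erase, Finset.mem_univ, and_true]
    refine ⟨fun h h0 => ?_, fun h => ?_⟩
    · rcases h with h | h
      · exact hO0 v h h0
      · simp only [hR, Finset.mem_filter, Finset.mem_univ, true_and] at h
        obtain ⟨g, hg⟩ := h
        subst h0
        exact hb ((smul_eq_zero_iff_eq g).mp hg)
    · simpa [hO, hR] using hall v h
  set N : Module.Dual (ZMod p) E → ℕ := fun f => (O.filter fun v => f v = 0).card with hN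
  have hNinv : ∀ f f', f' ∈ MulAction.orbit D f → N f' = N f := by
    rintro f _ ⟨g, rfl⟩
    refine Finset.card_nbij' (fun v => g⁻¹ • v) (fun v => g • v) ?_ ?_ ?_ ?_
    · intro v hv
      simp only [Finset.coe_filter, Set.mem_ofPred_eq, hmemO] at hv ⊢
      exact ⟨MulAction.mem_orbit_of_mem_orbit _ hv.1, hv.2⟩
    · intro v hv
      simp only [Finset.coe_filter, Set.mem_ofPred_eq, hmemO] at hv ⊢
      refine ⟨MulAction.mem_orbit_of_mem_orbit _ hv.1, ?_⟩
      show f (g⁻¹ • g • v) = 0
      rw [inv_smul_smul]; exact hv.2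
    · intro v _; exact smul_inv_smul g v
    · intro v _; exact inv_smul_smul g v
  have hNs : ∀ f (c : ZMod p), c ≠ 0 → N (c • f) = N f := fun f c hc => by
    simp only [hN]; congr 1; ext v; simp [hc]
  have hNd : ∀ f, p - 1 ∣ N f := fun f => by
    refine dvd_card_of_closed _ (fun h => hO0 0 (Finset.mem_filter.mp h).1 rfl) fun v hv c hc => ?_
    rw [Finset.mem_filter] at hv ⊢
    exact ⟨hOc v hv.1 c hc, by rw [map_smul, hv.2, smul_zero]⟩
  -- how many nonzero functionals vanish on a set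
  have hann : ∀ (P : Module.Dual (ZMod p) E → Prop) [DecidablePred P], P 0 → ∀ s : Set E,
      (∀ f, P f ↔ ∀ u ∈ s, f u = 0) → ∀ k, Module.finrank (ZMod p) (Submodule.span (ZMod p) s) = k →
      ((F.filter P).card : ℤ) = (p : ℤ) ^ (n - k) - 1 := by
    intro P _ h0 s hP k hk
    have h1 : F.filter P = (Finset.univ.filter P).erase 0 := by ext f; simp [hF]
    rw [h1, Finset.card_erase_of_mem (by simp [h0])]
    have h3 : (Finset.univ.filter P).card = p ^ (n - k) := by
      rw [← Fintype.card_subtype, ← Nat.card_eq_fintype_card, ← hk, ← card_ann hrank s]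
      exact Nat.card_congr (Equiv.subtypeEquivRight hP)
    rw [h3, Nat.cast_sub (Nat.one_le_pow _ _ hp.pos)]
    push_cast; rfl
  set P1 : ℤ := (p : ℤ) ^ (n - 1) - 1 with hP1
  set P2 : ℤ := (p : ℤ) ^ (n - 2) - 1 with hP2
  have c1 : ∀ u : E, u ≠ 0 → ((F.filter fun f => f u = 0).card : ℤ) = P1 := fun u hu =>
    hann (fun f => f u = 0) (by simp) {u} (by simp) 1 (finrank_span_singleton hu)
  have c2 : ∀ u v : E, u ≠ 0 → ((F.filter fun f => f u = 0 ∧ f v = 0).card : ℤ) =
      if v ∈ Submodule.span (ZMod p) ({u} : Set E) then P1 else P2 := by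
    intro u v hu
    split_ifs with hv
    · refine hann (fun f => f u = 0 ∧ f v = 0) (by simp) {u} (fun f => ?_) 1 (finrank_span_singleton hu)
      simp only [Set.mem_singleton_iff, forall_eq, and_iff_left_iff_imp]
      intro h
      obtain ⟨c, rfl⟩ := Submodule.mem_span_singleton.mp hv
      rw [map_smul, h, smul_zero]
    · refine hann (fun f => f u = 0 ∧ f v = 0) (by simp) {u, v} (fun f => by simp) 2 ?_
      have hli : LinearIndependent (ZMod p) ![u, v] :=
        (LinearIndependent.pair_iff' hu).mpr fun c hc =>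
          hv (Submodule.mem_span_singleton.mpr ⟨c, hc⟩)
      have := finrank_span_eq_card hli
      rwa [Matrix.range_cons, Matrix.range_cons, Matrix.range_empty, Set.union_empty,
        Set.singleton_union, Fintype.card_fin] at this
  set L : E → ℕ := fun u => (O.filter (· ∈ Submodule.span (ZMod p) ({u} : Set E))).card with hL
  have hLO : ∀ u ∈ O, L u = p - 1 := fun u hu => by
    simp only [hL]
    rw [← card_line (p := p) (hv := hO0 u hu)]
    congr 1
    ext v
    simp only [Finset.mem_filter, Finset.mem_image, Finset.mem_univ, true_and,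
      Submodule.mem_span_singleton]
    constructor
    · rintro ⟨hv, c, rfl⟩
      exact ⟨Units.mk0 c fun h => hO0 _ hv (by rw [h, zero_smul]), rfl⟩
    · rintro ⟨c, rfl⟩; exact ⟨hOc u hu c c.ne_zero, c, rfl⟩
  have hLb : L b = 0 := by
    simp only [hL, Finset.card_eq_zero, Finset.filter_eq_empty_iff]
    intro v hv hvs
    obtain ⟨c, rfl⟩ := Submodule.mem_span_singleton.mp hvs
    have hc : c ≠ 0 := fun h => hO0 _ hv (by rw [h, zero_smul])
    have := hOc _ hv c⁻¹ (inv_ne_zero hc)
    rw [inv_smul_smul₀ hc] at this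
    exact hab ((hmemO b).mp this)
  have pairs : ∀ u : E, u ≠ 0 →
      ∑ f ∈ F.filter (fun f => f u = 0), (N f : ℤ) = L u * P1 + ((O.card : ℤ) - L u) * P2 := by
    intro u hu
    have h1 : ∀ f, (N f : ℤ) = ∑ v ∈ O, if f v = 0 then (1 : ℤ) else 0 := fun f => by
      rw [Finset.sum_boole]
    simp only [h1]
    rw [Finset.sum_comm]
    simp only [Finset.sum_boole, Finset.filter_filter, c2 u _ hu]
    rw [Finset.sum_ite, Finset.sum_const, Finset.sum_const]
    simp only [nsmul_eq_mul]
    have h3 := Finset.card_filter_add_card_filter_not (s := O)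
      (fun v => v ∈ Submodule.span (ZMod p) ({u} : Set E))
    have h4 : ((L u : ℤ)) + (O.filter fun v => v ∉ Submodule.span (ZMod p) ({u} : Set E)).card =
        O.card := by exact_mod_cast h3
    rw [← h4]; ring
  have h1N : ∑ f ∈ F, (N f : ℤ) = (O.card : ℤ) * P1 := by
    have h1 : ∀ f, (N f : ℤ) = ∑ v ∈ O, if f v = 0 then (1 : ℤ) else 0 := fun f => by
      rw [Finset.sum_boole]
    simp only [h1]
    rw [Finset.sum_comm]
    simp only [Finset.sum_boole]
    rw [Finset.sum_congr rfl (fun v hv => c1 v (hO0 v hv)), Finset.sum_const, nsmul_eq_mul]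
  have h2N : ∑ f ∈ F, (N f : ℤ) ^ 2 =
      (O.card : ℤ) * (((p : ℤ) - 1) * P1 + ((O.card : ℤ) - ((p : ℤ) - 1)) * P2) := by
    have h1 : ∀ f, (N f : ℤ) ^ 2 = ∑ u ∈ O, if f u = 0 then (N f : ℤ) else 0 := fun f => by
      rw [← Finset.sum_filter, Finset.sum_const, nsmul_eq_mul, sq]
    simp only [h1]
    rw [Finset.sum_comm]
    simp only [← Finset.sum_filter]
    rw [Finset.sum_congr rfl (fun u hu => by
      rw [pairs u (hO0 u hu), hLO u hu, Nat.cast_sub hp.one_le, Nat.cast_one]),
      Finset.sum_const, nsmul_eq_mul]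
  -- the two values
  set A := F.filter fun f => N f = N f₀ with hA
  set B := F.filter fun f => ¬ N f = N f₀ with hB
  have hBv : ∀ f ∈ B, N f = N f₁ := by
    intro f hf
    simp only [hB, hF, Finset.mem_filter, Finset.mem_univ, true_and] at hf
    rcases hdual f hf.1 with h | h
    · exact absurd (hNinv _ _ h) hf.2
    · exact hNinv _ _ h
  have hAv : ∀ f ∈ A, N f = N f₀ := fun f hf => (Finset.mem_filter.mp hf).2
  have hFc : (F.card : ℤ) = (p : ℤ) ^ n - 1 := by
    have := hann (fun _ => True) trivial ∅ (by simp) 0 (by simp)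
    simpa using this
  have hABc : (A.card : ℤ) + B.card = (p : ℤ) ^ n - 1 := by
    rw [← hFc]; exact_mod_cast Finset.card_filter_add_card_filter_not _
  have sumAB : ∀ φ : ℤ → ℤ,
      ∑ f ∈ F, φ (N f) = A.card * φ (N f₀) + B.card * φ (N f₁) := by
    intro φ
    have hA' : ∑ f ∈ A, φ (N f) = A.card * φ (N f₀) := by
      rw [Finset.sum_congr rfl (fun f hf => congrArg (fun k : ℕ => φ k) (hAv f hf)),
        Finset.sum_const, nsmul_eq_mul]
    have hB' : ∑ f ∈ B, φ (N f) = B.card * φ (N f₁) := by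
      rw [Finset.sum_congr rfl (fun f hf => congrArg (fun k : ℕ => φ k) (hBv f hf)),
        Finset.sum_const, nsmul_eq_mul]
    rw [← Finset.sum_filter_add_sum_filter_not F (fun f => N f = N f₀), ← hA, ← hB, hA', hB']
  have s1 := (sumAB id).symm.trans h1N
  have s2 := (sumAB (· ^ 2)).symm.trans h2N
  simp only [id_eq] at s1
  obtain ⟨M0, hM0⟩ := hNd f₀
  obtain ⟨M1, hM1⟩ := hNd f₁
  obtain ⟨α, hα⟩ : p - 1 ∣ O.card :=
    dvd_card_of_closed _ (fun h => hO0 0 h rfl) hOc
  have hp1 : ((p - 1 : ℕ) : ℤ) = (p : ℤ) - 1 := by rw [Nat.cast_sub hp.one_le, Nat.cast_one]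
  have hpz : (p : ℤ) - 1 ≠ 0 := by
    have := hp.two_le; omega
  have e0 : (N f₀ : ℤ) = ((p : ℤ) - 1) * M0 := by rw [hM0, Nat.cast_mul, hp1]
  have e1 : (N f₁ : ℤ) = ((p : ℤ) - 1) * M1 := by rw [hM1, Nat.cast_mul, hp1]
  have eα : (O.card : ℤ) = ((p : ℤ) - 1) * α := by rw [hα, Nat.cast_mul, hp1]
  have hpow1 : (p : ℤ) ^ n = p * (p : ℤ) ^ (n - 1) := by rw [← pow_succ']; congr 1; omega
  have hpow2 : (p : ℤ) ^ (n - 1) = p * (p : ℤ) ^ (n - 2) := by rw [← pow_succ']; congr 1; omega
  have hORz : (O.card : ℤ) + R.card = (p : ℤ) ^ n - 1 := by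
    have : ((O.card + R.card : ℕ) : ℤ) = ((p ^ n - 1 : ℕ) : ℤ) := by rw [hOR]
    rw [Nat.cast_add, Nat.cast_sub (Nat.one_le_pow _ _ hp.pos)] at this
    push_cast at this
    exact this
  set δ : ℤ := (M0 : ℤ) - M1 with hδ
  have hV : δ ^ 2 * A.card * B.card = (p : ℤ) ^ (n - 2) * O.card * R.card := by
    refine mul_left_cancel₀ (pow_ne_zero 2 hpz) ?_
    have hh : ((N f₀ : ℤ) - N f₁) ^ 2 * A.card * B.card =
        ((A.card : ℤ) + B.card) * ((A.card : ℤ) * (N f₀ : ℤ) ^ 2 + B.card * (N f₁ : ℤ) ^ 2) -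
          ((A.card : ℤ) * N f₀ + B.card * N f₁) ^ 2 := by ring
    rw [s1, s2, hABc, e0, e1] at hh
    have hR' : (R.card : ℤ) = (p : ℤ) ^ n - 1 - O.card := by linarith
    rw [hR', hpow1, hpow2]
    rw [hP1, hP2, hpow1, hpow2] at hh
    linear_combination hh
  have hne : N f₀ ≠ N f₁ := by
    intro h
    have hδ0 : δ = 0 := by
      have : (N f₀ : ℤ) = N f₁ := by rw [h]
      rw [e0, e1] at this
      rw [hδ, mul_left_cancel₀ hpz this, sub_self]
    rw [hδ0] at hV
    have hpos : (0 : ℤ) < (p : ℤ) ^ (n - 2) * O.card * R.card := by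
      have q1 : (0 : ℤ) < O.card := by
        exact_mod_cast Finset.card_pos.mpr ⟨a, (hmemO a).mpr (MulAction.mem_orbit_self a)⟩
      have q2 : (0 : ℤ) < R.card := by
        exact_mod_cast Finset.card_pos.mpr ⟨b, by simp [hR]⟩
      have q3 : (0 : ℤ) < (p : ℤ) ^ (n - 2) := pow_pos (by exact_mod_cast hp.pos) _
      exact mul_pos (mul_pos q3 q1) q2
    rw [← hV, zero_pow two_ne_zero, zero_mul, zero_mul] at hpos
    exact lt_irrefl _ hpos
  have hAorb : (MulAction.orbit D f₀).ncard = A.card := by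
    rw [← Set.ncard_coe_finset]; congr 1; ext f
    simp only [hA, hF, Finset.coe_filter, Finset.mem_filter, Finset.mem_univ, true_and,
      Set.mem_ofPred_eq]
    refine ⟨fun h => ⟨fun h0 => ?_, hNinv _ _ h⟩, fun h => ?_⟩
    · subst h0
      obtain ⟨g, hg⟩ := MulAction.mem_orbit_symm.mp h
      exact hf₀ (by rw [← hg]; exact LinearMap.ext fun v => rfl)
    · exact (hdual f h.1).resolve_right fun h' => hne (h.2.symm.trans (hNinv _ _ h'))
  have hBorb : (MulAction.orbit D f₁).ncard = B.card := by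
    rw [← Set.ncard_coe_finset]; congr 1; ext f
    simp only [hB, hF, Finset.coe_filter, Finset.mem_filter, Finset.mem_univ, true_and,
      Set.mem_ofPred_eq]
    refine ⟨fun h => ⟨fun h0 => ?_, fun h' => hne (h'.symm.trans (hNinv _ _ h))⟩, fun h => ?_⟩
    · subst h0
      obtain ⟨g, hg⟩ := MulAction.mem_orbit_symm.mp h
      exact hf₁ (by rw [← hg]; exact LinearMap.ext fun v => rfl)
    · exact (hdual f h.1).resolve_left fun h' => h.2 (hNinv _ _ h')
  -- the difference between the two kinds of points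
  set X : E → ℕ := fun u => (A.filter fun f => f u = 0).card with hX
  have hXd : ∀ u, p - 1 ∣ X u := fun u => by
    refine dvd_card_of_closed _ (by simp [hA, hF]) fun f hf c hc => ?_
    simp only [hA, hF, Finset.mem_filter, Finset.mem_univ, true_and] at hf ⊢
    exact ⟨⟨smul_ne_zero hc hf.1.1, by rw [hNs f c hc]; exact hf.1.2⟩,
      by rw [LinearMap.smul_apply, hf.2, smul_zero]⟩
  have sumX : ∀ u : E, u ≠ 0 → ∑ f ∈ F.filter (fun f => f u = 0), (N f : ℤ) =
      X u * ((N f₀ : ℤ) - N f₁) + P1 * N f₁ := by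
    intro u hu
    have h5 : ∀ f ∈ F.filter (fun f => f u = 0),
        (N f : ℤ) = (if N f = N f₀ then (N f₀ : ℤ) - N f₁ else 0) + N f₁ := by
      intro f hf
      split_ifs with h
      · rw [h]; ring
      · rw [hBv f (Finset.mem_filter.mpr ⟨(Finset.mem_filter.mp hf).1, h⟩)]; ring
    rw [Finset.sum_congr rfl h5, Finset.sum_add_distrib, Finset.sum_const, nsmul_eq_mul, c1 u hu,
      ← Finset.sum_filter, Finset.sum_const, nsmul_eq_mul]
    simp only [hX, hA, Finset.filter_filter, and_comm]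
  obtain ⟨xa, hxa⟩ := hXd a
  obtain ⟨xb, hxb⟩ := hXd b
  have hx : δ * ((xa : ℤ) - xb) = (p : ℤ) ^ (n - 2) := by
    refine mul_left_cancel₀ (pow_ne_zero 2 hpz) ?_
    have ha' := (sumX a ha).symm.trans (pairs a ha)
    have hb' := (sumX b hb).symm.trans (pairs b hb)
    rw [hLO a ((hmemO a).mpr (MulAction.mem_orbit_self a)), hxa, e0, e1, Nat.cast_mul, hp1] at ha'
    rw [hLb, hxb, e0, e1, Nat.cast_mul, hp1, Nat.cast_zero] at hb'
    rw [hP1, hP2, hpow2] at ha' hb'
    linear_combination ha' - hb'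
  have hS : (M1 : ℤ) * ((p : ℤ) ^ n - 1) + δ * A.card = α * ((p : ℤ) ^ (n - 1) - 1) := by
    refine mul_left_cancel₀ hpz ?_
    rw [e0, e1, eα] at s1
    rw [← hABc, ← hP1]
    linear_combination s1
  rw [hcO]
  refine finish (p := p) hn δ M1 (((xa : ℤ)) - xb) hα hOR ?_ (hcO ▸ not_dvd_orbit hD a)
    (hcR ▸ not_dvd_orbit hD b) (hAorb ▸ not_dvd_orbit hD f₀) (hBorb ▸ not_dvd_orbit hD f₁)
    hV hx hS
  have := hABc
  have h1 : ((A.card + B.card : ℕ) : ℤ) = ((p ^ n - 1 : ℕ) : ℤ) := by
    rw [Nat.cast_add, Nat.cast_sub (Nat.one_le_pow _ _ hp.pos)]; push_cast; exact this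
  exact_mod_cast h1

end Srg

variable {D E : Type*} [Group D] [Finite D] [AddCommGroup E] [Finite E] [DistribMulAction D E]
  {p : ℕ} [Fact p.Prime] {n : ℕ}

/-- A coprime linear group with two orbits on the nonzero vectors is irreducible. -/
theorem irreducible_of_two (hcard : Nat.card E = p ^ n) (hD : ¬ p ∣ Nat.card D)
    (h2 : TwoOrbits D E) (W : AddSubgroup E) (hW : ∀ (g : D) (w : E), w ∈ W → g • w ∈ W) :
    W = ⊥ ∨ W = ⊤ := by
  by_contra hcon
  rw [not_or] at hcon
  obtain ⟨hb, ht⟩ := hcon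
  obtain ⟨w, hw, hw0⟩ := (W.bot_or_exists_ne_zero).resolve_left hb
  obtain ⟨u, hu⟩ : ∃ u, u ∉ W := by
    by_contra h; push Not at h; exact ht (eq_top_iff.mpr fun x _ => h x)
  have hu0 : u ≠ 0 := fun h => hu (h ▸ W.zero_mem)
  obtain ⟨b, -, -, hall⟩ := Srg.orbit_cases h2 hw0
  have hout : ∀ e, e ∉ W → e ∈ MulAction.orbit D b := fun e he =>
    (hall e fun h => he (h ▸ W.zero_mem)).resolve_left fun ⟨g, hg⟩ => he (hg ▸ hW g w hw)
  have hset : MulAction.orbit D u = {e | e ∉ W} := by
    ext e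
    refine ⟨?_, fun he => ?_⟩
    · rintro ⟨g, rfl⟩ hg
      exact hu (by simpa using hW g⁻¹ _ hg)
    · rw [MulAction.orbit_eq_iff.mpr (hout u hu)]; exact hout e he
  apply Srg.not_dvd_orbit hD u
  rw [hset]
  have hc : ({e | e ∉ W} : Set E).ncard = Nat.card E - Nat.card W := by
    rw [show ({e | e ∉ W} : Set E) = (W : Set E)ᶜ from rfl, Set.ncard_compl]
    rfl
  rw [hc, hcard]
  have hWd : Nat.card W ∣ p ^ n := hcard ▸ AddSubgroup.card_addSubgroup_dvd_card W
  obtain ⟨j, hjn, hj⟩ := (Nat.dvd_prime_pow Fact.out).mp hWd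
  have hj0 : j ≠ 0 := fun h => hb (AddSubgroup.eq_bot_of_card_eq W (by rw [hj, h, pow_zero]))
  rw [hj]
  exact Nat.dvd_sub (dvd_pow_self p (by omega)) (dvd_pow_self p hj0)

/-- The orbit of a point whose line it contains: the arithmetic of the rank three graph. -/
theorem orbit_arith (hE : ∀ e : E, p • e = 0) (hcard : Nat.card E = p ^ n)
    (hD : ¬ p ∣ Nat.card D) (h2 : TwoOrbits D E) (hn : 2 ≤ n) {a : E} (ha : a ≠ 0)
    (hs : ∀ c : ℕ, ¬ p ∣ c → c • a ∈ MulAction.orbit D a) :
    ∃ m, n = 2 * m ∧ (p ^ m + 1 ∣ Nat.card (MulAction.orbit D a) ∨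
      p ^ m - 1 ∣ Nat.card (MulAction.orbit D a)) := by
  letI : Module (ZMod p) E := AddCommGroup.zmodModule hE
  have hrank : Module.finrank (ZMod p) E = n := Srg.finrank_eq hcard
  rw [Nat.card_coe_set_eq]
  refine Srg.core hrank hn hcard hD h2 ha fun c hc => ?_
  have : c.val • a = c • a := by rw [← Nat.cast_smul_eq_nsmul (ZMod p), ZMod.natCast_zmod_val]
  rw [← this]
  refine hs _ fun hd => hc ?_
  rw [← ZMod.natCast_zmod_val c]
  exact (ZMod.natCast_eq_zero_iff _ _).mpr hd |>.trans rfl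

end CfsgLib.KpThree
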