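import Cfsg.Agent.Lib.KpThree.Defs
import Cfsg.Agent.Lib.Zsigmondy.Basic
import Cfsg.Agent.Lib.KpRegular.Semilinear
import Cfsg.Agent.Lib.KgvTrans.SylowDegree
import Cfsg.Agent.Lib.Zassenhaus.Transfer
import Cfsg.Agent.S0185
import Mathlib.LinearAlgebra.Eigenspace.Zero

/-!
# The Sylow subgroup of a primitive prime divisor of half the degree

For `r` a primitive prime divisor of `p ^ m - 1` with `2 * m + 1 < r`, the Sylow `r`-subgroups of
a `p'`-subgroup of `GL_{2m}(p)` are abelian with trivial intersections, and a noncyclic one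
splits the space into two halves fixed by elements of order `r`.
-/

set_option autoImplicit false
set_option linter.style.haveILetI false
set_option linter.unusedSectionVars false

open Module Polynomial

namespace CfsgLib.KpThree

section Lift

variable {p : ℕ} [hp : Fact p.Prime]

open CfsgLib.DefectOne in
/-- Over the prime field, the multiplicities of the eigenvalues are stable under the `p`-th
power. -/
theorem rootMultiplicity_pow_char {k r : ℕ} (A : Matrix (Fin k) (Fin k) ℤ_[p]) (hr : ¬ p ∣ r)
    {θ : ℂ} (hθ : θ ^ r = 1) :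
    (A.map (KpRegular.padicEmb p)).charpoly.rootMultiplicity (θ ^ p) =
      (A.map (KpRegular.padicEmb p)).charpoly.rootMultiplicity θ := by
  let ι : ℤ_[p] →+* WR p :=
    (WittVector.map (algebraMap (ZMod p) (kbar p))).comp (WittVector.equiv p).symm.toRingHom
  let σ : WR p →+* WR p := WittVector.frobenius
  have hσeq : σ = WittVector.map (frobenius (kbar p) p) :=
    WittVector.frobenius_eq_map_frobenius p (R := kbar p)
  have hσ : Function.Injective σ := by
    rw [hσeq]; exact WittVector.map_injective _ (frobenius_inj (kbar p) p)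
  have hσι : σ.comp ι = ι := by
    refine RingHom.ext fun x => WittVector.ext fun i => ?_
    rw [RingHom.comp_apply, hσeq, WittVector.map_coeff]
    show (frobenius (kbar p) p) ((WittVector.map (algebraMap (ZMod p) (kbar p))
      ((WittVector.equiv p).symm x)).coeff i) = (WittVector.map (algebraMap (ZMod p) (kbar p))
      ((WittVector.equiv p).symm x)).coeff i
    rw [WittVector.map_coeff, frobenius_def, ← map_pow, ZMod.pow_card]
  set f := (A.map ι).charpoly with hf
  have hfσ : f.map σ = f := by
    rw [hf, ← Matrix.charpoly_map, Matrix.map_map, ← RingHom.coe_comp, hσι]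
  have hfe : (A.map (KpRegular.padicEmb p)).charpoly = f.map (emb p) := by
    rw [hf, ← Matrix.charpoly_map, Matrix.map_map, ← RingHom.coe_comp]
    rfl
  have hr0 : r ≠ 0 := fun h => hr (h ▸ dvd_zero p)
  haveI : NeZero (r : kbar p) := ⟨fun h => hr ((CharP.cast_eq_zero_iff (kbar p) p r).1 h)⟩
  haveI : NeZero r := ⟨hr0⟩
  obtain ⟨ζ, hζ⟩ := HasEnoughRootsOfUnity.exists_primitiveRoot (kbar p) r
  have h1 : IsPrimitiveRoot (WittVector.teichmuller p ζ) r :=
    hζ.map_of_injective (f := WittVector.teichmuller p) fun a b hab => by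
      simpa [WittVector.teichmuller_coeff_zero] using congrArg (fun w : WR p => w.coeff 0) hab
  obtain ⟨i, -, hi⟩ := (h1.map_of_injective (emb_injective p)).eq_pow_of_pow_eq_one hθ
  set a : WR p := WittVector.teichmuller p (ζ ^ i) with ha
  have haθ : emb p a = θ := by rw [ha, map_pow, map_pow, hi]
  have hσa : σ a = a ^ p := by
    rw [hσeq, ha, WittVector.map_teichmuller, frobenius_def, map_pow]
  rw [hfe, ← haθ, ← map_pow, ← hσa, ← Polynomial.eq_rootMultiplicity_map (emb_injective p),
    ← Polynomial.eq_rootMultiplicity_map (emb_injective p),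
    Polynomial.eq_rootMultiplicity_map hσ a (p := f), hfσ]

/-- If an endomorphism of order `r` is not the identity and its multiplicities are stable under
`p`-th powers, with `p` of order `m` modulo `r`, then in dimension `2 * m` every multiplicity is at
most `m`. -/
theorem rootMultiplicity_le {m r : ℕ} [hr : Fact r.Prime] (hm : 2 ≤ m)
    (hord : orderOf (p : ZMod r) = m) {V : Type*} [AddCommGroup V] [Module ℂ V]
    [FiniteDimensional ℂ V] (hV : finrank ℂ V = 2 * m) (f : Module.End ℂ V) (hf : f ^ r = 1)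
    (hf1 : f ≠ 1)
    (hstab : ∀ t : ℂ, t ^ r = 1 → f.charpoly.rootMultiplicity (t ^ p) = f.charpoly.rootMultiplicity t)
    {t : ℂ} (ht : t ^ r = 1) : f.charpoly.rootMultiplicity t ≤ m := by
  classical
  set R := f.charpoly.roots with hR
  have hcard : R.card ≤ 2 * m :=
    (card_roots' _).trans (by rw [LinearMap.charpoly_natDegree, hV])
  have hsum : ∀ T : Finset ℂ, ∑ s ∈ T, R.count s ≤ R.card := by
    intro T
    rw [← Multiset.sum_count_eq_card (s := T ∪ R.toFinset) (m := R)
      fun a ha => Finset.mem_union_right _ (Multiset.mem_toFinset.mpr ha)]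
    exact Finset.sum_le_sum_of_subset Finset.subset_union_left
  have hcount : ∀ s, R.count s = f.charpoly.rootMultiplicity s := fun s => count_roots _
  have horbit : ∀ s : ℂ, s ^ r = 1 → s ≠ 1 →
      ∃ T : Finset ℂ, 1 ∉ T ∧ ∑ u ∈ T, R.count u = m * f.charpoly.rootMultiplicity s := by
    intro s hs hs1
    have hso : orderOf s = r := orderOf_eq_prime hs hs1
    refine ⟨(Finset.range m).image fun i => s ^ p ^ i, ?_, ?_⟩
    · rw [Finset.mem_image]
      rintro ⟨i, -, hi⟩
      have h1 : r ∣ p ^ i := hso ▸ orderOf_dvd_of_pow_eq_one hi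
      have h2 : ((p : ZMod r)) = 0 :=
        (ZMod.natCast_eq_zero_iff _ _).mpr (hr.out.dvd_of_dvd_pow h1)
      rw [h2, orderOf_zero] at hord
      omega
    · rw [Finset.sum_image]
      · have h : ∀ i, R.count (s ^ p ^ i) = f.charpoly.rootMultiplicity s := by
          intro i
          induction i with
          | zero => rw [pow_zero, pow_one, hcount]
          | succ i ih =>
            rw [hcount, pow_succ, pow_mul, hstab _ (by rw [← pow_mul, mul_comm, pow_mul, hs, one_pow]),
              ← hcount, ih]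
        rw [Finset.sum_congr rfl fun i _ => h i, Finset.sum_const, Finset.card_range, smul_eq_mul]
      · intro i hi j hj h
        rw [Finset.mem_coe, Finset.mem_range] at hi hj
        have h1 : p ^ i ≡ p ^ j [MOD orderOf s] :=
          (isOfFinOrder_iff_pow_eq_one.mpr ⟨r, hr.out.pos, hs⟩).pow_eq_pow_iff_modEq.mp h
        rw [hso, ← ZMod.natCast_eq_natCast_iff, Nat.cast_pow, Nat.cast_pow] at h1
        exact pow_injOn_Iio_orderOf (Set.mem_Iio.mpr (hord.symm ▸ hi))
          (Set.mem_Iio.mpr (hord.symm ▸ hj)) h1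
  rcases eq_or_ne t 1 with rfl | ht1
  · -- some eigenvalue differs from one
    obtain ⟨b, μ, hμ, hb⟩ := Char.exists_eigenbasis_of_pow_eq_one f hr.out.ne_zero hf
    obtain ⟨i, hi⟩ : ∃ i, μ i ≠ 1 := by
      by_contra hall
      push Not at hall
      exact hf1 (b.ext fun i => by rw [hb i, hall i, one_smul, Module.End.one_apply])
    have hpos : 0 < f.charpoly.rootMultiplicity (μ i) := by
      refine (LinearMap.finrank_eigenspace_le f (μ i)).trans_lt' ?_
      rw [Module.finrank_pos_iff]
      exact ⟨⟨⟨b i, Module.End.mem_eigenspace_iff.mpr (hb i)⟩, 0, fun h =>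
        b.ne_zero i (congrArg Subtype.val h)⟩⟩
    obtain ⟨T, hT1, hT⟩ := horbit _ (hμ i) hi
    have h := (hsum (insert 1 T)).trans hcard
    rw [Finset.sum_insert hT1, hT, hcount] at h
    have := Nat.mul_le_mul_left m hpos
    omega
  · obtain ⟨T, -, hT⟩ := horbit t ht ht1
    have h := (hsum T).trans hcard
    rw [hT, mul_comm 2 m] at h
    exact (Nat.le_of_mul_le_mul_left h (by omega)).trans hm

end Lift

/-- If the eigenspaces of a central element are small, the Sylow subgroups are normal. -/
theorem sylow_normal_of_central {G : Type*} [Group G] [Finite G] {k m : ℕ}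
    (ρ : Representation ℂ G (Fin k → ℂ)) (hρ : Function.Injective ρ) {r : ℕ} [Fact r.Prime]
    (hr : 2 * m + 1 < r) {z : G} (hz : ∀ c, c * z = z * c)
    (heig : ∀ θ : ℂ, finrank ℂ (Module.End.eigenspace (ρ z) θ) ≤ m) (S : Sylow r G) :
    (S : Subgroup G).Normal := by
  classical
  set N := Nat.card G
  have hinv : ∀ (θ : ℂ) (c : G), ∀ v ∈ Module.End.eigenspace (ρ z) θ,
      ρ c v ∈ Module.End.eigenspace (ρ z) θ := by
    intro θ c v hv
    rw [Module.End.mem_eigenspace_iff] at hv ⊢
    rw [← Module.End.mul_apply, ← map_mul, ← hz c, map_mul, Module.End.mul_apply, hv, map_smul]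
  have key : ∀ θ : ℂ, ∃ K : Subgroup G, K.Normal ∧ (∀ Q : Subgroup G, IsPGroup r Q → Q ≤ K) ∧
      ∀ c ∈ K, ∀ v ∈ Module.End.eigenspace (ρ z) θ, ρ (c ^ r ^ N) v = v := by
    intro θ
    let σ : Representation ℂ G (Module.End.eigenspace (ρ z) θ) :=
      { toFun := fun c => (ρ c).restrict (hinv θ c)
        map_one' := LinearMap.ext fun v => Subtype.ext (by simp)
        map_mul' := fun a b => LinearMap.ext fun v => Subtype.ext (by simp) }
    set d := finrank ℂ (Module.End.eigenspace (ρ z) θ)
    let e := ((LinearMap.toMatrixAlgEquiv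
      (Module.finBasis ℂ (Module.End.eigenspace (ρ z) θ))).trans Matrix.toLinAlgEquiv').toMulEquiv
    let τ : Representation ℂ G (Fin d → ℂ) := e.toMonoidHom.comp σ
    let H := τ.asGroupHom.range
    haveI : Finite H := Finite.of_surjective _ τ.asGroupHom.rangeRestrict_surjective
    let τH : Representation ℂ H (Fin d → ℂ) := (Units.coeHom _).comp H.subtype
    have hτH : Function.Injective τH := fun a b h => Subtype.ext (Units.ext h)
    have hH : CharExt.SmallDegree.HasNormalSylow r H := fun Q =>
      KgvTrans.sylow_normal_of_degree τH hτH (Or.inl (by have := heig θ; omega)) Q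
    let T : Sylow r H := default
    haveI : (T : Subgroup H).Normal := hH T
    refine ⟨(T : Subgroup H).comap τ.asGroupHom.rangeRestrict, inferInstance, fun Q hQ => ?_,
      fun c hc v hv => ?_⟩
    · rw [← Subgroup.map_le_iff_le_comap]
      haveI := Sylow.unique_of_normal T inferInstance
      obtain ⟨T', hT'⟩ := (hQ.map τ.asGroupHom.rangeRestrict).exists_le_sylow
      exact Subsingleton.elim T' T ▸ hT'
    · obtain ⟨a, ha⟩ := IsPGroup.iff_card.mp T.2
      have haN : a ≤ N := by
        refine (Nat.lt_pow_self (Fact.out : r.Prime).one_lt).le.trans ?_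
        rw [← ha]
        exact (Subgroup.card_le_card_group _).trans
          (Nat.card_le_card_of_surjective _ τ.asGroupHom.rangeRestrict_surjective)
      have h1 : (⟨τ.asGroupHom.rangeRestrict c, hc⟩ : (T : Subgroup H)) ^ r ^ N = 1 := by
        rw [← Nat.add_sub_cancel' haN, pow_add, pow_mul, ← ha, pow_card_eq_one', one_pow]
      have h2 : e (σ (c ^ r ^ N)) = e 1 := by
        have h3 := congrArg (fun u : (T : Subgroup H) => (((u : H) : (Module.End ℂ (Fin d → ℂ))ˣ) :
          Module.End ℂ (Fin d → ℂ))) h1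
        simp only [SubmonoidClass.coe_pow, MonoidHom.coe_rangeRestrict, Units.val_pow_eq_pow_val,
          Representation.asGroupHom_apply, OneMemClass.coe_one, Units.val_one] at h3
        rw [map_pow σ, map_pow e, map_one e]
        exact h3
      exact congrArg Subtype.val (LinearMap.congr_fun (e.injective h2) ⟨v, hv⟩)
  choose K hKn hKle hKpow using key
  have hKS : (⨅ θ, K θ) = (S : Subgroup G) := by
    refine S.is_maximal' (fun c => ⟨N, Subtype.ext (hρ ?_)⟩) (le_iInf fun θ => hKle θ _ S.2)
    have hz1 : ρ z ^ orderOf z = 1 := by rw [← map_pow, pow_orderOf_eq_one, map_one]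
    obtain ⟨b, μ, -, hb⟩ := Char.exists_eigenbasis_of_pow_eq_one (ρ z) (orderOf_pos z).ne' hz1
    rw [SubmonoidClass.coe_pow, OneMemClass.coe_one, map_one]
    exact b.ext fun i => hKpow (μ i) c (Subgroup.mem_iInf.mp c.2 _) _
      (Module.End.mem_eigenspace_iff.mpr (hb i))
  rw [← hKS]
  exact Subgroup.normal_iInf_normal hKn

variable {D E : Type*} [Group D] [Finite D] [AddCommGroup E] [Finite E] [DistribMulAction D E]
  [FaithfulSMul D E] {p : ℕ} [hp : Fact p.Prime] {m r : ℕ}

/-- A faithful complex representation of degree `2 * m` in which elements of order `r` have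
eigenspaces of dimension at most `m`. -/
theorem exists_rep (hE : ∀ e : E, p • e = 0) (hcard : Nat.card E = p ^ (2 * m))
    (hD : ¬ p ∣ Nat.card D) (hm : 2 ≤ m) [Fact r.Prime] (hord : orderOf (p : ZMod r) = m) :
    ∃ ρ : Representation ℂ D (Fin (2 * m) → ℂ), Function.Injective ρ ∧
      ∀ z : D, orderOf z = r → ∀ θ : ℂ, finrank ℂ (Module.End.eigenspace (ρ z) θ) ≤ m := by
  classical
  let : Module (ZMod p) E := AddCommGroup.zmodModule (n := p) hE
  haveI hfd : Module.Finite (ZMod p) E := Module.Finite.of_finite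
  obtain ⟨ψ, hψ⟩ := KpRegular.exists_linear (D := D) (E := E) (p := p)
  let b := Module.finBasisOfFinrankEq (ZMod p) E (KpRegular.finrank_eq (p := p) (E := E) hcard)
  let M := (LinearMap.toMatrixAlgEquiv b).toRingEquiv.toRingHom.toMonoidHom.comp ψ
  have hM : Function.Injective M := (LinearMap.toMatrixAlgEquiv b).injective.comp hψ
  obtain ⟨L, hL⟩ := KpRegular.exists_padic_lift hD M
  let ρ : Representation ℂ D (Fin (2 * m) → ℂ) :=
    (((Matrix.toLinAlgEquiv' : Matrix _ _ ℂ ≃ₐ[ℂ] _).toMulEquiv.toMonoidHom).comp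
      ((KpRegular.padicEmb p).mapMatrix (m := Fin (2 * m))).toMonoidHom).comp L
  have hρ : ∀ g, ρ g = Matrix.toLin' ((L g).map (KpRegular.padicEmb p)) := fun g => rfl
  have hρi : Function.Injective ρ := fun g g' h => hM (by
    rw [hρ, hρ] at h
    rw [← hL, ← hL, Matrix.map_injective (KpRegular.padicEmb_injective p) (Matrix.toLin'.injective h)])
  refine ⟨ρ, hρi, fun z hz θ => ?_⟩
  have hr : r.Prime := Fact.out
  have hrp : ¬ p ∣ r := by
    intro h
    obtain rfl := (Nat.prime_dvd_prime_iff_eq hp.out hr).mp h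
    rw [ZMod.natCast_self, orderOf_zero] at hord
    omega
  have hzr : ρ z ^ r = 1 := by rw [← map_pow, ← hz, pow_orderOf_eq_one, map_one]
  have hz1 : ρ z ≠ 1 := fun h => hr.ne_one
    (hz ▸ orderOf_eq_one_iff.mpr (hρi (h.trans (map_one ρ).symm)))
  by_cases hθ : θ ^ r = 1
  · refine (LinearMap.finrank_eigenspace_le _ _).trans
      (rootMultiplicity_le (p := p) (r := r) hm hord (Module.finrank_fin_fun ℂ) _ hzr hz1
        (fun t ht => ?_) hθ)
    rw [hρ, Matrix.charpoly_toLin']
    exact rootMultiplicity_pow_char (L z) hrp ht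
  · rw [show Module.End.eigenspace (ρ z) θ = ⊥ from ?_, finrank_bot]
    · exact Nat.zero_le _
    rw [Submodule.eq_bot_iff]
    intro v hv
    by_contra hv0
    have hev : Module.End.HasEigenvector (ρ z) θ v := ⟨hv, hv0⟩
    have h := hev.pow_apply r
    rw [hzr, Module.End.one_apply] at h
    exact hθ (smul_left_injective ℂ hv0 (h.symm.trans (one_smul ℂ v).symm))

/-- The vectors fixed by an element. -/
private def fixVec (E : Type*) [AddCommGroup E] [DistribMulAction D E] (x : D) : AddSubgroup E :=
  (DistribSMul.toAddMonoidHom E x - AddMonoidHom.id E).ker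

private theorem mem_fixVec {x : D} {e : E} : e ∈ fixVec E x ↔ x • e = e := by
  rw [fixVec, AddMonoidHom.mem_ker, AddMonoidHom.sub_apply, DistribSMul.toAddMonoidHom_apply,
    AddMonoidHom.id_apply, sub_eq_zero]

private theorem smul_eq_of_mem_zpowers {x w : D} (hw : w ∈ Subgroup.zpowers x) {e : E}
    (he : x • e = e) : w • e = e :=
  Subgroup.zpowers_le.mpr (show x ∈ MulAction.stabilizer D e from he) hw

/-- The fixed vectors of an element of order `r` in an invariant subgroup. -/
private theorem exists_card_fix (hE : ∀ e : E, p • e = 0) [hr : Fact r.Prime]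
    (hord : orderOf (p : ZMod r) = m) {x : D} (hx : orderOf x = r) (W : AddSubgroup E)
    (hW : ∀ w ∈ W, x • w ∈ W) {a : ℕ} (hWc : Nat.card W = p ^ a) (ha : m ∣ a) :
    ∃ c, Nat.card (W ⊓ fixVec E x : AddSubgroup E) = p ^ (m * c) ∧ m * c ≤ a := by
  have hX : IsPGroup r (Subgroup.zpowers x) :=
    IsPGroup.of_card (n := 1) (by rw [Nat.card_zpowers, hx, pow_one])
  have hpow : ∀ (g : Subgroup.zpowers x) (w : E), w ∈ W → (g : D) • w ∈ W := by
    intro g w hw
    obtain ⟨k, hk⟩ := mem_powers_iff_mem_zpowers.mpr g.2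
    have hkk : x ^ k = (g : D) := hk
    rw [← hkk]
    clear hk hkk
    induction k with
    | zero => simpa using hw
    | succ k ih => rw [pow_succ', mul_smul]; exact hW _ ih
  let : MulAction (Subgroup.zpowers x) W :=
    { smul := fun g w => ⟨(g : D) • (w : E), hpow g w w.2⟩
      one_smul := fun w => Subtype.ext (one_smul D (w : E))
      mul_smul := fun g h w => Subtype.ext (mul_smul (g : D) (h : D) (w : E)) }
  let e : MulAction.fixedPoints (Subgroup.zpowers x) W ≃ (W ⊓ fixVec E x : AddSubgroup E) :=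
    { toFun := fun w => ⟨(w.1 : E), w.1.2,
        mem_fixVec.mpr (congrArg Subtype.val (w.2 ⟨x, Subgroup.mem_zpowers x⟩))⟩
      invFun := fun w => ⟨⟨(w : E), w.2.1⟩, fun g =>
        Subtype.ext (smul_eq_of_mem_zpowers g.2 (mem_fixVec.mp w.2.2))⟩
      left_inv := fun w => rfl
      right_inv := fun w => rfl }
  obtain ⟨i, hi⟩ := KpRegular.exists_card_eq_pow hE (W ⊓ fixVec E x)
  have h := hX.card_modEq_card_fixedPoints (α := W)
  rw [hWc, Nat.card_congr e, hi, ← ZMod.natCast_eq_natCast_iff, Nat.cast_pow, Nat.cast_pow,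
    orderOf_dvd_iff_pow_eq_one.mp (hord.symm ▸ ha)] at h
  obtain ⟨c, rfl⟩ : m ∣ i := hord ▸ orderOf_dvd_of_pow_eq_one h.symm
  exact ⟨c, hi, (Nat.pow_le_pow_iff_right hp.out.one_lt).mp
    (hi ▸ hWc ▸ AddSubgroup.card_le_of_le inf_le_left)⟩

/-- An element of order `r` fixing a nonzero vector fixes exactly half of the space. -/
private theorem card_fixVec (hE : ∀ e : E, p • e = 0) (hcard : Nat.card E = p ^ (2 * m))
    [hr : Fact r.Prime] (hord : orderOf (p : ZMod r) = m) {x : D} (hx : orderOf x = r) {e : E}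
    (he0 : e ≠ 0) (he : x • e = e) : Nat.card (fixVec E x) = p ^ m := by
  obtain ⟨c, hc, hcm⟩ := exists_card_fix hE hord hx ⊤ (fun _ _ => AddSubgroup.mem_top _)
    (AddSubgroup.card_top.trans hcard) (dvd_mul_left m 2)
  rw [top_inf_eq] at hc
  have hc0 : c ≠ 0 := by
    rintro rfl
    rw [mul_zero, pow_zero, AddSubgroup.card_eq_one] at hc
    exact he0 ((AddSubgroup.mem_bot (G := E)).mp (hc ▸ mem_fixVec.mpr he))
  have hne : fixVec E x ≠ ⊤ := fun h => hr.out.ne_one (hx ▸ orderOf_eq_one_iff.mpr
    (FaithfulSMul.eq_of_smul_eq_smul fun v : E => by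
      rw [one_smul, mem_fixVec.mp (h ▸ AddSubgroup.mem_top v)]))
  have hm0 : 0 < m := Nat.pos_of_ne_zero fun h => hne (AddSubgroup.eq_top_of_card_eq _
    (by rw [hc, hcard, h, zero_mul, mul_zero]))
  have hc2 : c < 2 := by
    by_contra hc2
    have h1 : m * 2 ≤ m * c := Nat.mul_le_mul_left m (not_lt.mp hc2)
    exact hne (AddSubgroup.eq_top_of_card_eq _
      (by rw [hc, hcard, show m * c = 2 * m by omega]))
  rw [hc, show c = 1 by omega, mul_one]

theorem sylow_structure (hm : 2 ≤ m) (hE : ∀ e : E, p • e = 0)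
    (hcard : Nat.card E = p ^ (2 * m)) (hD : ¬ p ∣ Nat.card D) (hr : IsPrim p m r)
    (hbig : 2 * m + 1 < r) (P : Sylow r D) :
    (∀ x ∈ P, ∀ y ∈ P, x * y = y * x) ∧
    (∀ g : D, g ∉ Subgroup.normalizer ((P : Subgroup D) : Set D) →
      (P : Subgroup D) ⊓ (P : Subgroup D).map (MulAut.conj g).toMonoidHom = ⊥) ∧
    (IsCyclic P ∨ ∃ x ∈ P, ∃ y ∈ P, orderOf x = r ∧ orderOf y = r ∧
      Subgroup.zpowers x ⊓ Subgroup.zpowers y = ⊥ ∧
      Nat.card {e : E // x • e = e} = p ^ m ∧ Nat.card {e : E // y • e = e} = p ^ m ∧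
      ∀ e : E, x • e = e → y • e = e → e = 0) := by
  classical
  haveI hrF : Fact r.Prime := ⟨hr.1⟩
  have hord : orderOf (p : ZMod r) = m :=
    (Zsigmondy.dvd_sub_one_of_primitive hp.out.pos (by omega) hr.2.1 hr.2.2).1
  obtain ⟨ρ, hρ, heig⟩ := exists_rep (r := r) hE hcard hD hm hord
  -- every `r`-subgroup is abelian
  have hab : ∀ Q : Sylow r D, ∀ x ∈ Q, ∀ y ∈ Q, x * y = y * x := by
    intro Q x hx y hy
    refine congrArg Subtype.val (Cfsg.Agent.S0185.result
      (ρ.comp (Q : Subgroup D).subtype : Representation ℂ Q (Fin (2 * m) → ℂ))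
      (hρ.comp (Q : Subgroup D).subtype_injective) ?_ ⟨x, hx⟩ ⟨y, hy⟩)
    intro q hq hdvd
    obtain ⟨k, hk⟩ := IsPGroup.iff_card.mp Q.2
    rw [hk] at hdvd
    rw [(Nat.prime_dvd_prime_iff_eq hq hr.1).mp (hq.dvd_of_dvd_pow hdvd), Module.finrank_fin_fun]
    omega
  have hroot : ∀ x ∈ P, x ≠ 1 → ∃ w ∈ Subgroup.zpowers x, w ∈ P ∧ orderOf w = r := by
    intro x hx hx1
    have hp' : IsPGroup r (Subgroup.zpowers x) := P.2.to_le (Subgroup.zpowers_le.mpr hx)
    obtain ⟨w, hw⟩ := exists_prime_orderOf_dvd_card' (G := Subgroup.zpowers x) r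
      (hp'.card_eq_or_dvd.resolve_left fun h => hx1
        (orderOf_eq_one_iff.mp (Nat.card_zpowers x ▸ h)))
    exact ⟨w, w.2, Subgroup.zpowers_le.mpr hx w.2, by rw [Subgroup.orderOf_coe, hw]⟩
  refine ⟨hab P, fun g hg => ?_, ?_⟩
  · -- two Sylow subgroups meeting nontrivially are equal
    by_contra hne
    obtain ⟨⟨x, hxP, hxg⟩, hx1⟩ : ∃ x : ((P : Subgroup D) ⊓
        (P : Subgroup D).map (MulAut.conj g).toMonoidHom : Subgroup D), x ≠ 1 := by
      haveI := (Subgroup.nontrivial_iff_ne_bot _).mpr hne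
      exact exists_ne 1
    obtain ⟨w, hwx, hwP, hw⟩ := hroot x hxP fun h => hx1 (Subtype.ext h)
    let P' : Sylow r D :=
      P.mapSurjective (f := (MulAut.conj g).toMonoidHom) (MulEquiv.surjective _)
    have hwP' : w ∈ (P' : Subgroup D) := Subgroup.zpowers_le.mpr hxg hwx
    set C := Subgroup.centralizer ({w} : Set D)
    have hC : CharExt.SmallDegree.HasNormalSylow r C := fun S =>
      sylow_normal_of_central (z := (⟨w, Subgroup.mem_centralizer_singleton_iff.mpr rfl⟩ : C))
        (ρ.comp C.subtype : Representation ℂ C (Fin (2 * m) → ℂ))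
        (hρ.comp C.subtype_injective) hbig
        (fun c => Subtype.ext (Subgroup.mem_centralizer_singleton_iff.mp c.2))
        (heig w hw) S
    have heq : P = P' := CharExt.SmallDegree.sylow_eq_of_le hC
      (fun u hu => Subgroup.mem_centralizer_singleton_iff.mpr (hab P u hu w hwP))
      (fun u hu => Subgroup.mem_centralizer_singleton_iff.mpr (hab P' u hu w hwP'))
    have hmap : (P : Subgroup D).map (MulAut.conj g).toMonoidHom = (P : Subgroup D) :=
      (congrArg (fun S : Sylow r D => (S : Subgroup D)) heq).symm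
    refine hg (Subgroup.mem_normalizer_iff.mpr fun u => ⟨fun hu => ?_, fun hu => ?_⟩)
    · exact hmap.le ⟨u, hu, rfl⟩
    · obtain ⟨v, hv, hvu⟩ := hmap.ge hu
      rwa [show v = u from (MulAut.conj g).injective hvu] at hv
  · refine (Classical.em (IsCyclic P)).imp_right fun hcyc => ?_
    have hfpf : ∀ W : AddSubgroup E, W ≠ ⊥ → (∀ d ∈ P, ∀ w ∈ W, d • w ∈ W) →
        ∃ d ∈ P, orderOf d = r ∧ ∃ w ∈ W, w ≠ 0 ∧ d • w = w := by
      intro W hW hinv
      by_contra hno
      push Not at hno
      haveI : Nontrivial W := (AddSubgroup.nontrivial_iff_ne_bot W).mpr hW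
      let : DistribMulAction (P : Subgroup D) W :=
        { smul := fun g w => ⟨(g : D) • (w : E), hinv g g.2 w w.2⟩
          one_smul := fun w => Subtype.ext (one_smul D (w : E))
          mul_smul := fun g h w => Subtype.ext (mul_smul (g : D) (h : D) (w : E))
          smul_zero := fun g => Subtype.ext (smul_zero (g : D))
          smul_add := fun g u v => Subtype.ext (smul_add (g : D) (u : E) (v : E)) }
      let φ : (P : Subgroup D) →* MulAut (Multiplicative W) := MonoidHom.mk'
        (fun d => AddEquiv.toMultiplicative (DistribMulAction.toAddEquiv W d))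
        (fun a b => MulEquiv.ext fun u => congrArg Multiplicative.ofAdd (mul_smul a b u.toAdd))
      have hG : Zassenhaus.HasFpf (P : Subgroup D) := Zassenhaus.HasFpf.of_mulAut φ fun d hd u hu => by
        apply Multiplicative.toAdd.injective
        by_contra hu0
        obtain ⟨w, hwd, hwP, hw⟩ := hroot d d.2 fun h => hd (Subtype.ext h)
        refine hno w hwP hw (Multiplicative.toAdd u : W) (Multiplicative.toAdd u : W).2
          (fun h => hu0 (Subtype.ext h)) ?_
        exact smul_eq_of_mem_zpowers hwd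
          (congrArg Subtype.val (congrArg Multiplicative.toAdd hu))
      refine hcyc ?_
      haveI := hG.isCyclic_of_comm (A := (⊤ : Subgroup (P : Subgroup D)))
        fun u _ v _ => Subtype.ext (hab P u u.2 v v.2)
      exact isCyclic_of_surjective Subgroup.topEquiv Subgroup.topEquiv.surjective
    have htop : (⊤ : AddSubgroup E) ≠ ⊥ := fun h => by
      have h1 := (AddSubgroup.card_top (G := E)).trans hcard
      rw [h, AddSubgroup.card_bot] at h1
      exact (Nat.one_lt_pow (by omega) hp.out.one_lt).ne h1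
    obtain ⟨x, hxP, hx, e₀, -, he₀, hxe₀⟩ := hfpf ⊤ htop fun _ _ _ _ => AddSubgroup.mem_top _
    have hU := card_fixVec hE hcard hord hx he₀ hxe₀
    set f : E →+ E := DistribSMul.toAddMonoidHom E x - AddMonoidHom.id E with hf
    have hfa : ∀ e, f e = x • e - e := fun e => rfl
    have hW : Nat.card f.range = p ^ m := by
      have h1 := f.ker.card_mul_index
      rw [AddSubgroup.index_ker, hcard, show f.ker = fixVec E x from rfl, hU, two_mul,
        pow_add] at h1
      exact Nat.eq_of_mul_eq_mul_left (pow_pos hp.out.pos m) h1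
    have hdisj : ∀ u ∈ f.range, x • u = u → u = 0 := by
      rintro u ⟨e, rfl⟩ hu
      rw [hfa] at hu ⊢
      set u := x • e - e
      have hk : ∀ k : ℕ, x ^ k • e = e + k • u := by
        intro k
        induction k with
        | zero => simp
        | succ k ih =>
          rw [pow_succ', mul_smul, ih, smul_add, smul_comm x k u, hu, succ_nsmul', ← add_assoc,
            show x • e = e + u by rw [add_sub_cancel]]
      have h1 := hk r
      rw [← hx, pow_orderOf_eq_one, one_smul, hx, left_eq_add] at h1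
      have hrp : Nat.Coprime r p := (Nat.coprime_primes hr.1 hp.out).mpr fun h => by
        rw [← h, ZMod.natCast_self, orderOf_zero] at hord
        omega
      exact AddMonoid.addOrderOf_eq_one_iff.mp (Nat.eq_one_of_dvd_coprimes hrp
        (addOrderOf_dvd_of_nsmul_eq_zero h1) (addOrderOf_dvd_of_nsmul_eq_zero (hE u)))
    have hWne : f.range ≠ ⊥ := fun h => by
      rw [h, AddSubgroup.card_bot] at hW
      exact (Nat.one_lt_pow (by omega) hp.out.one_lt).ne hW
    have hWinv : ∀ d ∈ P, ∀ w ∈ f.range, d • w ∈ f.range := by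
      rintro d hd _ ⟨e, rfl⟩
      refine ⟨d • e, ?_⟩
      rw [hfa, hfa, smul_sub, ← mul_smul, ← mul_smul, hab P x hxP d hd]
    obtain ⟨y, hyP, hy, w, hw, hw0, hyw⟩ := hfpf f.range hWne hWinv
    have hV := card_fixVec hE hcard hord hy hw0 hyw
    have hWy : fixVec E y = f.range := by
      obtain ⟨c, hc, hcm⟩ := exists_card_fix hE hord hy f.range (hWinv y hyP) hW dvd_rfl
      have hc0 : c ≠ 0 := by
        rintro rfl
        rw [mul_zero, pow_zero, AddSubgroup.card_eq_one] at hc
        exact hw0 ((AddSubgroup.mem_bot (G := E)).mp (hc ▸ ⟨hw, mem_fixVec.mpr hyw⟩))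
      have hc1 : c = 1 := by
        have : c ≤ 1 := Nat.le_of_mul_le_mul_left (show m * c ≤ m * 1 by omega) (by omega)
        omega
      rw [hc1, mul_one] at hc
      have h1 : f.range ⊓ fixVec E y = fixVec E y :=
        AddSubgroup.eq_of_le_of_card_ge inf_le_right (by rw [hc, hV])
      have h2 : f.range ⊓ fixVec E y = f.range :=
        AddSubgroup.eq_of_le_of_card_ge inf_le_left (by rw [hc, hW])
      rw [← h1, h2]
    have hboth : ∀ e : E, x • e = e → y • e = e → e = 0 := fun e hex hey =>
      hdisj e (hWy ▸ mem_fixVec.mpr hey) hex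
    refine ⟨x, hxP, y, hyP, hx, hy, ?_, ?_, ?_, hboth⟩
    · refine (Subgroup.eq_bot_iff_forall _).mpr fun u hu => ?_
      by_contra hu1
      obtain ⟨v, hvu, -, hv⟩ := hroot u (Subgroup.zpowers_le.mpr hxP hu.1) hu1
      have hvy : v ∈ Subgroup.zpowers y := Subgroup.zpowers_le.mpr hu.2 hvu
      have heq : Subgroup.zpowers v = Subgroup.zpowers y :=
        Subgroup.eq_of_le_of_card_ge (Subgroup.zpowers_le.mpr hvy)
          (by rw [Nat.card_zpowers, Nat.card_zpowers, hv, hy])
      have hyx : y ∈ Subgroup.zpowers x :=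
        (Subgroup.zpowers_le.mpr (Subgroup.zpowers_le.mpr hu.1 hvu))
          (heq ▸ Subgroup.mem_zpowers y)
      exact he₀ (hboth e₀ hxe₀ (smul_eq_of_mem_zpowers hyx hxe₀))
    · rw [← hU]; exact Nat.card_congr (Equiv.subtypeEquivRight fun e => mem_fixVec.symm)
    · rw [← hV]; exact Nat.card_congr (Equiv.subtypeEquivRight fun e => mem_fixVec.symm)

end CfsgLib.KpThree
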