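import Cfsg.Agent.Lib.KpThree.Defs
import Cfsg.Agent.Lib.KpRegular.Semilinear

/-!
# A cyclic Sylow subgroup with trivial intersections is normal in small degree
-/

set_option autoImplicit false

namespace CfsgLib.KpThree

variable {D : Type*} [Group D] [Finite D]

/-- With trivial intersections a cyclic Sylow subgroup is centralised by the centraliser of each
of its nontrivial elements. -/
theorem centralizer_eq_of_cyclic_ti {r : ℕ} [hr : Fact r.Prime] (P : Sylow r D) [IsCyclic (P : Subgroup D)]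
    (hti : ∀ g : D, g ∉ Subgroup.normalizer ((P : Subgroup D) : Set D) →
      (P : Subgroup D) ⊓ (P : Subgroup D).map (MulAut.conj g).toMonoidHom = ⊥)
    {y : D} (hy : y ∈ (P : Subgroup D)) (hy1 : y ≠ 1) :
    Subgroup.centralizer ({y} : Set D) = Subgroup.centralizer ((P : Subgroup D) : Set D) := by
  classical
  refine le_antisymm (fun g hg => ?_) (Subgroup.centralizer_le (Set.singleton_subset_iff.mpr hy))
  have hgy : g * y * g⁻¹ = y := by
    rw [Subgroup.mem_centralizer_singleton_iff] at hg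
    rw [hg, mul_inv_cancel_right]
  have hgN : g ∈ Subgroup.normalizer ((P : Subgroup D) : Set D) := by
    by_contra h
    have h1 : y ∈ (P : Subgroup D) ⊓ (P : Subgroup D).map (MulAut.conj g).toMonoidHom :=
      ⟨hy, y, hy, hgy⟩
    rw [hti g h, Subgroup.mem_bot] at h1
    exact hy1 h1
  let φ : Subgroup.normalizer ((P : Subgroup D) : Set D) →* MulAut (P : Subgroup D) :=
    (P : Subgroup D).normalizerMonoidHom
  -- the kernel contains the Sylow subgroup, so the image has order prime to `r`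
  have hker : φ ⟨g, hgN⟩ = 1 := by
    obtain ⟨k, hk⟩ := IsPGroup.iff_card.mp P.2
    obtain ⟨a, ha⟩ := MonoidHom.map_cyclic (φ ⟨g, hgN⟩).toMonoidHom
    have hya : (⟨y, hy⟩ : (P : Subgroup D)) ^ (a - 1) = 1 := by
      have h := ha ⟨y, hy⟩
      have h' : (φ ⟨g, hgN⟩).toMonoidHom ⟨y, hy⟩ = ⟨y, hy⟩ := Subtype.ext hgy
      rw [h'] at h
      rw [zpow_sub_one, ← h, mul_inv_cancel]
    -- the order of the automorphism is a power of `r`
    have hra : (r : ℤ) ∣ a - 1 := by
      have h1 := orderOf_dvd_iff_zpow_eq_one.mpr hya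
      have h2 : (r : ℤ) ∣ (orderOf (⟨y, hy⟩ : (P : Subgroup D)) : ℤ) := by
        have h3 : orderOf (⟨y, hy⟩ : (P : Subgroup D)) ∣ r ^ k := hk ▸ orderOf_dvd_natCard _
        obtain ⟨i, -, hi⟩ := (Nat.dvd_prime_pow hr.out).mp h3
        rcases i with _ | i
        · rw [pow_zero, orderOf_eq_one_iff] at hi
          exact absurd (congrArg Subtype.val hi) hy1
        · rw [hi]; exact_mod_cast dvd_pow_self r (Nat.succ_ne_zero i)
      exact h2.trans h1
    have hiter : ∀ (j : ℕ) (z : (P : Subgroup D)), ((φ ⟨g, hgN⟩) ^ j) z = z ^ (a ^ j) := by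
      intro j
      induction j with
      | zero => intro z; simp
      | succ j ih =>
        intro z
        rw [pow_succ', MulAut.mul_apply, ih, map_zpow, show (φ ⟨g, hgN⟩) z = z ^ a from ha z,
          ← zpow_mul, pow_succ']
    have hpow : (φ ⟨g, hgN⟩) ^ r ^ k = 1 := by
      refine MulEquiv.ext fun z => ?_
      rw [hiter, MulAut.one_apply]
      have h1 : (r : ℤ) ^ (k + 1) ∣ a ^ r ^ k - 1 ^ r ^ k :=
        dvd_sub_pow_of_dvd_sub hra k
      rw [one_pow] at h1
      have h2 : (orderOf z : ℤ) ∣ a ^ r ^ k - 1 := by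
        refine dvd_trans ?_ h1
        have h3 : orderOf z ∣ r ^ k := hk ▸ orderOf_dvd_natCard _
        exact_mod_cast h3.trans (pow_dvd_pow r (Nat.le_succ k))
      rw [orderOf_dvd_iff_zpow_eq_one, zpow_sub_one, mul_inv_eq_one] at h2
      exact h2
    rw [← orderOf_eq_one_iff]
    by_contra hne
    obtain ⟨i, -, hi⟩ := (Nat.dvd_prime_pow hr.out).mp (orderOf_dvd_of_pow_eq_one hpow)
    rcases i with _ | i
    · exact hne (by rw [hi, pow_zero])
    have hrange : r ∣ Nat.card φ.range := ((dvd_pow_self r (Nat.succ_ne_zero i)).trans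
      (hi ▸ Subgroup.orderOf_dvd_natCard φ.range ⟨⟨g, hgN⟩, rfl⟩))
    rw [← Subgroup.index_ker] at hrange
    have hle : (P : Subgroup D).subgroupOf (Subgroup.normalizer ((P : Subgroup D) : Set D)) ≤ φ.ker := by
      intro u hu
      rw [MonoidHom.mem_ker]
      refine MulEquiv.ext fun z => Subtype.ext ?_
      show (u : D) * z * (u : D)⁻¹ = z
      letI := IsCyclic.commGroup (α := (P : Subgroup D))
      have := congrArg Subtype.val (mul_comm (⟨u, hu⟩ : (P : Subgroup D)) z)
      simp only [Subgroup.coe_mul] at this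
      rw [this, mul_inv_cancel_right]
    have h5 := Subgroup.index_dvd_of_le hle
    have h6 : ¬ r ∣ (P : Subgroup D).relIndex (Subgroup.normalizer ((P : Subgroup D) : Set D)) := fun h =>
      Sylow.not_dvd_index P (h.trans (Subgroup.relIndex_dvd_index_of_le Subgroup.le_normalizer))
    exact h6 (hrange.trans h5)
  rw [Subgroup.mem_centralizer_iff]
  intro z hz
  have h := congrArg Subtype.val (DFunLike.congr_fun hker (⟨z, hz⟩ : (P : Subgroup D)))
  exact (mul_inv_eq_iff_eq_mul.mp h).symm

variable {E : Type*} [AddCommGroup E] [Finite E] [DistribMulAction D E] [FaithfulSMul D E]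
  {p : ℕ} [Fact p.Prime]

/-- The cyclic case of the trivial-intersection step. -/
theorem normal_of_cyclic_ti {n r : ℕ} [hr : Fact r.Prime] (hE : ∀ e : E, p • e = 0)
    (hcard : Nat.card E = p ^ n) (hD : ¬ p ∣ Nat.card D) (hbig : n + 1 < r) (P : Sylow r D)
    [IsCyclic (P : Subgroup D)]
    (hti : ∀ g : D, g ∉ Subgroup.normalizer ((P : Subgroup D) : Set D) →
      (P : Subgroup D) ⊓ (P : Subgroup D).map (MulAut.conj g).toMonoidHom = ⊥)
    (hP : r ^ 2 ∣ Nat.card (P : Subgroup D)) : (P : Subgroup D).Normal := by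
  obtain ⟨χ, hχ, hfaith, hdn⟩ := KpRegular.exists_character hE hD hcard
  obtain ⟨k, hk⟩ := IsPGroup.iff_card.mp P.2
  refine Cfsg.Agent.S4485.result r hr.out ((dvd_pow_self r two_ne_zero).trans
    (hP.trans (Subgroup.card_subgroup_dvd_card _))) P
    (fun y hy hy1 => centralizer_eq_of_cyclic_ti P hti hy hy1) k hk χ hχ hfaith ?_
  rw [hdn, ← hk]
  refine lt_of_lt_of_le ?_ (Nat.le_of_dvd Nat.card_pos hP)
  nlinarith

end CfsgLib.KpThree
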