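import Cfsg.Agent.Lib.KpThree.Finish
import Cfsg.Agent.Lib.KpThree.Small
import Cfsg.Agent.Lib.KpThree.Dominance
import Cfsg.Agent.Lib.KpThree.Lift
import Cfsg.Agent.Lib.KpThree.Normal
import Cfsg.Agent.Lib.KpThree.Srg
import Cfsg.Agent.Lib.KpThree.Sylow
import Cfsg.Agent.Lib.KpThree.Arith

/-!
# The bound for two orbits
-/

set_option autoImplicit false

namespace CfsgLib.KpThree

universe u

theorem two_le_mul_of_five {D : Type*} [Group D] [Finite D] (h : 3 ≤ Nat.card D) :
    5 ≤ 2 * Nat.card (ConjClasses D) := by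
  by_contra hc
  have := KpRegular.card_le_two_of_classes (D := D) (by omega)
  omega

theorem hsize_of_le {p m : ℕ} (hp : 5 ≤ p) (hm : 3 ≤ m) : p * (2 * m * m) < p ^ m := by
  induction m, hm using Nat.le_induction with
  | base => nlinarith [Nat.mul_le_mul hp hp]
  | succ m hm ih =>
    have h1 : 2 * (m + 1) * (m + 1) ≤ 2 * m * m * 2 := by nlinarith
    calc p * (2 * (m + 1) * (m + 1)) ≤ p * (2 * m * m * 2) := Nat.mul_le_mul_left p h1
      _ = p * (2 * m * m) * 2 := by ring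
      _ < p ^ m * 2 := Nat.mul_lt_mul_of_pos_right ih two_pos
      _ ≤ p ^ m * p := Nat.mul_le_mul_left _ (by omega)
      _ = _ := (pow_succ p m).symm

/-- The normality of a Sylow subgroup with trivial intersections in twice the primitive degree. -/
def TIStep {D : Type*} [Group D] (E : Type*) [AddCommGroup E] [DistribMulAction D E] (p m r : ℕ) : Prop :=
  ∀ P : Sylow r D, (∀ x ∈ P, ∀ y ∈ P, x * y = y * x) →
    (∀ g : D, g ∉ Subgroup.normalizer ((P : Subgroup D) : Set D) →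
      (P : Subgroup D) ⊓ (P : Subgroup D).map (MulAut.conj g).toMonoidHom = ⊥) →
    r ^ 2 ∣ Nat.card (P : Subgroup D) →
    (IsCyclic P ∨ ∃ x ∈ P, ∃ y ∈ P, orderOf x = r ∧ orderOf y = r ∧
      Subgroup.zpowers x ⊓ Subgroup.zpowers y = ⊥ ∧
      Nat.card {e : E // x • e = e} = p ^ m ∧ Nat.card {e : E // y • e = e} = p ^ m ∧
      ∀ e : E, x • e = e → y • e = e → e = 0) →
    (P : Subgroup D).Normal

/-- A `p'`-group with two orbits on the nonzero vectors has many classes, given the TI step. -/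
theorem linear_bound_two_of {D E : Type u} [Group D] [Finite D] [AddCommGroup E] [Finite E]
    [DistribMulAction D E] [FaithfulSMul D E] {p : ℕ} [hp : Fact p.Prime] {n : ℕ} (hn : 0 < n)
    (hp5 : 5 ≤ p) (hE : ∀ e : E, p • e = 0) (hcard : Nat.card E = p ^ n)
    (hD : ¬ p ∣ Nat.card D) (h2 : TwoOrbits D E)
    (hG : ∀ m r : ℕ, r.Prime → n = 2 * m → 3 ≤ m → IsPrim p m r → 2 * m + 1 < r → TIStep (D := D) E p m r) :
    p ≤ 2 * Nat.card (ConjClasses D) ∨
      (n = 1 ∧ 2 * Nat.card D = p - 1 ∧ 2 * Nat.card (ConjClasses D) = p - 1) := by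
  classical
  rcases (show n = 1 ∨ 2 ≤ n by omega) with rfl | hn2
  · exact Or.inr ⟨rfl, line_two hcard h2 rfl⟩
  left
  rcases (show n = 2 ∨ 3 ≤ n by omega) with rfl | hn3
  · exact plane_two hp5 hE hcard hD h2 rfl
  by_cases hs : ScalarClosed p D E
  swap
  · exact of_not_scalarClosed hp5 hE hcard hD h2 hn3 hs
  by_cases hn4 : n ≤ 4
  · exact eigen_small hp5 hE hcard h2 hn3 hn4 hs
  by_cases hp7 : p = 5
  · subst hp7
    have h1 := card_ge hcard h2
    have h3 : 5 ^ 3 ≤ 5 ^ n := Nat.pow_le_pow_right (by norm_num) hn3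
    exact two_le_mul_of_five (by omega)
  obtain ⟨a, b, ha, -⟩ := id h2
  obtain ⟨m, rfl, hdiv⟩ := orbit_arith hE hcard hD h2 (by omega) ha (hs a)
  have hm : 3 ≤ m := by omega
  have horb : Nat.card (MulAction.orbit D a) ∣ Nat.card D := by
    rw [Nat.card_coe_set_eq, ← MulAction.index_stabilizer]
    exact Subgroup.index_dvd_card _
  rcases hdiv with hplus | hminus
  · -- the orbit is divisible by `p ^ m + 1`
    refine of_primitive hp5 hE hcard hD h2 hn3 fun r j hr hrj => ?_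
    obtain ⟨hrp, -, hmin⟩ := hr
    refine (Nat.Coprime.dvd_of_dvd_mul_left (m := p ^ m - 1) (n := p ^ m + 1) (k := r ^ j) ?_ ?_).trans (hplus.trans horb)
    · exact Nat.Coprime.pow_left _ ((hrp.coprime_iff_not_dvd).mpr (hmin m (by omega) (by omega)))
    · have hpm : 1 ≤ p ^ m := Nat.one_le_pow _ _ (by omega)
      have e : (p ^ m - 1) * (p ^ m + 1) = p ^ (2 * m) - 1 := by
        obtain ⟨q, hq⟩ : ∃ q, p ^ m = q + 1 := ⟨p ^ m - 1, by omega⟩
        rw [mul_comm 2 m, pow_mul, hq, Nat.add_sub_cancel]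
        simp only [pow_two, add_mul, mul_add, mul_one, one_mul]
        omega
      rwa [e]
  have hdvd : p ^ m - 1 ∣ Nat.card D := hminus.trans horb
  by_contra hcon
  push Not at hcon
  have hsz : p * (2 * m * m) < p ^ m := hsize_of_le hp5 hm
  have hsylow : ∀ {r : ℕ} [Fact r.Prime] (P : Sylow r D) {j d : ℕ}, p ^ d - 1 ∣ p ^ m - 1 →
      r ^ j ∣ p ^ d - 1 → r ^ j ∣ Nat.card (P : Subgroup D) := by
    intro r _ P j d hd hrj
    exact P.pow_dvd_card_of_pow_dvd_card ((hrj.trans hd).trans hdvd)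
  have hne : ∀ {r : ℕ} [Fact r.Prime] (P : Sylow r D) {d : ℕ}, p ^ d - 1 ∣ p ^ m - 1 →
      r ∣ p ^ d - 1 → (P : Subgroup D) ≠ ⊥ := by
    intro r hr P d hd hrd hbot
    have h := hsylow P (j := 1) hd (by rwa [pow_one])
    rw [hbot, Subgroup.card_bot, pow_one, Nat.dvd_one] at h
    exact hr.out.ne_one h
  have hrge : ∀ {r d : ℕ}, 0 < d → IsPrim p d r → d < r := by
    intro r d hd hr
    haveI := Fact.mk hr.1
    have h := (Zsigmondy.dvd_sub_one_of_primitive hp.out.pos hd hr.2.1 hr.2.2).2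
    have := hr.1.two_le
    have := Nat.le_of_dvd (by omega) h
    omega
  have hlarge : ∀ {r d : ℕ}, 3 ≤ d → p ^ d - 1 ∣ p ^ m - 1 → p * (2 * m * d) < p ^ d → IsPrim p d r →
      4 * m + 1 < r → False := by
    intro r d hd hdm hsz hr hbig
    haveI := Fact.mk hr.1
    obtain ⟨P⟩ : Nonempty (Sylow r D) := inferInstance
    obtain ⟨hPn, hPc⟩ := large_sylow_normal hE hcard hD (by omega) P
    haveI := hPn
    exact absurd (of_normal_prim hp5 hE hcard hD h2 hs (P : Subgroup D) P.2 (hne P hdm hr.2.1) hPc hr hd hsz)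
      (by omega)
  have h1 : ∀ r, IsPrim p m r → r ≤ 4 * m + 1 ∧ (2 * m + 1 < r → ¬ r ^ 2 ∣ p ^ m - 1) := by
    intro r hr
    refine ⟨not_lt.mp fun hbig => hlarge hm dvd_rfl hsz hr hbig, fun hbig hsq => ?_⟩
    haveI := Fact.mk hr.1
    obtain ⟨P⟩ : Nonempty (Sylow r D) := inferInstance
    obtain ⟨hab, hti, hshape⟩ := sylow_structure (by omega) hE hcard hD hr hbig P
    haveI : (P : Subgroup D).Normal := hG m r hr.1 rfl hm hr hbig P hab hti (hsylow P dvd_rfl hsq) hshape
    exact absurd (of_normal_prim hp5 hE hcard hD h2 hs (P : Subgroup D) P.2 (hne P dvd_rfl hr.2.1) hab hr hm hsz)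
      (by omega)
  have h2' : ∀ r j, IsPrim p m r → r ^ j ∣ p ^ m - 1 → r ^ j ≤ 2 * m ^ 2 * p := by
    intro r j hr hrj
    haveI := Fact.mk hr.1
    obtain ⟨P⟩ : Nonempty (Sylow r D) := inferInstance
    have hr2 := hrge (by omega) hr
    have h := sylow_le_mul_classes hE hcard (l := 2) hr hm rfl (by omega) P
    have hj := Nat.le_of_dvd Nat.card_pos (hsylow P dvd_rfl hrj)
    calc r ^ j ≤ (2 * m) ^ 2 * Nat.card (ConjClasses D) := hj.trans h
      _ = 2 * m ^ 2 * (2 * Nat.card (ConjClasses D)) := by ring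
      _ ≤ 2 * m ^ 2 * p := Nat.mul_le_mul_left _ hcon.le
  have h3 : m = 6 → ∀ r j, IsPrim p 3 r → r ^ j ∣ p ^ 3 - 1 → r ≤ 25 ∧ r ^ j ≤ 10368 * p := by
    rintro rfl r j hr hrj
    have hdm : p ^ 3 - 1 ∣ p ^ 6 - 1 := Nat.pow_sub_one_dvd_pow_sub_one p (by norm_num)
    have hp' : 7 ≤ p := by
      have := hp.out
      by_contra h
      interval_cases p <;> first | omega | norm_num at this
    refine ⟨not_lt.mp fun hbig => hlarge le_rfl hdm (by nlinarith [Nat.mul_le_mul hp' hp']) hr hbig, ?_⟩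
    haveI := Fact.mk hr.1
    obtain ⟨P⟩ : Nonempty (Sylow r D) := inferInstance
    have hr2 := hrge (d := 3) (by omega) hr
    have hr7 : 4 < r := by
      have := hr.1
      by_contra h
      interval_cases r
      norm_num at this
    have h := sylow_le_mul_classes hE hcard (l := 4) hr le_rfl rfl hr7 P
    have hj := Nat.le_of_dvd Nat.card_pos (hsylow P hdm hrj)
    calc r ^ j ≤ (2 * 6) ^ 4 * Nat.card (ConjClasses D) := hj.trans h
      _ = 10368 * (2 * Nat.card (ConjClasses D)) := by ring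
      _ ≤ 10368 * p := Nat.mul_le_mul_left _ hcon.le
  obtain ⟨rfl, hlist⟩ := small_minus hp.out hp5 hm h1 h2' h3
  rcases hlist with h | h | h | h
  · exact hp7 h
  · have := small_seven h hdvd
    omega
  · have := small_thirteen h hE hcard hdvd
    omega
  · have h23 : Fact (Nat.Prime 23) := ⟨by norm_num⟩
    have := small_fortyseven h hE h2 hD hdvd fun P => large_sylow_normal hE hcard hD (by norm_num) P
    omega

end CfsgLib.KpThree
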