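import Mathlib

/-!
# A trace argument on lattices

If a subgroup `H₀` of `M` acts freely on the cosets of `M` other than `M` itself and the sum of
the elements of `H₀` is divisible by a non-unit on an invariant lattice, then every vector fixed
by `M` is fixed by the whole group.
-/

set_option autoImplicit false

namespace CfsgLib.KpThree.Trace

open Module

variable {G : Type*} [Group G] [Finite G] {V : Type*} [AddCommGroup V] [Module ℂ V]

/-- A linear map which is divisible by an integer `r ≥ 2` on a spanning lattice has no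
eigenvalue `±1` when divided. -/
theorem eigen_not_unit {W : Type*} [AddCommGroup W] [Module ℂ W] (L : Submodule ℤ W) (hfg : L.FG)
    (hspan : Submodule.span ℂ (L : Set W) = ⊤) (h : W →ₗ[ℂ] W) (hL : ∀ v ∈ L, h v ∈ L)
    {r : ℕ} (hr : 1 < r) {w : W} {ε : ℂ} (hε : ε = 1 ∨ ε = -1) (hw : (r : ℂ) • h w = ε • w) :
    w = 0 := by
  classical
  haveI : Module.Finite ℤ L := Module.Finite.iff_fg.mpr hfg
  let hres : L →ₗ[ℤ] L := (h.restrictScalars ℤ).restrict hL
  obtain ⟨P, hP, hP0⟩ : IsIntegral ℤ hres := Algebra.IsIntegral.isIntegral hres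
  -- the polynomial kills `h` on the whole space
  have hpow : ∀ (i : ℕ) (v : L), ((hres ^ i) v : W) = (h ^ i) (v : W) := by
    intro i
    induction i with
    | zero => intro v; simp
    | succ i ih =>
      intro v
      rw [pow_succ', pow_succ', Module.End.mul_apply, Module.End.mul_apply, ← ih v]
      rfl
  have hkill : ∀ v : W, (Polynomial.aeval h P) v = 0 := by
    intro v
    have : Submodule.span ℂ (L : Set W) ≤ LinearMap.ker (Polynomial.aeval h P) := by
      refine Submodule.span_le.2 fun u hu => ?_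
      rw [SetLike.mem_coe, LinearMap.mem_ker]
      have h1 : (Polynomial.aeval hres P) ⟨u, hu⟩ = 0 := by
        rw [Polynomial.aeval_def, hP0]; rfl
      have h2 := congrArg Subtype.val h1
      rw [Polynomial.aeval_eq_sum_range, LinearMap.sum_apply, AddSubmonoidClass.coe_finsetSum,
        ZeroMemClass.coe_zero] at h2
      rw [Polynomial.aeval_eq_sum_range, LinearMap.sum_apply, ← h2]
      refine Finset.sum_congr rfl fun i _ => ?_
      simp [hpow]
    rw [← LinearMap.mem_ker]
    exact this (hspan ▸ Submodule.mem_top)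
  by_contra hw0
  have hr0 : (r : ℂ) ≠ 0 := Nat.cast_ne_zero.mpr (by omega)
  have heig : Module.End.HasEigenvector h ((r : ℂ)⁻¹ * ε) w := by
    refine ⟨Module.End.mem_eigenspace_iff.2 ?_, hw0⟩
    rw [mul_smul, ← hw, smul_smul, inv_mul_cancel₀ hr0, one_smul]
  have hP' : (P.map (algebraMap ℤ ℂ)).eval ((r : ℂ)⁻¹ * ε) = 0 := by
    have h1 := Module.End.aeval_apply_of_hasEigenvector (p := P.map (algebraMap ℤ ℂ)) heig
    rw [Polynomial.aeval_map_algebraMap, hkill w] at h1
    exact (smul_eq_zero.1 h1.symm).resolve_right hw0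
  have hint : IsIntegral ℤ ((r : ℂ)⁻¹ * ε) :=
    ⟨P, hP, by rwa [← Polynomial.eval_map]⟩
  have hint2 : IsIntegral ℤ ((r : ℂ)⁻¹) := by
    rcases hε with rfl | rfl
    · simpa using hint
    · simpa using hint.neg
  have hint3 : IsIntegral ℤ ((r : ℚ)⁻¹) := by
    refine (isIntegral_algebraMap_iff (algebraMap ℚ ℂ).injective).1 ?_
    simpa using hint2
  obtain ⟨z, hz⟩ := IsIntegrallyClosed.isIntegral_iff.1 hint3
  have hz2 : (z : ℚ) * r = 1 := by
    rw [eq_intCast] at hz
    rw [hz, inv_mul_cancel₀ (Nat.cast_ne_zero.mpr (by omega))]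
  have hz3 : z * (r : ℤ) = 1 := by exact_mod_cast hz2
  have := Int.eq_one_of_mul_eq_one_left (by positivity) hz3
  omega

theorem fixed_of_fixed [FiniteDimensional ℂ V] (σ : Representation ℂ G V) (M H₀ : Subgroup G)
    (hH : H₀ ≤ M) (hfree : ∀ g, g ∉ M → ∀ h ∈ H₀, h ≠ 1 → g⁻¹ * h * g ∉ M)
    (L : Submodule ℤ V) (hfg : L.FG) (hspan : Submodule.span ℂ (L : Set V) = ⊤)
    (hstab : ∀ g, ∀ v ∈ L, σ g v ∈ L) (c : ℂ) (hc0 : c ≠ 0) (hcL : ∀ v ∈ L, c • v ∈ L)
    {r N : ℕ} (hr : 1 < r) (hcr : ∀ v ∈ L, ∃ u ∈ L, c ^ N • v = (r : ℂ) • u)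
    (hnil : ∀ v ∈ L, ∃ u ∈ L, ∑ᶠ h : H₀, σ (h : G) v = c • u)
    {w : V} (hw : ∀ m ∈ M, σ m w = w) : ∀ g, σ g w = w := by
  classical
  cases nonempty_fintype G
  let W : Submodule ℂ V :=
    { carrier := {v | ∀ m ∈ M, σ m v = v}
      zero_mem' := fun m _ => map_zero _
      add_mem' := fun {a b} ha hb m hm => by rw [map_add, ha m hm, hb m hm]
      smul_mem' := fun a v hv m hm => by rw [map_smul, hv m hm] }
  -- the relative trace
  let f : V →ₗ[ℂ] V := ∑ q : G ⧸ M, σ q.out
  have hfix : ∀ v ∈ W, ∀ g : G, σ g (f v) = f v := by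
    intro v hv g
    simp only [f, LinearMap.sum_apply, map_sum]
    refine Fintype.sum_equiv (MulAction.toPerm g) _ _ fun q => ?_
    obtain ⟨m, hm⟩ := QuotientGroup.mk_out_eq_mul M (g * q.out)
    have hq : (QuotientGroup.mk (g * q.out) : G ⧸ M) = g • q := by
      conv_rhs => rw [← QuotientGroup.out_eq' q]
      rfl
    rw [hq] at hm
    show σ g (σ q.out v) = σ (g • q).out v
    rw [hm, map_mul, Module.End.mul_apply (σ (g * q.out)), hv m m.2, map_mul, Module.End.mul_apply]
  have hfW : ∀ v ∈ W, f v ∈ W := fun v hv m _ => hfix v hv m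
  -- the sum off the base coset is divisible by `c`
  have hdiv : ∀ v ∈ L, v ∈ W → ∃ u ∈ L, f v - v = c • u := by
    intro v hv hvW
    let D' : Set V := {x | ∃ u ∈ L, x = c • u}
    have hzero : (0 : V) ∈ D' := ⟨0, L.zero_mem, (smul_zero c).symm⟩
    have hadd : ∀ a b, a ∈ D' → b ∈ D' → a + b ∈ D' := by
      rintro _ _ ⟨u, hu, rfl⟩ ⟨u', hu', rfl⟩
      exact ⟨u + u', L.add_mem hu hu', (smul_add c u u').symm⟩
    set φ : G ⧸ M → V := fun q => σ q.out v with hφ
    have hφmk : ∀ g : G, φ (QuotientGroup.mk g) = σ g v := fun g => by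
      obtain ⟨m, hm⟩ := QuotientGroup.mk_out_eq_mul M g
      show σ (QuotientGroup.mk (s := M) g).out v = σ g v
      rw [hm, map_mul, Module.End.mul_apply, hvW m m.2]
    let o : G ⧸ M := QuotientGroup.mk 1
    have hfv : f v - v = ∑ q ∈ Finset.univ.erase o, φ q := by
      have h0 : φ o = v := by rw [hφmk, map_one]; rfl
      have hsum : f v = ∑ q, φ q := by simp [f, φ]
      rw [hsum, ← Finset.add_sum_erase _ _ (Finset.mem_univ o), h0, add_sub_cancel_left]
    rw [hfv]
    -- group the other cosets into orbits of `H₀`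
    rw [← Finset.sum_fiberwise_of_maps_to (g := fun q : G ⧸ M =>
      (Quotient.mk (MulAction.orbitRel H₀ (G ⧸ M)) q))
      (t := Finset.univ) (fun _ _ => Finset.mem_univ _)]
    refine Finset.sum_induction _ (· ∈ D') hadd hzero fun O _ => ?_
    by_cases hne : ((Finset.univ.erase o).filter fun q =>
        (Quotient.mk (MulAction.orbitRel H₀ (G ⧸ M)) q) = O).Nonempty
    swap
    · rw [Finset.not_nonempty_iff_eq_empty.1 hne, Finset.sum_empty]; exact hzero
    obtain ⟨q₀, hq₀⟩ := hne
    simp only [Finset.mem_filter, Finset.mem_erase, Finset.mem_univ, and_true] at hq₀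
    obtain ⟨g, rfl⟩ := QuotientGroup.mk_surjective q₀
    have hg : g ∉ M := fun hg => hq₀.1 (QuotientGroup.eq.2 (by simpa using M.inv_mem hg))
    obtain ⟨u, hu, hsum⟩ := hnil (σ g v) (hstab g v hv)
    refine ⟨u, hu, Eq.trans ?_ hsum⟩
    rw [finsum_eq_sum_of_fintype]
    symm
    refine Finset.sum_bij (fun h _ => (QuotientGroup.mk ((h : G) * g) : G ⧸ M)) (fun h _ => ?_)
      (fun h₁ _ h₂ _ e => ?_) (fun q hq => ?_) (fun h _ => ?_)
    · simp only [Finset.mem_filter, Finset.mem_erase, Finset.mem_univ, and_true]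
      refine ⟨fun e => hg ?_, ?_⟩
      · have h1 : ((h : G) * g) ∈ M := by simpa using M.inv_mem (QuotientGroup.eq.1 e)
        simpa using M.mul_mem (M.inv_mem (hH h.2)) h1
      · rw [← hq₀.2]
        exact Quotient.sound ⟨h, rfl⟩
    · have h1 := QuotientGroup.eq.1 e
      by_contra hne'
      refine hfree g hg _ (H₀.mul_mem (H₀.inv_mem h₁.2) h₂.2) (fun e' => hne' ?_) ?_
      · exact Subtype.ext (inv_mul_eq_one.1 e')
      · simpa [mul_assoc] using h1
    · simp only [Finset.mem_filter, Finset.mem_erase, Finset.mem_univ, and_true] at hq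
      obtain ⟨h, hh⟩ := Quotient.exact (hq.2.trans hq₀.2.symm)
      exact ⟨h, Finset.mem_univ _, hh⟩
    · rw [hφmk, map_mul, Module.End.mul_apply]
  -- the restriction to the fixed space
  let g₀ : W →ₗ[ℂ] W := f.restrict hfW - LinearMap.id
  let LW : Submodule ℤ W := L.comap (W.subtype.restrictScalars ℤ)
  have hLWfg : LW.FG := by
    haveI : Module.Finite ℤ L := Module.Finite.iff_fg.mpr hfg
    let i : LW →ₗ[ℤ] L := (W.subtype.restrictScalars ℤ).restrict fun x hx => hx
    have hi : Function.Injective i := fun a b e => Subtype.ext (Subtype.ext (congrArg Subtype.val e :))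
    exact Module.Finite.iff_fg.1 (Module.Finite.of_injective i hi)
  have hWspan : Submodule.span ℂ (LW : Set W) = ⊤ := by
    let T : V →ₗ[ℂ] W := LinearMap.codRestrict W (∑ m : M, σ (m : G)) fun v m hm => by
      rw [LinearMap.sum_apply, map_sum]
      refine Fintype.sum_equiv (Equiv.mulLeft ⟨m, hm⟩) _ _ fun a => ?_
      simp [map_mul]
    have hTL : T '' (L : Set V) ⊆ (LW : Set W) := by
      rintro _ ⟨v, hv, rfl⟩
      show ((T v : W) : V) ∈ L
      simp only [T, LinearMap.codRestrict_apply, LinearMap.sum_apply]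
      exact Submodule.sum_mem _ fun m _ => hstab _ _ hv
    refine eq_top_iff.2 fun x _ => ?_
    have hx : T (x : V) = (Nat.card M : ℂ) • x := by
      refine Subtype.ext ?_
      simp only [T, LinearMap.codRestrict_apply, LinearMap.sum_apply]
      rw [Finset.sum_congr rfl (fun (m : M) _ => x.2 (m : G) m.2), Finset.sum_const, Finset.card_univ,
        Nat.card_eq_fintype_card, Submodule.coe_smul, Nat.cast_smul_eq_nsmul]
    have hmem : T (x : V) ∈ Submodule.span ℂ (LW : Set W) := by
      have : T (x : V) ∈ Submodule.map T (Submodule.span ℂ (L : Set V)) :=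
        Submodule.mem_map_of_mem (hspan ▸ Submodule.mem_top)
      rw [Submodule.map_span] at this
      exact Submodule.span_mono hTL this
    rw [hx] at hmem
    exact (Submodule.smul_mem_iff _ (Nat.cast_ne_zero.mpr Nat.card_pos.ne')).1 hmem
  have hstep : ∀ i : ℕ, ∀ v ∈ LW, ∃ u ∈ LW, (g₀ ^ i) v = c ^ i • u := by
    intro i
    induction i with
    | zero => exact fun v hv => ⟨v, hv, by simp⟩
    | succ i ih =>
      intro v hv
      obtain ⟨u, hu, e⟩ := ih v hv
      obtain ⟨u', hu', e'⟩ := hdiv (u : V) hu u.2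
      have hu'W : u' ∈ W := by
        have : c • u' ∈ W := e' ▸ W.sub_mem (hfW _ u.2) u.2
        exact (Submodule.smul_mem_iff _ hc0).1 this
      refine ⟨⟨u', hu'W⟩, hu', ?_⟩
      rw [pow_succ', Module.End.mul_apply, e, map_smul, pow_succ, mul_smul]
      congr 1
      refine Subtype.ext ?_
      rw [Submodule.coe_smul, ← e']
      rfl
  let h : W →ₗ[ℂ] W := (r : ℂ)⁻¹ • g₀ ^ N
  have hr0 : (r : ℂ) ≠ 0 := Nat.cast_ne_zero.mpr (by omega)
  have hhL : ∀ v ∈ LW, h v ∈ LW := by
    intro v hv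
    obtain ⟨u, hu, e⟩ := hstep N v hv
    obtain ⟨u', hu', e'⟩ := hcr (u : V) hu
    show ((h v : W) : V) ∈ L
    rw [LinearMap.smul_apply, e, Submodule.coe_smul, Submodule.coe_smul, e', smul_smul,
      inv_mul_cancel₀ hr0, one_smul]
    exact hu'
  -- injectivity
  have hinj : Function.Injective (f.restrict hfW) := by
    rw [injective_iff_map_eq_zero]
    intro x hx
    have hg : ∀ i : ℕ, (g₀ ^ i) x = ((-1 : ℂ) ^ i) • x := by
      intro i
      induction i with
      | zero => simp
      | succ i ih =>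
        rw [pow_succ', Module.End.mul_apply, ih, map_smul]
        show (-1 : ℂ) ^ i • (f.restrict hfW x - x) = (-1 : ℂ) ^ (i + 1) • x
        rw [hx, zero_sub, pow_succ, mul_smul, neg_smul, one_smul]
    refine eigen_not_unit LW hLWfg hWspan h hhL hr (ε := (-1 : ℂ) ^ N) ?_ ?_
    · rcases neg_one_pow_eq_or ℂ N with h | h <;> simp [h]
    · rw [LinearMap.smul_apply, hg, smul_smul, mul_inv_cancel₀ hr0, one_smul]
  intro g
  obtain ⟨x, hx⟩ := LinearMap.surjective_of_injective hinj ⟨w, hw⟩
  have hxw : f (x : V) = w := congrArg Subtype.val hx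
  rw [← hxw]
  exact hfix _ x.2 g

end CfsgLib.KpThree.Trace
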